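import Cfsg.Agent.H436.TTBase
import Cfsg.Agent.H436.TTNum
import Cfsg.Agent.S0144
import Cfsg.Agent.S0252
import Cfsg.Agent.S0253
import Cfsg.Agent.S0255
import Cfsg.Agent.S0799
import Cfsg.Agent.S0813
import Cfsg.Agent.ClassicalGeometry.PSL2ElemOrder
import Cfsg.Agent.ClassicalGeometry.PSL2Solvable
import Cfsg.Agent.ClassicalGeometry.MinIndexPSL2

/-!
# 2-transitive groups with socle `L₂(q)` (helper436, HUB H1, part P9)

`psl2` : if `A : AS G Ω T` and `T ≅ L₂(q)` then `(T, |Ω|)` is in the list `Known2`.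
-/

set_option autoImplicit false

namespace Cfsg.Agent.H436.TT

open MulAction Cfsg.Agent.H384.TwoTrans
open Cfsg.Agent.ClassicalGeometry

universe u v

section sylow

variable {F : Type*} [Field F] [Fintype F]

theorem index_borel : ((PSL2Solvable.borel F).map
    (QuotientGroup.mk' (Subgroup.center (Matrix.SpecialLinearGroup (Fin 2) F)))).index = Fintype.card F + 1 := by
  classical
  let _ := SL2Line.slLineAction (F := F)
  have h1 : PSL2Solvable.borel F =
      MulAction.stabilizer (Matrix.SpecialLinearGroup (Fin 2) F) (OnePoint.infty : OnePoint F) := by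
    ext g
    rw [PSL2Solvable.mem_borel_iff, MulAction.mem_stabilizer_iff, SL2Line.sl_smul_infty_eq_iff]
  rw [Subgroup.index_map_eq _ (QuotientGroup.mk'_surjective _), h1, MinIndexPSL2.index_stabilizer_infty,
    Nat.card_eq_fintype_card]
  intro g hg
  rw [QuotientGroup.ker_mk'] at hg
  rw [PSL2Solvable.mem_borel_iff]
  rcases PSL2Basic.mem_center_SL2_iff.1 hg with rfl | rfl
  · simp
  · simp

theorem index_normalizer (p : ℕ) [Fact p.Prime] [CharP F p]
    (P : Sylow p (Matrix.ProjectiveSpecialLinearGroup (Fin 2) F)) :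
    (Subgroup.normalizer ((P : Subgroup (Matrix.ProjectiveSpecialLinearGroup (Fin 2) F)) :
      Set (Matrix.ProjectiveSpecialLinearGroup (Fin 2) F))).index = Fintype.card F + 1 := by
  classical
  set π := QuotientGroup.mk' (Subgroup.center (Matrix.SpecialLinearGroup (Fin 2) F)) with hπ
  have hsurj : Function.Surjective π := QuotientGroup.mk'_surjective _
  set P0 := (Cfsg.Agent.LieClassical.SLTwoUnipotent.upperUnipSylowSL F p).mapSurjective hsurj with hP0
  have h1 : (PSL2Solvable.borel F).map π ≤ Subgroup.normalizer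
      ((P0 : Subgroup (Matrix.ProjectiveSpecialLinearGroup (Fin 2) F)) :
        Set (Matrix.ProjectiveSpecialLinearGroup (Fin 2) F)) := Subgroup.le_normalizer_map π
  obtain ⟨g, hg⟩ := PSL2Solvable.exists_le_map_borel p P0
  have h2 := Subgroup.index_antitone h1
  have h3 := Subgroup.index_antitone hg
  rw [Subgroup.index_map_of_bijective (MulAut.conj g).bijective] at h3
  have h4 := (le_antisymm h2 h3)
  have h5 := P.card_eq_index_normalizer.symm.trans P0.card_eq_index_normalizer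
  exact h5.trans (h4.trans index_borel)

theorem four_le {X : Type*} [Group X] [Finite X] [IsSimpleGroup X] (hna : ¬ IsMulCommutative X)
    (e : X ≃* Matrix.ProjectiveSpecialLinearGroup (Fin 2) F) : 4 ≤ Fintype.card F := by
  by_contra hcon
  have h1 : 1 < Fintype.card F := Fintype.one_lt_card
  have h2 := PSL2Basic.card_PSL2_gcd (F := F)
  have h3 : Nat.card X = Nat.card (Matrix.ProjectiveSpecialLinearGroup (Fin 2) F) := Nat.card_congr e.toEquiv
  have hs : Group.IsSolvable X := by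
    have h4 : Fintype.card F = 2 ∨ Fintype.card F = 3 := by omega
    rcases h4 with h4 | h4
    · rw [h4] at h2
      apply Cfsg.Agent.S0144.result 2 3 1 1 Nat.prime_two Nat.prime_three
      rw [h3]
      have : Nat.gcd 2 (2 - 1) = 1 := rfl
      rw [this] at h2
      omega
    · rw [h4] at h2
      apply Cfsg.Agent.S0144.result 2 3 2 1 Nat.prime_two Nat.prime_three
      rw [h3]
      have : Nat.gcd 2 (3 - 1) = 2 := rfl
      rw [this] at h2
      omega
  exact hna ⟨⟨IsSimpleGroup.comm_iff_isSolvable.mpr hs⟩⟩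

theorem card_mulAut (p f : ℕ) [Fact p.Prime] (hF : Fintype.card F = p ^ f) (hf : 1 ≤ f) (h4 : 4 ≤ Fintype.card F) :
    Nat.card (MulAut (Matrix.ProjectiveSpecialLinearGroup (Fin 2) F)) =
      Nat.gcd 2 (Fintype.card F - 1) * f * Nat.card (Matrix.ProjectiveSpecialLinearGroup (Fin 2) F) := by
  rw [Cfsg.Agent.S0813.result p f hf hF 2 le_rfl (fun _ => by rw [← hF]; exact h4), if_pos rfl,
    PSL2Basic.card_PGL2, ← PSL2Basic.card_PSL2_gcd]
  ring

end sylow

section main

variable {G : Type u} {Ω : Type v} [Group G] [MulAction G Ω] {T : Subgroup G}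

theorem numbers (A : AS G Ω T) (F : Type*) [Field F] [Fintype F]
    (e : ↥T ≃* Matrix.ProjectiveSpecialLinearGroup (Fin 2) F) :
    Nat.card Ω = Fintype.card F + 1 ∨ (Fintype.card F = 4 ∧ Nat.card Ω = 6) ∨
      (Fintype.card F = 8 ∧ Nat.card Ω = 28) ∨ (Fintype.card F = 4 ∧ Nat.card Ω = 5) ∨
      (Fintype.card F = 5 ∧ Nat.card Ω = 5) ∨ (Fintype.card F = 7 ∧ Nat.card Ω = 7) ∨
      (Fintype.card F = 9 ∧ Nat.card Ω = 6) ∨ (Fintype.card F = 11 ∧ Nat.card Ω = 11) := by
  have := A.finG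
  have := A.finΩ
  have := A.simple
  have := nontrivial_omega A
  have hq4 := four_le A.nonab e
  obtain ⟨p, hpc⟩ := CharP.exists F
  obtain ⟨f, hp, hF⟩ := FiniteField.card F p
  have : Fact p.Prime := ⟨hp⟩
  obtain ⟨a⟩ : Nonempty Ω := inferInstance
  have hn := one_lt_card A
  have hidx := index_stab A a
  obtain ⟨q, hq⟩ : ∃ q, Fintype.card F = q := ⟨_, rfl⟩
  obtain ⟨n, hn'⟩ : ∃ n, Nat.card Ω = n := ⟨_, rfl⟩
  obtain ⟨h, hh⟩ : ∃ h, Nat.card (stabilizer ↥T a) = h := ⟨_, rfl⟩
  obtain ⟨d, hd⟩ : ∃ d, d = Nat.gcd 2 (q - 1) := ⟨_, rfl⟩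
  have hcT : Nat.card ↥T = Nat.card (Matrix.ProjectiveSpecialLinearGroup (Fin 2) F) := Nat.card_congr e.toEquiv
  have hdvd : n - 1 ∣ d * f * h := by
    have h1 := sub_one_dvd A (D := d * f) ?_ a
    · rwa [hn', hh] at h1
    · rw [card_mulAut_congr e, card_mulAut p f hF f.pos hq4, hcT, hd, hq]
  have ht : d * (n * h) = q * (q ^ 2 - 1) := by
    rw [← hn', ← hh, ← hidx, Subgroup.index_mul_card, hcT, hd, mul_comm, ← hq, PSL2Basic.card_PSL2_gcd]
  rw [hq] at hF hq4 ⊢
  rw [hn'] at hn ⊢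
  have hd0 : 0 < d := by rw [hd]; exact Nat.gcd_pos_of_pos_left _ (by norm_num)
  have hd2 : d ≤ 2 := by rw [hd]; exact Nat.gcd_le_left _ (by norm_num)
  set H : Subgroup (Matrix.ProjectiveSpecialLinearGroup (Fin 2) F) := (stabilizer ↥T a).map e.toMonoidHom with hH
  have hHc : Nat.card H = h := by
    rw [hH, ← hh]
    exact (Nat.card_congr ((stabilizer ↥T a).equivMapOfInjective e.toMonoidHom e.injective).toEquiv).symm
  have small : d * h ≤ 2 * (q + 1) → (q = 4 ∧ n = 6) ∨ (q = 8 ∧ n = 28) :=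
    fun h1 => num_small hp f.pos hF hq4 hd ht hdvd h1
  have exc : h = 12 ∨ h = 24 ∨ h = 60 →
      (q = 4 ∧ n = 5) ∨ (q = 5 ∧ n = 5) ∨ (q = 7 ∧ n = 7) ∨ (q = 9 ∧ n = 6) ∨ (q = 11 ∧ n = 11) :=
    fun h1 => num_exc hp f.pos hF hq4 hd hn ht hdvd h1
  rcases Cfsg.Agent.S0799.result hq p H with ⟨k, hk, h1⟩ | ⟨P, K, hK, ⟨e1⟩⟩ | ⟨⟨e1⟩⟩ | ⟨⟨e1⟩⟩ | ⟨⟨e1⟩⟩ |
    ⟨K, _, _, m, hm, h1⟩
  · -- cyclic or dihedral
    have hdk : d * k ≤ q + 1 := by
      rw [← hd] at hk
      rcases hk with hk | hk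
      · have h2 : 0 < (q + 1) / d := Nat.div_pos (by omega) hd0
        calc d * k ≤ d * ((q + 1) / d) := Nat.mul_le_mul_left _ (Nat.le_of_dvd h2 hk)
          _ ≤ q + 1 := Nat.mul_div_le _ _
      · have h2 : 0 < (q - 1) / d := Nat.div_pos (by omega) hd0
        calc d * k ≤ d * ((q - 1) / d) := Nat.mul_le_mul_left _ (Nat.le_of_dvd h2 hk)
          _ ≤ q - 1 := Nat.mul_div_le _ _
          _ ≤ q + 1 := by omega
    have hdh : d * h ≤ 2 * (q + 1) := by
      rcases h1 with ⟨-, h1⟩ | ⟨⟨e1⟩⟩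
      · rw [hHc] at h1
        rw [h1]
        omega
      · have h2 : Nat.card H = 2 * k := by rw [Nat.card_congr e1.toEquiv, DihedralGroup.nat_card]
        rw [hHc] at h2
        rw [h2]
        calc d * (2 * k) = 2 * (d * k) := by ring
          _ ≤ _ := by omega
    rcases small hdh with h2 | h2
    · exact Or.inr (Or.inl h2)
    · exact Or.inr (Or.inr (Or.inl h2))
  · -- Borel
    by_cases hph : p ∣ h
    · left
      have hQ : ∀ Q : Sylow p ↥H, (Q : Subgroup ↥H).Normal := by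
        intro Q
        have hs : Function.Surjective e1.toMonoidHom := e1.surjective
        have h1 := sylow_normal_of_le P hK (Q.mapSurjective hs)
        have h2 : (Q : Subgroup ↥H) = ((Q.mapSurjective hs : Sylow p ↥K) : Subgroup ↥K).comap e1.toMonoidHom := by
          rw [Sylow.coe_mapSurjective, Subgroup.comap_map_eq_self_of_injective e1.injective]
        rw [h2]
        exact h1.comap _
      obtain ⟨Q⟩ : Nonempty (Sylow p ↥H) := inferInstance
      obtain ⟨P1, hP1⟩ := PSL2ElemOrder.exists_le_normalizer_of_sylow_normal p H Q (hQ Q) (by rw [hHc]; exact hph)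
      have h2 := index_eq_of_ti' A e a (PSL2ElemOrder.sylow_eq_of_mem p) P1 hP1 (by rw [hh]; exact hph)
      rw [← hn', h2, index_normalizer, hq]
    · -- `h` divides `(q - 1) / d`
      have h1 : h ∣ Nat.card (Subgroup.normalizer ((P : Subgroup (Matrix.ProjectiveSpecialLinearGroup (Fin 2) F)) :
          Set (Matrix.ProjectiveSpecialLinearGroup (Fin 2) F))) := by
        rw [← hHc, Nat.card_congr e1.toEquiv]
        exact Subgroup.card_dvd_of_le hK
      have h2 : d * h ∣ q * (q - 1) := by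
        have h3 := Subgroup.index_mul_card (Subgroup.normalizer
          ((P : Subgroup (Matrix.ProjectiveSpecialLinearGroup (Fin 2) F)) :
            Set (Matrix.ProjectiveSpecialLinearGroup (Fin 2) F)))
        rw [index_normalizer, hq] at h3
        have h4 := PSL2Basic.card_PSL2_gcd (F := F)
        rw [← h3, hq, ← hd, sq_sub_one] at h4
        have h5 : d * Nat.card (Subgroup.normalizer
          ((P : Subgroup (Matrix.ProjectiveSpecialLinearGroup (Fin 2) F)) :
            Set (Matrix.ProjectiveSpecialLinearGroup (Fin 2) F))) = q * (q - 1) := by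
          apply Nat.eq_of_mul_eq_mul_left (show 0 < q + 1 by omega)
          calc _ = (q + 1) * Nat.card (Subgroup.normalizer
                ((P : Subgroup (Matrix.ProjectiveSpecialLinearGroup (Fin 2) F)) :
                  Set (Matrix.ProjectiveSpecialLinearGroup (Fin 2) F))) * d := by ring
            _ = _ := h4
            _ = _ := by ring
        rw [← h5]
        exact Nat.mul_dvd_mul_left _ h1
      have h3 : Nat.Coprime h q := by
        rw [hF]
        exact Nat.Coprime.pow_right _ ((Nat.Prime.coprime_iff_not_dvd hp).2 hph).symm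
      have h4 : h ∣ q - 1 := by
        apply h3.dvd_of_dvd_mul_left
        exact (Dvd.intro_left d rfl).trans h2
      have h5 := Nat.le_of_dvd (by omega) h4
      have hdh : d * h ≤ 2 * (q + 1) := Nat.mul_le_mul hd2 (by omega)
      rcases small hdh with h2 | h2
      · exact Or.inr (Or.inl h2)
      · exact Or.inr (Or.inr (Or.inl h2))
  · have h1 : h = 12 := by
      rw [← hHc, Nat.card_congr e1.toEquiv, nat_card_alternatingGroup]
      simp [Nat.factorial]
    exact Or.inr (Or.inr (Or.inr (exc (Or.inl h1))))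
  · have h1 : h = 24 := by
      rw [← hHc, Nat.card_congr e1.toEquiv, Nat.card_perm]
      simp [Nat.factorial]
    exact Or.inr (Or.inr (Or.inr (exc (Or.inr (Or.inl h1)))))
  · have h1 : h = 60 := by
      rw [← hHc, Nat.card_congr e1.toEquiv, nat_card_alternatingGroup]
      simp [Nat.factorial]
    exact Or.inr (Or.inr (Or.inr (exc (Or.inr (Or.inr h1)))))
  · -- subfield
    exfalso
    obtain ⟨r, hrc⟩ := CharP.exists K
    obtain ⟨b, hr, hK⟩ := FiniteField.card K r
    have hm1 : 1 ≤ m := by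
      rcases Nat.eq_zero_or_pos m with h2 | h2
      · rw [h2, pow_zero] at hm
        omega
      · exact h2
    have hrp : r = p := by
      have h2 : r ∣ p ^ (f : ℕ) := by
        rw [← hF, ← hm, hK, ← pow_mul]
        exact dvd_pow_self r (by have := b.pos; positivity)
      exact (Nat.prime_dvd_prime_iff_eq hr hp).1 (hr.dvd_of_dvd_pow h2)
    subst hrp
    have hf : (f : ℕ) = b * m := by
      apply Nat.pow_right_injective hr.two_le
      change r ^ (f : ℕ) = r ^ ((b : ℕ) * m)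
      rw [← hF, ← hm, hK, pow_mul]
    rw [hf] at hdvd
    rcases h1 with ⟨⟨e1⟩⟩ | ⟨⟨e1⟩⟩
    · refine num_sub (g := Nat.gcd 2 (Fintype.card K - 1)) hr b.pos hK hm1 hm.symm hq4 hd (Or.inr rfl) ?_ hn ht hdvd
      rw [← hHc, Nat.card_congr e1.toEquiv, mul_comm, PSL2Basic.card_PSL2_gcd]
    · refine num_sub (g := 1) hr b.pos hK hm1 hm.symm hq4 hd (Or.inl rfl) ?_ hn ht hdvd
      rw [← hHc, Nat.card_congr e1.toEquiv, one_mul, PSL2Basic.card_PGL2]

/-- **P9, `L₂(q)`.** -/
theorem psl2 (A : AS G Ω T) (F : Type) [Field F] [Fintype F]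
    (e : Nonempty (↥T ≃* Matrix.ProjectiveSpecialLinearGroup (Fin 2) F)) : Known2 ↥T (Nat.card Ω) := by
  obtain ⟨e⟩ := e
  have := A.finG
  have := A.simple
  have hq4 := four_le A.nonab e
  rcases numbers A F e with h | ⟨hF, hn⟩ | ⟨hF, hn⟩ | ⟨hF, hn⟩ | ⟨hF, hn⟩ | ⟨hF, hn⟩ | ⟨hF, hn⟩ | ⟨hF, hn⟩
  · refine Known2.psl F 2 _ le_rfl (fun _ => hq4) ⟨e⟩ ?_
    rw [h, sq_sub_one]
    ring
  · have : Fact (Nat.Prime 5) := ⟨by norm_num⟩
    obtain ⟨e1⟩ := Cfsg.Agent.S0252.result hF
    obtain ⟨e2⟩ := Cfsg.Agent.S0253.result (F := ZMod 5) (ZMod.card 5)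
    refine Known2.psl (ZMod 5) 2 _ le_rfl (fun _ => by rw [ZMod.card]; norm_num) ⟨e.trans (e1.trans e2.symm)⟩ ?_
    rw [hn, ZMod.card]
    norm_num
  · rw [hn]
    exact Known2.psl2_8 F hF ⟨e⟩
  · refine Known2.psl F 2 _ le_rfl (fun _ => hq4) ⟨e⟩ ?_
    rw [hn, hF]
    norm_num
  · obtain ⟨e1⟩ := Cfsg.Agent.S0253.result hF
    rw [hn]
    exact Known2.alt 5 le_rfl ⟨e.trans e1⟩
  · obtain ⟨e1⟩ := Cfsg.Agent.S0255.result (K := ZMod 2) hF (ZMod.card 2)
    refine Known2.psl (ZMod 2) 3 _ (by norm_num) (fun h => absurd h (by norm_num)) ⟨e.trans e1⟩ ?_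
    rw [hn, ZMod.card]
    norm_num
  · rw [hn]
    exact Known2.psl2_9 F hF ⟨e⟩
  · rw [hn]
    exact Known2.psl2_11 F hF ⟨e⟩

end main

end Cfsg.Agent.H436.TT
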