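import Cfsg.Agent.Lib.Zsigmondy
import Cfsg.Agent.Classification.ThreePrimes

/-!
# Counting prime divisors with primitive prime divisors (helper436)

* `Prim q e r` : `r` is a prime with `r ∣ q ^ m - 1 ↔ e ∣ m` (the order of `q` modulo `r` is `e`);
* `card_add_le` : if `q (q² - 1) ∣ N` and all primitive primes of the exponents `e ∈ E` divide `N` then `N` has at
  least `|π(q(q²-1))| + |E|` prime divisors;
* `lTwo_three` : prime powers `q` with `|π(q (q² - 1))| ≤ 3` : `q = 2, 3, 4, 5, 7, 8, 9, 17`.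
-/

set_option autoImplicit false

namespace Cfsg.Agent.H436

open Cfsg.Agent.Lib.Zsigmondy Cfsg.Agent.Classification.ThreePrimes

/-- the order of `q` modulo the prime `r` is `e` -/
structure Prim (q e r : ℕ) : Prop where
  prime : r.Prime
  dvd_iff : ∀ m, r ∣ q ^ m - 1 ↔ e ∣ m
  not_dvd : ¬ r ∣ q

theorem exists_prim {q e : ℕ} (hq : 2 ≤ q) (he : 3 ≤ e) (h6 : ¬ (q = 2 ∧ e = 6)) : ∃ r, Prim q e r := by
  obtain ⟨r, h1, h2, -, h3⟩ := exists_primitive hq (by omega) (by omega) h6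
  exact ⟨r, h1, h2, h3⟩

variable {q e r N : ℕ}

theorem Prim.dvd (h : Prim q e r) {m : ℕ} (hm : e ∣ m) : r ∣ q ^ m - 1 := (h.dvd_iff m).2 hm

theorem Prim.not_dvd_sub (h : Prim q e r) {m : ℕ} (hm : ¬ e ∣ m) : ¬ r ∣ q ^ m - 1 := fun hd => hm ((h.dvd_iff m).1 hd)

theorem Prim.unique {e' : ℕ} (h : Prim q e r) (h' : Prim q e' r) : e = e' :=
  Nat.dvd_antisymm ((h.dvd_iff e').1 (h'.dvd dvd_rfl)) ((h'.dvd_iff e).1 (h.dvd dvd_rfl))

theorem Prim.not_dvd_pow (h : Prim q e r) (k : ℕ) : ¬ r ∣ q ^ k := fun hd => h.not_dvd (h.prime.dvd_of_dvd_pow hd)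

/-- `r` divides `q ^ m + 1` if `e ∣ 2 m`, `e ∤ m` -/
theorem Prim.dvd_add (h : Prim q e r) {m : ℕ} (h2 : e ∣ 2 * m) (h1 : ¬ e ∣ m) : r ∣ q ^ m + 1 := by
  have h3 := h.dvd h2
  have h4 : q ^ (2 * m) - 1 = (q ^ m + 1) * (q ^ m - 1) := by
    rw [mul_comm 2 m, pow_mul]
    have := Nat.sq_sub_sq (q ^ m) 1
    rw [one_pow] at this
    exact this
  rw [h4] at h3
  exact (h.prime.dvd_mul.1 h3).resolve_right (h.not_dvd_sub h1)

/-- `r` does not divide `q ^ m + 1` unless `e ∣ 2 m` -/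
theorem Prim.not_dvd_add (h : Prim q e r) {m : ℕ} (h2 : ¬ e ∣ 2 * m) : ¬ r ∣ q ^ m + 1 := by
  intro hd
  apply h.not_dvd_sub h2
  have h4 : q ^ (2 * m) - 1 = (q ^ m + 1) * (q ^ m - 1) := by
    rw [mul_comm 2 m, pow_mul]
    have := Nat.sq_sub_sq (q ^ m) 1
    rw [one_pow] at this
    exact this
  rw [h4]
  exact hd.mul_right _

theorem Prim.ne_two (h : Prim q e r) (he : 2 ≤ e) (hq : Odd q) : r ≠ 2 := by
  rintro rfl
  have h1 : 2 ∣ q ^ 1 - 1 := by
    rw [pow_one]
    obtain ⟨k, rfl⟩ := hq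
    exact ⟨k, by omega⟩
  have := Nat.le_of_dvd one_pos ((h.dvd_iff 1).1 h1)
  omega

theorem Prim.odd (h : Prim q e r) (he : 2 ≤ e) : r % 2 = 1 := by
  rcases h.prime.eq_two_or_odd with h2 | h2
  · exfalso
    rcases Nat.even_or_odd q with h3 | h3
    · apply h.not_dvd
      rw [h2]
      exact h3.two_dvd
    · exact h.ne_two he h3 h2
  · exact h2

/-- **Counting prime divisors.** -/
theorem card_add_le (hq : 2 ≤ q) (hN : N ≠ 0) (h1 : q * (q ^ 2 - 1) ∣ N) (E : Finset ℕ)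
    (hE : ∀ e ∈ E, 3 ≤ e ∧ ¬ (q = 2 ∧ e = 6)) (hd : ∀ e ∈ E, ∀ r, Prim q e r → r ∣ N) :
    (q * (q ^ 2 - 1)).primeFactors.card + E.card ≤ N.primeFactors.card := by
  classical
  have hex : ∀ e ∈ E, ∃ r, Prim q e r := fun e he => exists_prim hq (hE e he).1 (hE e he).2
  choose! f hf using hex
  have hinj : Set.InjOn f E := by
    intro a ha b hb hab
    have h1 := hf a ha
    have h2 := hf b hb
    rw [← hab] at h2
    exact h1.unique h2
  have hc : (E.image f).card = E.card := Finset.card_image_of_injOn hinj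
  have hdis : Disjoint (q * (q ^ 2 - 1)).primeFactors (E.image f) := by
    rw [Finset.disjoint_left]
    intro x hx hx'
    obtain ⟨e, he, rfl⟩ := Finset.mem_image.1 hx'
    have h1 := hf e he
    have h3 := (hE e he).1
    rcases h1.prime.dvd_mul.1 (Nat.dvd_of_mem_primeFactors hx) with h2 | h2
    · exact h1.not_dvd h2
    · have := Nat.le_of_dvd two_pos ((h1.dvd_iff 2).1 h2)
      omega
  rw [← hc, ← Finset.card_union_of_disjoint hdis]
  apply Finset.card_le_card
  intro x hx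
  rcases Finset.mem_union.1 hx with hx | hx
  · exact Nat.primeFactors_mono h1 hN hx
  · obtain ⟨e, he, rfl⟩ := Finset.mem_image.1 hx
    exact Nat.mem_primeFactors.2 ⟨(hf e he).prime, hd e he _ (hf e he), hN⟩

theorem mq_ne_zero (hq : 2 ≤ q) : q * (q ^ 2 - 1) ≠ 0 := by
  have : 4 ≤ q ^ 2 := by nlinarith
  exact Nat.mul_ne_zero (by omega) (by omega)

theorem two_dvd_mq : 2 ∣ q * (q ^ 2 - 1) := by
  rcases Nat.even_or_odd' q with ⟨k, rfl | rfl⟩
  · exact (Dvd.intro _ rfl : 2 ∣ 2 * k).mul_right _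
  · have : (2 * k + 1) ^ 2 - 1 = 2 * (2 * k ^ 2 + 2 * k) := by
      have : (2 * k + 1) ^ 2 = 2 * (2 * k ^ 2 + 2 * k) + 1 := by ring
      omega
    rw [this]
    exact (Dvd.intro _ rfl : 2 ∣ 2 * (2 * k ^ 2 + 2 * k)).mul_left _

theorem three_dvd_mq : 3 ∣ q * (q ^ 2 - 1) := by
  have h : q % 3 = 0 ∨ q % 3 = 1 ∨ q % 3 = 2 := by omega
  rcases h with h | h | h
  · exact (Nat.dvd_of_mod_eq_zero h).mul_right _
  · obtain ⟨k, rfl⟩ : ∃ k, q = 3 * k + 1 := ⟨q / 3, by omega⟩
    have : (3 * k + 1) ^ 2 - 1 = 3 * (3 * k ^ 2 + 2 * k) := by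
      have : (3 * k + 1) ^ 2 = 3 * (3 * k ^ 2 + 2 * k) + 1 := by ring
      omega
    rw [this]
    exact (Dvd.intro _ rfl : 3 ∣ 3 * (3 * k ^ 2 + 2 * k)).mul_left _
  · obtain ⟨k, rfl⟩ : ∃ k, q = 3 * k + 2 := ⟨q / 3, by omega⟩
    have : (3 * k + 2) ^ 2 - 1 = 3 * (3 * k ^ 2 + 4 * k + 1) := by
      have : (3 * k + 2) ^ 2 = 3 * (3 * k ^ 2 + 4 * k + 1) + 1 := by ring
      omega
    rw [this]
    exact (Dvd.intro _ rfl : 3 ∣ 3 * (3 * k ^ 2 + 4 * k + 1)).mul_left _

/-- at least two primes -/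
theorem two_le_card (hq : 2 ≤ q) : 2 ≤ (q * (q ^ 2 - 1)).primeFactors.card := by
  have h : ({2, 3} : Finset ℕ) ⊆ (q * (q ^ 2 - 1)).primeFactors := by
    intro x hx
    simp only [Finset.mem_insert, Finset.mem_singleton] at hx
    rw [Nat.mem_primeFactors]
    rcases hx with rfl | rfl
    · exact ⟨Nat.prime_two, two_dvd_mq, mq_ne_zero hq⟩
    · exact ⟨Nat.prime_three, three_dvd_mq, mq_ne_zero hq⟩
  calc 2 = ({2, 3} : Finset ℕ).card := by decide
    _ ≤ _ := Finset.card_le_card h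

/-- primitive primes of `p` for the exponents dividing `2 f` divide `q (q² - 1)`, `q = p ^ f` -/
theorem Prim.dvd_mq {p f : ℕ} (h : Prim p e r) (he : e ∣ 2 * f) : r ∣ p ^ f * ((p ^ f) ^ 2 - 1) := by
  rw [← pow_mul, mul_comm f 2]
  exact (h.dvd he).mul_left _

/-- **Prime powers `q` with at most three prime divisors of `q (q² - 1)`.** -/
theorem lTwo_three (hq : IsPrimePow q) (h : (q * (q ^ 2 - 1)).primeFactors.card ≤ 3) :
    q = 2 ∨ q = 3 ∨ q = 4 ∨ q = 5 ∨ q = 7 ∨ q = 8 ∨ q = 9 ∨ q = 17 := by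
  obtain ⟨p, f, hp, hf, rfl⟩ := (isPrimePow_nat_iff q).1 hq
  have hp2 : 2 ≤ p := hp.two_le
  have hne : p ^ f * ((p ^ f) ^ 2 - 1) ≠ 0 := mq_ne_zero hq.two_le
  have h2 : 2 ∣ p ^ f * ((p ^ f) ^ 2 - 1) := two_dvd_mq
  have h3 : 3 ∣ p ^ f * ((p ^ f) ^ 2 - 1) := three_dvd_mq
  rcases Nat.lt_or_ge 1 f with hf1 | hf1
  · -- `f ≥ 2`
    by_cases hp2' : p = 2
    · subst hp2'
      by_cases hf3 : f = 2 ∨ f = 3
      · rcases hf3 with rfl | rfl
        · norm_num
        · norm_num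
      exfalso
      by_cases hf6 : f = 6
      · subst hf6
        have := four_le hne Nat.prime_two Nat.prime_three Nat.prime_five (by norm_num : Nat.Prime 7) h2 h3
          (by norm_num) (by norm_num) (by norm_num) (by norm_num) (by norm_num) (by norm_num) (by norm_num)
          (by norm_num)
        omega
      obtain ⟨r, hr⟩ := exists_prim (q := 2) (e := f) le_rfl (by omega) (by omega)
      obtain ⟨s, hs⟩ := exists_prim (q := 2) (e := 2 * f) le_rfl (by omega) (by omega)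
      have h3r : ∀ {e x : ℕ}, Prim 2 e x → 3 ≤ e → (3 : ℕ) ≠ x := by
        rintro e x hx he rfl
        have := Nat.le_of_dvd two_pos ((hx.dvd_iff 2).1 (by norm_num))
        omega
      have h2r : ∀ {e x : ℕ}, Prim 2 e x → (2 : ℕ) ≠ x := by
        rintro e x hx rfl
        exact hx.not_dvd dvd_rfl
      have := four_le hne Nat.prime_two Nat.prime_three hr.prime hs.prime h2 h3 (hr.dvd_mq ⟨2, by ring⟩)
        (hs.dvd_mq dvd_rfl) (by norm_num) (h2r hr) (h2r hs) (h3r hr (by omega)) (h3r hs (by omega))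
        (by rintro rfl; have := hr.unique hs; omega)
      omega
    have hodd : Odd p := hp.odd_of_ne_two hp2'
    by_cases hp3 : p = 3
    · subst hp3
      by_cases hf2 : f = 2
      · subst hf2; norm_num
      exfalso
      obtain ⟨r, hr⟩ := exists_prim (q := 3) (e := f) (by norm_num) (by omega) (by omega)
      obtain ⟨s, hs⟩ := exists_prim (q := 3) (e := 2 * f) (by norm_num) (by omega) (by omega)
      have h3r : ∀ {e x : ℕ}, Prim 3 e x → (3 : ℕ) ≠ x := by
        rintro e x hx rfl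
        exact hx.not_dvd dvd_rfl
      have := four_le hne Nat.prime_two Nat.prime_three hr.prime hs.prime h2 h3 (hr.dvd_mq ⟨2, by ring⟩)
        (hs.dvd_mq dvd_rfl) (by norm_num) (hr.ne_two (by omega) hodd).symm (hs.ne_two (by omega) hodd).symm
        (h3r hr) (h3r hs) (by rintro rfl; have := hr.unique hs; omega)
      omega
    · exfalso
      obtain ⟨s, hs⟩ := exists_prim (q := p) (e := 2 * f) hp2 (by omega) (by omega)
      have h3s : (3 : ℕ) ≠ s := by
        rintro rfl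
        have h4 : 3 ∣ p ^ 2 - 1 := by
          have h5 := three_dvd_mq (q := p)
          exact (Nat.prime_three.dvd_mul.1 h5).resolve_left
            (fun h6 => hp3 ((Nat.prime_dvd_prime_iff_eq Nat.prime_three hp).1 h6).symm)
        have := Nat.le_of_dvd two_pos ((hs.dvd_iff 2).1 h4)
        omega
      have hps : p ≠ s := by
        rintro rfl
        exact hs.not_dvd dvd_rfl
      have := four_le hne Nat.prime_two Nat.prime_three hp hs.prime h2 h3
        ((dvd_pow_self p (by omega)).mul_right _)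
        (hs.dvd_mq dvd_rfl) (by norm_num) (Ne.symm hp2') (hs.ne_two (by omega) hodd).symm
        (Ne.symm hp3) h3s hps
      omega
  · obtain rfl : f = 1 := by omega
    rw [pow_one] at *
    by_cases h5 : 5 ≤ p
    · have h6 : (p + 1) * p * (p - 1) ∣ 2 * (p * (p ^ 2 - 1)) := by
        have h7 : p ^ 2 - 1 = (p + 1) * (p - 1) := by
          have := Nat.sq_sub_sq p 1
          rw [one_pow] at this
          exact this
        rw [h7]
        exact ⟨2, by ring⟩
      rcases prime_case hp h5 hne h6 h with h8 | h8 | h8 <;> simp [h8]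
    · interval_cases p
      · simp
      · simp
      · simp

end Cfsg.Agent.H436
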