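import Cfsg.Agent.H493.RatB.WitS
import Cfsg.Agent.H684.BlockQuot

/-!
# Constituents of a permutation character in the principal block: the degree prime to `p` (helper436)

`exists_of_reg` : `X` transitive; if `|X| · #(p-regular elements of the stabilizer) ≢ #(p-regular elements of G)` modulo
`p`, then the permutation character has a constituent `χ ≠ 1` in the principal block, of degree prime to `p`.

`witR_of_fix` : `P` a `p`-subgroup which fixes `x`; the `p`-regular elements of `C(P)` fix `x`; `|X| ≢ 1` modulo `p`.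
-/

set_option autoImplicit false

namespace Cfsg.Agent.H436.PermReg

open Cfsg Subgroup Cfsg.Agent.Blocks Cfsg.Agent.Blocks.Blau Cfsg.Agent.H145.BR Cfsg.Agent.Characters.Core
open Cfsg.Agent.H493.RatB
open scoped ComplexConjugate

universe u v w

theorem exists_of_reg {G : Type u} [Group G] [Fintype G] {p : ℕ} [hp : Fact p.Prime] {M : Ideal AlgInt}
    (hM : IsPModular p M) {X : Type v} [Finite X] [MulAction G X] [MulAction.IsPretransitive G X] (x : X)
    (hd : ¬ Nat.card X * H116.RatB0.reg p (MulAction.stabilizer G x) ≡ H116.RatB0.reg p (⊤ : Subgroup G) [MOD p]) :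
    ∃ χ : IrrCharacter G, χ ∈ principalBlock M G ∧ (χ : G → ℂ) ≠ (fun _ => 1) ∧
      ¬ p ∣ charDegree (χ : G → ℂ) ∧ classInner (permC G X) (χ : G → ℂ) ≠ 0 := by
  classical
  have hprime : M.IsPrime := Blocks.Local.isPrime_of_isPModular hM
  have := finite_irr (G := G)
  have := Fintype.ofFinite (IrrCharacter G)
  have : Nonempty X := ⟨x⟩
  obtain ⟨m, hm⟩ := exists_nat_comb (isCharacter_permC (G := G) (X := X))
  have hpc : ∀ ξ : IrrCharacter G, classInner (permC G X) (ξ : G → ℂ) = m ξ := by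
    intro ξ
    rw [hm]
    exact classInner_sum_nsmul_irr m ξ
  -- the sum over the `p`-regular elements
  let R : ℕ := H116.RatB0.reg p (⊤ : Subgroup G)
  have hsum : ((Nat.card X * H116.RatB0.reg p (MulAction.stabilizer G x) : ℕ) : ℂ) =
      ∑ χ : IrrCharacter G, (m χ : ℂ) * ∑ g : G, regPart p (χ : G → ℂ) g := by
    rw [← sum_regPart_permC x p]
    simp_rw [Finset.mul_sum]
    rw [Finset.sum_comm]
    refine Finset.sum_congr rfl fun g _ => ?_
    by_cases hg : p ∣ orderOf g
    · rw [regPart_of_dvd hg, Finset.sum_eq_zero]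
      intro χ _
      rw [regPart_of_dvd hg, mul_zero]
    · rw [regPart_of_not_dvd hg]
      conv_lhs => rw [hm]
      simp only [Finset.sum_apply, nsmul_eq_mul, Pi.mul_apply, Pi.natCast_apply]
      refine Finset.sum_congr rfl fun χ _ => ?_
      rw [regPart_of_not_dvd hg]
  -- congruence for the members of the principal block
  have hmem : ∀ χ : IrrCharacter G, χ ∈ principalBlock M G →
      MemLocalIdeal M (∑ g : G, regPart p (χ : G → ℂ) g - (R : ℂ) * charDegree (χ : G → ℂ)) := by
    intro χ hχ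
    have h1 := pair_div_sub_pair_div hM (H893.Sd.one G).2 χ.2 (isIrr_isCharacter (H893.Sd.one G).2) hχ
    have h3 : pair p ((H893.Sd.one G : IrrCharacter G) : G → ℂ) ((H893.Sd.one G : IrrCharacter G) : G → ℂ) =
      (Nat.card {x : G // ¬ p ∣ orderOf x} : ℂ) := H893.Sd.pair_one_one p
    have h4 : ((H893.Sd.one G : IrrCharacter G) : G → ℂ) 1 = 1 := rfl
    have h5 : pair p (χ : G → ℂ) ((H893.Sd.one G : IrrCharacter G) : G → ℂ) = ∑ g : G, regPart p (χ : G → ℂ) g :=
      H893.Sd.pair_one p _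
    have hd0 : (charDegree (χ : G → ℂ) : ℂ) ≠ 0 := by
      exact_mod_cast (Blocks.Basic.charDegree_pos χ.2).ne'
    have hRe : (R : ℂ) = (Nat.card {x : G // ¬ p ∣ orderOf x} : ℂ) := by
      show ((H116.RatB0.reg p (⊤ : Subgroup G) : ℕ) : ℂ) = _
      rw [H116.RatB0.reg_top]
    rw [h3, h4, h5, div_one, ← hRe, Blocks.Basic.irr_one_eq_charDegree χ.2] at h1
    have h6 := Blocks.LocalRing.memLocalIdeal_mul_left hM
      (Blocks.LocalRing.memLocalRing_natCast hM (charDegree (χ : G → ℂ))) ((Blocks.LocalRing.memLocalIdeal_sub_comm).1 h1)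
    have h7 : (charDegree (χ : G → ℂ) : ℂ) * (∑ g : G, regPart p (χ : G → ℂ) g / (charDegree (χ : G → ℂ) : ℂ) - R) =
        ∑ g : G, regPart p (χ : G → ℂ) g - (R : ℂ) * charDegree (χ : G → ℂ) := by
      rw [← Finset.sum_div]
      field_simp
    rw [← Finset.sum_div] at h7
    rw [h7] at h6
    exact h6
  by_contra hcon
  push Not at hcon
  apply hd
  have hm1 : m (H893.Sd.one G) = 1 := by
    have h1 := hpc (H893.Sd.one G)
    have h2 : classInner (permC G X) ((H893.Sd.one G : IrrCharacter G) : G → ℂ) = 1 := permC_pair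
    rw [h2] at h1
    exact_mod_cast h1.symm
  have hdeg1 : charDegree ((H893.Sd.one G : IrrCharacter G) : G → ℂ) = 1 :=
    Blocks.Basic.charDegree_of_eq (by rw [Nat.cast_one]; rfl)
  rw [← Finset.add_sum_erase Finset.univ _ (Finset.mem_univ (H893.Sd.one G)), hm1, Nat.cast_one, one_mul] at hsum
  have hrest : MemLocalIdeal M (∑ χ ∈ Finset.univ.erase (H893.Sd.one G), (m χ : ℂ) * ∑ g : G, regPart p (χ : G → ℂ) g) := by
    refine Blocks.LocalRing.memLocalIdeal_sum hM _ _ fun χ hχ => ?_
    have hχ1 : (χ : G → ℂ) ≠ fun _ => 1 := by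
      intro h
      exact (Finset.mem_erase.1 hχ).1 (Subtype.ext h)
    by_cases hB : χ ∈ principalBlock M G
    · by_cases hdeg : p ∣ charDegree (χ : G → ℂ)
      · refine Blocks.LocalRing.memLocalIdeal_mul_left hM (Blocks.LocalRing.memLocalRing_natCast hM _) ?_
        have h1 := hmem χ hB
        have h2 : MemLocalIdeal M ((R : ℂ) * charDegree (χ : G → ℂ)) := by
          rw [← Nat.cast_mul, Blocks.LocalRing.memLocalIdeal_natCast_iff hM]
          exact hdeg.mul_left _
        have h3 := Blocks.LocalRing.memLocalIdeal_add hM h1 h2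
        rwa [sub_add_cancel] at h3
      · have h1 := hcon χ hB hχ1 hdeg
        rw [hpc] at h1
        rw [h1, zero_mul]
        exact Blocks.LocalRing.memLocalIdeal_zero hM
    · have h1 : ∑ g : G, regPart p (χ : G → ℂ) g = 0 := by
        by_contra hne
        exact hB ((H893.Sd.mem_iff hM χ).2 hne)
      rw [h1, mul_zero]
      exact Blocks.LocalRing.memLocalIdeal_zero hM
  have h1 := hmem (H893.Sd.one G) Blocks.PrincipalSection.one_mem_principalBlock
  rw [hdeg1, Nat.cast_one, mul_one] at h1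
  have h2 := Blocks.LocalRing.memLocalIdeal_add hM h1 hrest
  have h3 : MemLocalIdeal M (((Nat.card X * H116.RatB0.reg p (MulAction.stabilizer G x) : ℕ) : ℤ) - (R : ℤ) : ℤ) := by
    push_cast
    push_cast at hsum
    rw [hsum]
    convert h2 using 1
    ring
  rw [Blocks.Local.memLocalIdeal_intCast_iff hM] at h3
  exact ((Nat.modEq_iff_dvd).2 h3).symm

theorem witR_of_fix {G : Type u} [Group G] [Finite G] {p : ℕ} [hp : Fact p.Prime] {X : Type v} [Finite X]
    [MulAction G X] [MulAction.IsPretransitive G X] {P : Subgroup G} (hP : IsPGroup p P) {x : X}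
    (hx : ∀ u ∈ P, u • x = x) (hc : ∀ g ∈ centralizer (P : Set G), ¬ p ∣ orderOf g → g • x = x)
    (hX : ¬ Nat.card X ≡ 1 [MOD p]) {ι : Type w} (s : Finset ι)
    (a : ι → ℕ) (χ : ι → IrrCharacter G) (hs : ∀ g : G, permC G X g = 1 + ∑ i ∈ s, (a i : ℂ) * (χ i : G → ℂ) g)
    (hr : ∀ i ∈ s, ¬ p ∣ charDegree (χ i : G → ℂ) → RatV (χ i : G → ℂ)) : WitR p G := by
  classical
  have := Fintype.ofFinite G
  have key : ¬ Nat.card X * H116.RatB0.reg p (MulAction.stabilizer G x) ≡ H116.RatB0.reg p (⊤ : Subgroup G) [MOD p] := by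
    intro h
    have h1 := H684.BlockQuot.card_modEq hP (fun y => y ∈ MulAction.stabilizer G x ∧ ¬ p ∣ orderOf y)
      (fun u hu y hy => ⟨mul_mem (mul_mem (hx u hu) hy.1) (inv_mem (show u ∈ MulAction.stabilizer G x from hx u hu)), by
        rw [H116.RatB0.orderOf_conj']
        exact hy.2⟩)
    have h2 := H684.BlockQuot.card_modEq hP (fun y => y ∈ (⊤ : Subgroup G) ∧ ¬ p ∣ orderOf y)
      (fun u hu y hy => ⟨mem_top _, by
        rw [H116.RatB0.orderOf_conj']
        exact hy.2⟩)
    have h3 : Nat.card {y : G // (y ∈ MulAction.stabilizer G x ∧ ¬ p ∣ orderOf y) ∧ y ∈ centralizer (P : Set G)} =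
        Nat.card {y : G // (y ∈ (⊤ : Subgroup G) ∧ ¬ p ∣ orderOf y) ∧ y ∈ centralizer (P : Set G)} :=
      Nat.card_congr (Equiv.subtypeEquivRight fun y =>
        ⟨fun h => ⟨⟨mem_top _, h.1.2⟩, h.2⟩, fun h => ⟨⟨hc y h.2 h.1.2, h.1.2⟩, h.2⟩⟩)
    have h4 : H116.RatB0.reg p (MulAction.stabilizer G x) ≡ H116.RatB0.reg p (⊤ : Subgroup G) [MOD p] := by
      refine h1.trans ?_
      rw [h3]
      exact h2.symm
    have h5 : Nat.card X * H116.RatB0.reg p (⊤ : Subgroup G) ≡ 1 * H116.RatB0.reg p (⊤ : Subgroup G) [MOD p] := by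
      rw [one_mul]
      exact (h4.symm.mul_left _).trans h
    apply hX
    refine Nat.ModEq.cancel_right_of_coprime ?_ h5
    rw [H116.RatB0.reg_top]
    exact (Nat.Prime.coprime_iff_not_dvd hp.out).2 Blocks.RegularCount.not_dvd_card_regular
  intro M hM
  obtain ⟨ξ, h0, h3, h2, h1⟩ := exists_of_reg (G := G) hM (X := X) x key
  refine ⟨ξ, h0, h3, h2, ?_⟩
  by_contra hne
  apply h1
  have e : permC G X = (fun _ => (1 : ℂ)) + ∑ i ∈ s, (a i : ℂ) • (χ i : G → ℂ) := by
    funext g
    rw [hs g]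
    simp only [Pi.add_apply, Finset.sum_apply, Pi.smul_apply, smul_eq_mul]
  rw [e, classInner_add_left, classInner_sum_left]
  have h4 : classInner (fun _ : G => (1 : ℂ)) (ξ : G → ℂ) = 0 :=
    classInner_irr_ne (H893.Sd.one G).2 ξ.2 (fun h => h3 h.symm)
  rw [h4, zero_add]
  refine Finset.sum_eq_zero fun i hi => ?_
  rw [classInner_smul_left, classInner_irr_ne (χ i).2 ξ.2, mul_zero]
  intro h5
  apply hne
  rw [← h5]
  refine hr i hi ?_
  rw [h5]
  exact h2

end Cfsg.Agent.H436.PermReg
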