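import Cfsg.Agent.H436.HeSeven
import Cfsg.Agent.H436.PermReg
import Cfsg.Agent.H478.SporBaby
import Cfsg.Agent.H979.CovLift
import Cfsg.Agent.MFive.JTwo
import Cfsg.Agent.H630.RatB.B
import Cfsg.Agent.H145.BR.RowZ

/-!
# The Baby Monster, `p = 7` (helper436)

`card_cent` : the centralizer of a subgroup of order 49 has order dividing `4 * 49`;
`witR_seven` : the permutation character on the transpositions has a nontrivial rational constituent of degree prime
to 7 in the principal 7-block (`|X| ≡ 2` modulo 7).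
-/

set_option autoImplicit false
set_option maxRecDepth 100000

namespace Cfsg.Agent.H436.B7

open Cfsg Cfsg.Agent.BpTab Cfsg.Agent.CpAutBFive Cfsg.Agent.MFive
open Cfsg.Agent.LThreeMB (fr Zx XX KChart.Cent KChart.pi KChart.chart)
open Cfsg.Agent.MonsterU Cfsg.Agent.MonsterU.Ch
open Cfsg.Agent.MonsterX Cfsg.Agent.MonsterX.MainBasic Cfsg.Agent.MonsterN Cfsg.Agent.MonsterP
open Cfsg.Agent.MonsterU.Lam2 (L2)
open Cfsg.Spor (Co1)
open Subgroup (centralizer zpowers mem_centralizer_singleton_iff center mem_centralizer_iff)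

universe u

/-- an element of order 7 of the Monster which commutes with a 2A-involution -/
theorem isoHe {v y : ↥InstData.M.G} (hv : IsConj BpSpor.BCover.t v) (hy : orderOf y = 7) (hyv : y * v = v * y) :
    Spor.IsoHe (XX y) := by
  have := MFive.Row.finite_model
  have h := KChart.chart KDone.lft MFive.Row.hc
  have hp : Nat.Prime 7 := by norm_num
  have ht := RowB.orderOf_t hv
  have hnt := RowB.not_conj hv
  have he : 2 ∣ Nat.card ↥(centralizer ({y} : Set ↥InstData.M.G)) := by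
    have h1 : orderOf (⟨v, mem_centralizer_singleton_iff.2 hyv.symm⟩ : ↥(centralizer ({y} : Set ↥InstData.M.G))) = 2 := by
      rw [← Subgroup.orderOf_coe]
      exact ht
    rw [← h1]
    exact orderOf_dvd_natCard _
  obtain ⟨g, hg⟩ := MSevenT.hex7 y hy he
  have h1 : (g⁻¹ * y * g) * KDone.K.z = KDone.K.z * (g⁻¹ * y * g) := by
    calc (g⁻¹ * y * g) * KDone.K.z = g⁻¹ * (y * (g * KDone.K.z * g⁻¹)) * g := by group
      _ = g⁻¹ * ((g * KDone.K.z * g⁻¹) * y) * g := by rw [hg]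
      _ = KDone.K.z * (g⁻¹ * y * g) := by group
  obtain ⟨x', hx'⟩ : ∃ x' : centralizer ({KDone.K.z} : Set ↥InstData.M.G), (x' : ↥InstData.M.G) = g⁻¹ * y * g :=
    ⟨⟨g⁻¹ * y * g, mem_centralizer_singleton_iff.2 h1⟩, rfl⟩
  have h7 : orderOf (g⁻¹ * y * g) = 7 := by
    have h6 := MulEquiv.orderOf_eq (MulAut.conj g⁻¹) y
    rw [MulAut.conj_apply, inv_inv] at h6
    rw [h6, hy]
  have hx7 : orderOf x' = 7 := by rw [← Subgroup.orderOf_coe, hx', h7]
  have h4 : (x' : ↥InstData.M.G) * (g⁻¹ * v * g) = (g⁻¹ * v * g) * x' := by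
    rw [hx']
    calc g⁻¹ * y * g * (g⁻¹ * v * g) = g⁻¹ * (y * v) * g := by group
      _ = g⁻¹ * (v * y) * g := by rw [hyv]
      _ = _ := by group
  have h5 : orderOf (g⁻¹ * v * g) = 2 := by
    have h6 := MulEquiv.orderOf_eq (MulAut.conj g⁻¹) v
    rw [MulAut.conj_apply, inv_inv] at h6
    rw [h6, ht]
  have hHe : Spor.IsoHe (XX (x' : ↥InstData.M.G)) := by
    rcases CpAutMSeven.Ranks.hranks _ (MFive.orderOf_pi h hp (by decide) hx7) with h8 | h8
    · obtain ⟨d, hd⟩ := BpMon.BSeven.conj_z hx7 h8 h5 h4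
      exfalso
      refine hnt (d⁻¹ * g⁻¹) ?_
      calc d⁻¹ * g⁻¹ * v * (d⁻¹ * g⁻¹)⁻¹ = d⁻¹ * (g⁻¹ * v * g) * d := by group
        _ = KDone.K.z := by rw [← hd]; group
    · exact CpAutMSeven.ZeroComps.heSix x' hx7 h8
  have h9 : IsConj y (x' : ↥InstData.M.G) := isConj_iff.2 ⟨g⁻¹, by rw [hx', inv_inv]⟩
  obtain ⟨e⟩ := JTwo.iso_of_isConj h9
  obtain ⟨f⟩ := hHe
  exact ⟨e.trans f⟩

/-- **the Monster**: `P` of order 49, centralized by the 2A-involution `t` -/
theorem card_M {t : ↥InstData.M.G} (ht : IsConj BpSpor.BCover.t t) {P : Subgroup ↥InstData.M.G}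
    (hP : Nat.card P = 49) (hPt : ∀ u ∈ P, u * t = t * u) :
    Nat.card ↥(centralizer ({t} : Set ↥InstData.M.G) ⊓ centralizer (P : Set ↥InstData.M.G)) ∣ 8 * 49 := by
  have hfin := MFive.Row.finite_model
  have h7 : Fact (Nat.Prime 7) := ⟨by norm_num⟩
  have hcomm : ∀ u ∈ P, ∀ v ∈ P, u * v = v * u := by
    intro u hu v hv
    have h1 : IsMulCommutative P := IsPGroup.isMulCommutative_of_card_eq_prime_sq (p := 7) (by rw [hP]; norm_num)
    exact congrArg Subtype.val (h1.is_comm.comm (⟨u, hu⟩ : P) ⟨v, hv⟩)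
  have hPf : Finite P := inferInstance
  obtain ⟨a', ha'⟩ := exists_prime_orderOf_dvd_card' (G := P) 7 (by rw [hP]; norm_num)
  obtain ⟨a, haP, rfl⟩ : ∃ a : ↥InstData.M.G, ∃ h : a ∈ P, a' = ⟨a, h⟩ := ⟨a', a'.2, rfl⟩
  have ha : orderOf a = 7 := by rwa [Subgroup.orderOf_mk] at ha'
  obtain ⟨y, hyP, hya⟩ : ∃ y ∈ P, y ∉ zpowers a := by
    by_contra h
    push Not at h
    have h1 := Subgroup.card_dvd_of_le (show P ≤ zpowers a from h)
    rw [hP, Nat.card_zpowers, ha] at h1
    norm_num at h1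
  have hHe := isoHe ht ha (hPt a haP)
  have hyc : y * a = a * y := hcomm y hyP a haP
  have htc : t * a = a * t := (hPt a haP).symm
  have hto : orderOf t = 2 := RowB.orderOf_t ht
  have h49 : ∀ u ∈ P, u ^ 49 = 1 := by
    intro u hu
    have h1 : (⟨u, hu⟩ : P) ^ Nat.card P = 1 := pow_card_eq_one'
    rw [hP] at h1
    exact congrArg Subtype.val h1
  -- the image of `y`
  have hyo : orderOf (LThreeMB.mk a hyc) = 7 := by
    have hXf : Finite (XX a) := by
      obtain ⟨e⟩ := hHe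
      have := BpSpor.HeThree.finite_he
      exact Finite.of_equiv _ e.symm.toEquiv
    have hne : LThreeMB.mk a hyc ≠ 1 := by
      intro h
      obtain ⟨i, hi⟩ := (LThreeMB.mk_eq_one hyc).1 h
      exact hya ⟨i, hi⟩
    -- the image of `P` has order dividing 49, not 49
    let Pc : Subgroup ↥(centralizer ({a} : Set ↥InstData.M.G)) := P.subgroupOf _
    have hle : P ≤ centralizer ({a} : Set ↥InstData.M.G) := fun u hu =>
      mem_centralizer_singleton_iff.2 (hcomm u hu a haP)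
    have hPc : Nat.card Pc = 49 := by rw [Nat.card_congr (Subgroup.subgroupOfEquivOfLe hle).toEquiv, hP]
    let q : ↥Pc →* XX a := (QuotientGroup.mk' (Zx a)).comp Pc.subtype
    have hq : Nat.card q.ker * Nat.card q.range = 49 := by
      rw [← hPc, ← Subgroup.card_mul_index q.ker, Subgroup.index_ker]
    have hk : 7 ∣ Nat.card q.ker := by
      have h1 : q ⟨⟨a, hle haP⟩, haP⟩ = 1 := by
        show (QuotientGroup.mk (⟨a, hle haP⟩ : ↥(centralizer ({a} : Set ↥InstData.M.G))) : XX a) = 1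
        rw [QuotientGroup.eq_one_iff]
        exact Subgroup.mem_zpowers _
      have h2 := orderOf_dvd_natCard (⟨⟨⟨a, hle haP⟩, haP⟩, h1⟩ : q.ker)
      rwa [← Subgroup.orderOf_coe, ← Subgroup.orderOf_coe, ← Subgroup.orderOf_coe, ha] at h2
    have hr : Nat.card q.range ∣ 7 := by
      obtain ⟨k, hk⟩ := hk
      rw [hk, mul_assoc] at hq
      exact Dvd.intro_left k (Nat.eq_of_mul_eq_mul_left (by norm_num : 0 < 7) (hq.trans (by norm_num : 49 = 7 * 7)))
    have hy1 : LThreeMB.mk a hyc ∈ q.range := ⟨⟨⟨y, hle hyP⟩, hyP⟩, rfl⟩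
    have h1 : orderOf (LThreeMB.mk a hyc) ∣ 7 := by
      refine dvd_trans ?_ hr
      rw [← Subgroup.orderOf_mk _ hy1]
      exact orderOf_dvd_natCard _
    rcases (Nat.dvd_prime h7.out).1 h1 with h2 | h2
    · exact absurd (orderOf_eq_one_iff.1 h2) hne
    · exact h2
  -- the image of `t`
  have htt : t * t = 1 := by rw [← pow_two, ← hto, pow_orderOf_eq_one]
  have hτ : orderOf (LThreeMB.mk a htc) = 2 := by
    have h2f : Fact (Nat.Prime 2) := ⟨Nat.prime_two⟩
    refine orderOf_eq_prime ?_ ?_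
    · rw [pow_two, LThreeMB.mk_mul htc htc (by rw [htt, one_mul, mul_one])]
      rw [LThreeMB.mk_eq_one]
      exact ⟨0, by rw [zpow_zero, htt]⟩
    · intro h
      obtain ⟨i, hi⟩ := (LThreeMB.mk_eq_one htc).1 h
      have h3 : t ^ 7 = 1 := by
        rw [← hi, ← zpow_natCast, ← zpow_mul, mul_comm, zpow_mul, zpow_natCast, ← ha, pow_orderOf_eq_one, one_zpow]
      have h4 := orderOf_dvd_of_pow_eq_one h3
      rw [hto] at h4
      norm_num at h4
  have hyt : LThreeMB.mk a hyc * LThreeMB.mk a htc = LThreeMB.mk a htc * LThreeMB.mk a hyc := by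
    show (QuotientGroup.mk _ : XX a) * QuotientGroup.mk _ = QuotientGroup.mk _ * QuotientGroup.mk _
    rw [← QuotientGroup.mk_mul, ← QuotientGroup.mk_mul]
    congr 1
    exact Subtype.ext (hPt y hyP)
  have hbound := HeSeven.card_dvd hHe hτ hyo hyt
  -- the map `D → C(τ) ∩ C(ȳ)`
  set D : Subgroup ↥InstData.M.G := centralizer ({t} : Set ↥InstData.M.G) ⊓ centralizer (P : Set ↥InstData.M.G) with hD
  have hDa : D ≤ centralizer ({a} : Set ↥InstData.M.G) := fun c hc =>
    mem_centralizer_singleton_iff.2 (mem_centralizer_iff.1 hc.2 a haP).symm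
  let f : ↥D →* XX a := (QuotientGroup.mk' (Zx a)).comp (Subgroup.inclusion hDa)
  have hf : Nat.card f.ker * Nat.card f.range = Nat.card D := by
    rw [← Subgroup.card_mul_index f.ker, Subgroup.index_ker]
  have hker : Nat.card f.ker ∣ 7 := by
    rw [← ha, ← Nat.card_zpowers]
    have h1 : f.ker.map D.subtype ≤ zpowers a := by
      rintro _ ⟨c, hc, rfl⟩
      have h2 : (QuotientGroup.mk (Subgroup.inclusion hDa c) : XX a) = 1 := hc
      rw [QuotientGroup.eq_one_iff] at h2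
      obtain ⟨i, hi⟩ := h2
      exact ⟨i, congrArg Subtype.val hi⟩
    have h2 := Subgroup.card_dvd_of_le h1
    rwa [← Nat.card_congr (f.ker.equivMapOfInjective _ D.subtype_injective).toEquiv] at h2
  have hrange : Nat.card f.range ∣ 56 := by
    refine dvd_trans (Subgroup.card_dvd_of_le ?_) hbound
    rintro _ ⟨c, rfl⟩
    refine Subgroup.mem_inf.2 ⟨?_, ?_⟩
    · rw [mem_centralizer_singleton_iff]
      show (QuotientGroup.mk _ : XX a) * QuotientGroup.mk _ = QuotientGroup.mk _ * QuotientGroup.mk _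
      rw [← QuotientGroup.mk_mul, ← QuotientGroup.mk_mul]
      congr 1
      exact Subtype.ext (mem_centralizer_singleton_iff.1 c.2.1)
    · rw [mem_centralizer_singleton_iff]
      show (QuotientGroup.mk _ : XX a) * QuotientGroup.mk _ = QuotientGroup.mk _ * QuotientGroup.mk _
      rw [← QuotientGroup.mk_mul, ← QuotientGroup.mk_mul]
      congr 1
      exact Subtype.ext (mem_centralizer_iff.1 c.2.2 y hyP).symm
  rw [← hf]
  exact (Nat.mul_dvd_mul hker hrange).trans (by norm_num)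

open Cfsg.Agent.MonsterX.MainPack Cfsg.Agent.LThree Cfsg.Agent.LThreeMB Cfsg.Agent.MonsterX.MainSimple
  Cfsg.Agent.MonsterX.Model Cfsg.Agent.MonsterX.InstData

theorem exists_cover {L : Type u} [Group L] (h : Spor.IsoB L) : ∃ t : ↥InstData.M.G, IsConj BpSpor.BCover.t t ∧
    Nat.card ↥(center ↥(centralizer ({t} : Set ↥InstData.M.G))) = 2 ∧
      Nonempty (↥(centralizer ({t} : Set ↥InstData.M.G)) ⧸ center ↥(centralizer ({t} : Set ↥InstData.M.G)) ≃* L) := by
  obtain ⟨⟨h1, -, ⟨e⟩⟩, -⟩ := ModelB.fieldsKS LitFin.all KDone.lnk KDone.lft (NodesGrp.prel LitFin.H)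
    (NodesNe.ne LitFin.H) LitFin.conj_ten Cfsg.Agent.S1704.result KDone.lnk.x₀_mem
  obtain ⟨g, hg⟩ := ModelB.exists_conj_t LitFin.all.hG LitFin.all.hR KDone.lnk KDone.lft KDone.lnk.x₀_mem
  obtain ⟨f⟩ := h
  exact ⟨_, isConj_iff.2 ⟨g, hg⟩, h1, ⟨e.trans f.symm⟩⟩

/-- **the Baby Monster**: the centralizer of a subgroup of order 49 -/
theorem card_cent {L : Type u} [Group L] (h : Spor.IsoB L) {P : Subgroup L} (hP : Nat.card P = 49) :
    Nat.card ↥(centralizer (P : Set L)) ∣ 4 * 49 := by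
  have hfin := MFive.Row.finite_model
  have h7 : Fact (Nat.Prime 7) := ⟨by norm_num⟩
  obtain ⟨t, ht, h2, ⟨e⟩⟩ := exists_cover h
  let q : ↥(centralizer ({t} : Set ↥InstData.M.G)) →* L :=
    e.toMonoidHom.comp (QuotientGroup.mk' (center ↥(centralizer ({t} : Set ↥InstData.M.G))))
  have hq : Function.Surjective q := e.surjective.comp (QuotientGroup.mk'_surjective _)
  have hqk : Nat.card q.ker = 2 := by
    have h3 : q.ker = center ↥(centralizer ({t} : Set ↥InstData.M.G)) := by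
      ext c
      rw [MonoidHom.mem_ker]
      show e (QuotientGroup.mk c) = 1 ↔ _
      rw [map_eq_one_iff e e.injective, QuotientGroup.eq_one_iff]
    rw [h3, h2]
  have hcm : ∀ K : Subgroup L, Nat.card ↥(K.comap q) = 2 * Nat.card ↥K := by
    intro K
    have h3 := Subgroup.card_mul_index ((K.comap q))
    have h4 := Subgroup.card_mul_index q.ker
    have h5 := Subgroup.card_mul_index K
    have hLf : Finite L := Finite.of_surjective _ hq
    rw [Subgroup.index_comap_of_surjective K hq] at h3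
    rw [Subgroup.index_ker, MonoidHom.range_eq_top.2 hq, Subgroup.card_top, hqk] at h4
    rw [← h4, ← h5, ← mul_assoc] at h3
    exact Nat.eq_of_mul_eq_mul_right (Nat.pos_of_ne_zero Subgroup.index_ne_zero_of_finite) h3
  set W := P.comap q with hW
  have hWc : Nat.card W = 2 * 49 := by rw [hW, hcm, hP]
  obtain ⟨T, hT⟩ := Sylow.exists_subgroup_card_pow_prime (G := W) 7 (n := 2) (by rw [hWc]; norm_num)
  have hT : Nat.card T = 49 := by rw [hT]; norm_num
  let P' : Subgroup ↥(centralizer ({t} : Set ↥InstData.M.G)) := T.map W.subtype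
  have hP' : Nat.card P' = 49 := by
    rw [← hT]
    exact (Nat.card_congr (T.equivMapOfInjective _ W.subtype_injective).toEquiv).symm
  let P2 : Subgroup ↥InstData.M.G := P'.map (centralizer ({t} : Set ↥InstData.M.G)).subtype
  have hP2 : Nat.card P2 = 49 := by
    rw [← hP']
    exact (Nat.card_congr (P'.equivMapOfInjective _ (Subgroup.subtype_injective _)).toEquiv).symm
  have hb := card_M ht hP2 (by
    rintro _ ⟨u, -, rfl⟩
    exact mem_centralizer_singleton_iff.1 u.2)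
  have hle : ((centralizer (P : Set L)).comap q).map (centralizer ({t} : Set ↥InstData.M.G)).subtype ≤
      centralizer ({t} : Set ↥InstData.M.G) ⊓ centralizer (P2 : Set ↥InstData.M.G) := by
    rintro _ ⟨c, hc, rfl⟩
    refine Subgroup.mem_inf.2 ⟨c.2, ?_⟩
    rw [mem_centralizer_iff]
    rintro _ ⟨u, hu, rfl⟩
    have hu' := hu
    obtain ⟨w, hw, rfl⟩ := hu
    have h3 : q c * q (w : ↥(centralizer ({t} : Set ↥InstData.M.G))) = q w * q c :=
      (mem_centralizer_iff.1 (Subgroup.mem_comap.1 hc) _ w.2).symm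
    have h4 : (w : ↥(centralizer ({t} : Set ↥InstData.M.G))) ^ 49 = 1 := by
      have h5 : (⟨w, hu'⟩ : P') ^ Nat.card P' = 1 := pow_card_eq_one'
      rw [hP'] at h5
      exact congrArg Subtype.val h5
    have h5 := H979.CovLift.lift_comm (le_refl (center ↥(centralizer ({t} : Set ↥InstData.M.G)))) h2
      (by decide : Odd 49) h4 (y := c) (by
        apply e.injective
        rw [map_mul, map_mul]
        exact h3.symm)
    exact congrArg Subtype.val h5
  have h3 := (Subgroup.card_dvd_of_le hle).trans hb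
  rw [← Nat.card_congr (((centralizer (P : Set L)).comap q).equivMapOfInjective _
    (Subgroup.subtype_injective _)).toEquiv, hcm] at h3
  exact Nat.dvd_of_mul_dvd_mul_left (by norm_num : 0 < 2) (h3.trans (by norm_num))

/-- a group of order dividing 4 is commutative -/
theorem comm_of_card {Q : Type*} [Group Q] [Finite Q] (h : Nat.card Q ∣ 4) (a b : Q) : a * b = b * a := by
  have h1 := Nat.le_of_dvd (by norm_num) h
  obtain ⟨n, hn⟩ : ∃ n, Nat.card Q = n := ⟨_, rfl⟩
  rw [hn] at h h1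
  have h2 : 0 < n := by rw [← hn]; exact Nat.card_pos
  have hcyc : ∀ [IsCyclic Q], a * b = b * a := fun {i} => by
    obtain ⟨g, hg⟩ := i.exists_generator
    obtain ⟨i, rfl⟩ := hg a
    obtain ⟨j, rfl⟩ := hg b
    exact zpow_mul_comm g i j
  interval_cases n
  · have h3 := (Nat.card_eq_one_iff_unique.1 hn).1
    exact Subsingleton.elim _ _
  · have := Fact.mk Nat.prime_two
    have := isCyclic_of_prime_card hn
    exact hcyc
  · norm_num at h
  · have := Fact.mk Nat.prime_two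
    have h3 : IsMulCommutative Q := IsPGroup.isMulCommutative_of_card_eq_prime_sq (p := 2) (by rw [hn]; norm_num)
    exact h3.is_comm.comm a b

/-- `P` of order `p²`, `|C(P) : P|` divides 4: the `p`-regular elements of `C(P)` are central in `C(P)` -/
theorem comm_of_dvd {L : Type u} [Group L] [Finite L] {P : Subgroup L} (hP : Nat.card P = 49)
    (hC : Nat.card ↥(centralizer (P : Set L)) ∣ 4 * 49) {g h : L} (hg : g ∈ centralizer (P : Set L))
    (hh : h ∈ centralizer (P : Set L)) (hg7 : ¬ 7 ∣ orderOf g) : g * h = h * g := by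
  have h7 : Fact (Nat.Prime 7) := ⟨by norm_num⟩
  have hcomm : ∀ u ∈ P, ∀ v ∈ P, u * v = v * u := by
    intro u hu v hv
    have h1 : IsMulCommutative P := IsPGroup.isMulCommutative_of_card_eq_prime_sq (p := 7) (by rw [hP]; norm_num)
    exact congrArg Subtype.val (h1.is_comm.comm (⟨u, hu⟩ : P) ⟨v, hv⟩)
  have hle : P ≤ centralizer (P : Set L) := fun u hu => mem_centralizer_iff.2 fun v hv => hcomm v hv u hu
  let N : Subgroup ↥(centralizer (P : Set L)) := P.subgroupOf _
  have hN : N.Normal := ⟨fun n hn c => by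
    have h1 : c * n * c⁻¹ = n := by
      apply Subtype.ext
      show (c : L) * n * (c : L)⁻¹ = n
      rw [(mem_centralizer_iff.1 c.2 n hn).symm, mul_inv_cancel_right]
    rw [h1]
    exact hn⟩
  have hNc : Nat.card N = 49 := by rw [Nat.card_congr (Subgroup.subgroupOfEquivOfLe hle).toEquiv, hP]
  have hQ : Nat.card (↥(centralizer (P : Set L)) ⧸ N) ∣ 4 := by
    rw [Subgroup.card_eq_card_quotient_mul_card_subgroup N, hNc] at hC
    exact Nat.dvd_of_mul_dvd_mul_right (by norm_num) hC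
  have h1 := comm_of_card hQ (QuotientGroup.mk ⟨g, hg⟩) (QuotientGroup.mk ⟨h, hh⟩)
  rw [← QuotientGroup.mk_mul, ← QuotientGroup.mk_mul, QuotientGroup.eq] at h1
  have h2 : (g * h)⁻¹ * (h * g) ∈ P := h1
  obtain ⟨z, hz⟩ : ∃ z, z = (g * h)⁻¹ * (h * g) := ⟨_, rfl⟩
  rw [← hz] at h2
  -- `h⁻¹ g h = g z⁻¹`, ...
  have h3 : h⁻¹ * g * h = g * (g⁻¹ * h⁻¹ * g * h) := by group
  have h4 : g⁻¹ * h⁻¹ * g * h ∈ P := by
    have h5 : (g⁻¹ * h⁻¹ * g * h) = g⁻¹ * (h⁻¹ * (g * h)) := by group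
    have h6 : h * g = g * h * z := by rw [hz]; group
    have h7' : g * z = z * g := (mem_centralizer_iff.1 hg z h2).symm
    have h8 : h * z = z * h := (mem_centralizer_iff.1 hh z h2).symm
    have h9 : g⁻¹ * h⁻¹ * g * h = z⁻¹ := by
      have h10 : g * h = z⁻¹ * (h * g) := by
        rw [h6, mul_assoc g h z, h8, ← mul_assoc g z h, h7', mul_assoc, ← mul_assoc, inv_mul_cancel, one_mul]
      rw [mul_assoc, h10]
      have h11 : h⁻¹ * z⁻¹ = z⁻¹ * h⁻¹ := by
        rw [← mul_inv_rev, ← mul_inv_rev, h8]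
      have h12 : g⁻¹ * z⁻¹ = z⁻¹ * g⁻¹ := by
        rw [← mul_inv_rev, ← mul_inv_rev, h7']
      calc g⁻¹ * h⁻¹ * (z⁻¹ * (h * g)) = g⁻¹ * (h⁻¹ * z⁻¹) * (h * g) := by group
        _ = g⁻¹ * (z⁻¹ * h⁻¹) * (h * g) := by rw [h11]
        _ = (g⁻¹ * z⁻¹) * g := by group
        _ = z⁻¹ * g⁻¹ * g := by rw [h12]
        _ = z⁻¹ := by group
    rw [h9]
    exact P.inv_mem h2
  obtain ⟨w, hw⟩ : ∃ w, w = g⁻¹ * h⁻¹ * g * h := ⟨_, rfl⟩
  rw [← hw] at h3 h4
  have hgw : Commute g w := (mem_centralizer_iff.1 hg w h4).symm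
  have h5 : w ^ orderOf g = 1 := by
    have h6 : (h⁻¹ * g * h) ^ orderOf g = g ^ orderOf g * w ^ orderOf g := by rw [h3, hgw.mul_pow]
    have h7' : (h⁻¹ * g * h) ^ orderOf g = 1 := by
      have h8 : h⁻¹ * g * h = h⁻¹ * g * (h⁻¹)⁻¹ := by rw [inv_inv]
      rw [h8, conj_pow, pow_orderOf_eq_one]
      group
    rw [h7', pow_orderOf_eq_one, one_mul] at h6
    exact h6.symm
  have h6 : w ^ 49 = 1 := by
    have h7' : (⟨w, h4⟩ : P) ^ Nat.card P = 1 := pow_card_eq_one'
    rw [hP] at h7'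
    exact congrArg Subtype.val h7'
  have h8 : w = 1 := by
    have h9 := orderOf_dvd_of_pow_eq_one h5
    have h10 := orderOf_dvd_of_pow_eq_one h6
    have h11 : Nat.Coprime (orderOf g) 49 := by
      rw [show 49 = 7 ^ 2 by norm_num]
      exact Nat.Coprime.pow_right 2 (Nat.coprime_comm.1 ((Nat.Prime.coprime_iff_not_dvd h7.out).2 hg7))
    have h12 := Nat.dvd_gcd h9 h10
    rw [h11, Nat.dvd_one, orderOf_eq_one_iff] at h12
    exact h12
  rw [h8, mul_one] at h3
  calc g * h = h * (h⁻¹ * g * h) := by group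
    _ = h * g := by rw [h3]

end Cfsg.Agent.H436.B7

namespace Cfsg.Agent.H436.B7

open Cfsg Cfsg.Agent.Characters.Core Cfsg.Agent.H995.IMB Cfsg.Agent.H816.IMEig Cfsg.Agent.H995.BSch
open Cfsg.Agent.H145.BR Cfsg.Agent.H493.RatB Cfsg.Agent.BabyM.Inst Cfsg.Agent.H630.RatB Cfsg.Agent.BabyM.Model
open Subgroup (centralizer mem_centralizer_singleton_iff mem_centralizer_iff)
open scoped BigOperators

universe u

theorem witR_model : WitR 7 M.G := by
  have hp : Fact (Nat.Prime 7) := ⟨by norm_num⟩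
  have hfin : Finite M.G := BabyM.Instance.all.finite_G
  have hB : Spor.IsoB M.G := ⟨Cfsg.Agent.BM.KHAll.iso.symm⟩
  obtain ⟨z₀, h1, h2⟩ := exists_z
  have hX : Nat.card (X M) = 13571955000 := card_X BabyM.Instance.all BabyM.Instance.tr
  have hXf : Finite (X M) := Nat.finite_of_card_ne_zero (by rw [hX]; norm_num)
  have hcol := (Cfsg.Agent.H995.BSchVal.sch).isCol BabyM.Instance.all BabyM.Instance.tr
  obtain ⟨χ, -, hr, hs⟩ := permC_of_scheme hcol (x₀ := QuotientGroup.mk 1) (z₀ := z₀) h2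
    (m := 4) ![228735, 50895, 1935, -945] ![w0, w1, w2, w3] (fun i => by
      rw [h1]
      fin_cases i
      · exact eig0
      · exact eig1
      · exact eig2
      · exact eig3) rat_w ![96255, 9458750, 4275362520, 9287037474]
    (fun i => by
      rw [hX]
      fin_cases i <;> simp only [Fin.sum_univ_five] <;> simp [t, w0, w1, w2, w3] <;> norm_num) (fun u => by
      rw [hX]
      fin_cases u <;> simp [Fin.sum_univ_succ, w0, w1, w2, w3] <;> norm_num)
  have hpt : MulAction.IsPretransitive M.G (X M) := ⟨hcol.exists_smul⟩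
  obtain ⟨P, hP⟩ := Sylow.exists_subgroup_card_pow_prime (G := M.G) 7 (n := 2) (by
    rw [BabyM.Instance.all.card_G]; norm_num)
  have hPp : IsPGroup 7 P := IsPGroup.of_card hP
  have hP' : Nat.card P = 49 := by rw [hP]; norm_num
  obtain ⟨x, hx⟩ := hPp.nonempty_fixed_point_of_prime_not_dvd_card (X M) (by rw [hX]; norm_num)
  have hfix : ∀ u ∈ P, u • x = x := fun u hu => hx ⟨u, hu⟩
  obtain ⟨c, rfl⟩ := exists_mk x
  let t₀ : M.G := ⟨M.t₀, BabyM.Instance.all.C_le_G BabyM.Instance.all.t₀_C⟩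
  have hst : ∀ g : M.G, g • (QuotientGroup.mk c : X M) = QuotientGroup.mk c ↔
      g * (c * t₀ * c⁻¹) = (c * t₀ * c⁻¹) * g := by
    intro g
    have h3 : g • (QuotientGroup.mk c : X M) = QuotientGroup.mk (g * c) := rfl
    rw [h3, QuotientGroup.eq, HH_eq BabyM.Instance.all BabyM.Instance.tr, mem_centralizer_singleton_iff]
    constructor
    · intro h
      have h4 : (g * c)⁻¹ * c = c⁻¹ * g⁻¹ * c := by group
      rw [h4] at h
      have h5 : g⁻¹ * (c * t₀ * c⁻¹) = (c * t₀ * c⁻¹) * g⁻¹ := by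
        calc g⁻¹ * (c * t₀ * c⁻¹) = c * (c⁻¹ * g⁻¹ * c * t₀) * c⁻¹ := by group
          _ = c * (t₀ * (c⁻¹ * g⁻¹ * c)) * c⁻¹ := by rw [h]
          _ = _ := by group
      calc g * (c * t₀ * c⁻¹) = g * ((c * t₀ * c⁻¹) * g⁻¹) * g := by group
        _ = g * (g⁻¹ * (c * t₀ * c⁻¹)) * g := by rw [h5]
        _ = _ := by group
    · intro h
      have h4 : (g * c)⁻¹ * c = c⁻¹ * g⁻¹ * c := by group
      rw [h4]
      calc c⁻¹ * g⁻¹ * c * t₀ = c⁻¹ * g⁻¹ * ((c * t₀ * c⁻¹) * g) * g⁻¹ * c := by group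
        _ = c⁻¹ * g⁻¹ * (g * (c * t₀ * c⁻¹)) * g⁻¹ * c := by rw [h]
        _ = t₀ * (c⁻¹ * g⁻¹ * c) := by group
  have ha : c * t₀ * c⁻¹ ∈ centralizer (P : Set M.G) :=
    mem_centralizer_iff.2 fun u hu => (hst u).1 (hfix u hu)
  refine PermReg.witR_of_fix (X := X M) hPp (x := QuotientGroup.mk c) hfix (fun g hg hg7 => (hst g).2 ?_) ?_
    Finset.univ (fun _ => 1) χ (fun g => ?_) fun i _ _ => hr i
  · exact comm_of_dvd hP' (card_cent hB hP') hg ha hg7
  · rw [hX]
    decide
  · rw [hs]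
    simp

/-- **The row `p = 7` of the Baby Monster.** -/
theorem witR_seven {S : Type u} [Group S] (h : Spor.IsoB S) : WitR 7 S := by
  obtain ⟨e⟩ := h
  have e' : S ≃* M.G := e.trans Cfsg.Agent.BM.KHAll.iso
  have hfin : Finite M.G := BabyM.Instance.all.finite_G
  have : Finite S := Finite.of_equiv _ e'.symm.toEquiv
  exact WitR.congr e' witR_model

theorem rowQ_seven {S : Type u} [Group S] (h : Spor.IsoB S) : RowQ 7 S := fun M hM => by
  obtain ⟨θ, h1, h2, -, h4⟩ := witR_seven h M hM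
  exact ⟨θ, h1, h2, h4⟩

end Cfsg.Agent.H436.B7

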