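import Cfsg.Agent.CpAutHe.Seven
import Cfsg.Agent.H393.SpHe
import Cfsg.Agent.H436.StabData

/-!
# Elements of order 5 in the Held group (helper436)

`X`, `Y` : commuting words of order 5; every element of order 5 is conjugate into `⟨X⟩`, `|C(X)| ∣ 300`; words `U`, `V`
with `U X = X U`, `V` commuting with `X Y²`, `U V` of order 17.
-/

set_option autoImplicit false
set_option maxRecDepth 100000

namespace Cfsg.Agent.H436.HeFive

open Subgroup Cfsg
open Cfsg.Spor.He (Gen)
open Cfsg.Agent.SporadicB.HePerm Cfsg.Agent.FixBN.HeStab Cfsg.Agent.KFacts.He.Lv Cfsg.Agent.CpAutHe.Cnt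
  Cfsg.Agent.CpAutHe.Bound

/-- words -/
def X : List Gen := [.a, .c, .d]
def Y : List Gen := [
  .a, .g, .d, .b, .c, .d, .f, .d, .c, .d, .b, .c, .d, .f, .b, .c, .d, .c, .b, .a, .b, .c, .d, .c, .b, .f, .d,
  .c, .b, .d, .c, .d, .f, .d, .c, .b, .d, .g]
def U : List Gen := [
  .a, .c, .d, .f, .g, .b, .c, .d, .c, .b, .a, .b, .c, .d, .c, .b, .g, .f]
def V : List Gen := [
  .g, .d, .e, .c, .d, .b, .c, .d, .g, .f, .d, .c, .b, .a, .b, .c, .d, .f, .g, .d, .c, .b, .d, .c, .e, .d, .g]
def Q : List Gen := [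
  .a, .f, .g, .b, .c, .d, .c, .b, .a, .b, .c, .d, .c, .b, .g, .f]
def G1 : List Gen := [
  .b, .g, .d, .c, .f, .d, .g, .e, .d, .f, .e, .c, .d, .g, .b]
def G2 : List Gen := [
  .e, .d, .c, .b, .g, .d, .e, .f, .d, .c, .d, .f, .g, .d, .b, .c, .d, .g, .b]
def G3 : List Gen := [
  .b, .g, .d, .c, .b, .e, .d, .c, .d, .f, .g, .d, .c, .d, .f, .g, .b]
def G4 : List Gen := [
  .a, .b, .g, .d, .c, .b, .e, .d, .c, .d, .f, .g, .d, .c, .d, .f, .g, .b]
def G5 : List Gen := [
  .a, .e, .d, .c, .b, .g, .d, .e, .f, .d, .c, .d, .f, .g, .d, .b, .c, .d, .g, .b]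

theorem chkX : chkB (pw X 5) [] = true := by decide +kernel
theorem chkY : chkB (pw Y 5) [] = true := by decide +kernel
theorem chkXY : chkB (X ++ Y) (Y ++ X) = true := by decide +kernel
theorem chkU : chkB (U ++ X) (X ++ U) = true := by decide +kernel
theorem chkV : chkB (V ++ (X ++ pw Y 2)) ((X ++ pw Y 2) ++ V) = true := by decide +kernel
theorem chkUV : chkB (pw (U ++ V) 17) [] = true := by decide +kernel
theorem chkQ : chkB (pw Q 3) [] = true := by decide +kernel
theorem chkA : chkB ([.a] ++ X) (X ++ [.a]) = true := by decide +kernel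
theorem chkAA : chkB (pw [.a] 2) [] = true := by decide +kernel
theorem chkQX : chkB (Q ++ X) (X ++ Q) = true := by decide +kernel
theorem chkG1 : chkB (G1 ++ pw X 2) (Y ++ G1) = true := by decide +kernel
theorem chkG2 : chkB (G2 ++ pw X 4) ((X ++ Y) ++ G2) = true := by decide +kernel
theorem chkG3 : chkB (G3 ++ pw X 4) ((X ++ pw Y 2) ++ G3) = true := by decide +kernel
theorem chkG4 : chkB (G4 ++ pw X 4) ((X ++ pw Y 3) ++ G4) = true := by decide +kernel
theorem chkG5 : chkB (G5 ++ pw X 4) ((X ++ pw Y 4) ++ G5) = true := by decide +kernel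

/-! ### the centralizer of `X` -/

theorem c1 : cnt 2058 (tst X [] [1, 2] 27) = 150 := by decide +kernel

theorem s1 : ([45, 47, 29].all fun a => elemN a (nx X [] 27)) = true := by decide +kernel

theorem c2 : cnt 2058 (tst X [45, 47, 29] [1, 2] 123) = 2 := by decide +kernel

theorem s2 : ([27, 292, 45, 47, 176, 29, 122, 123, 421].all fun a => elemN a (nx X (nx X [] 27) 123)) = true := by
  decide +kernel

theorem d0 : cnt 2058 (tst X [123] [1, 2] 0) = 1 := by decide +kernel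
theorem d1 : cnt 2058 (tst X [45, 29, 122] [1, 2] 1) = 1 := by decide +kernel
theorem d2 : cnt 2058 (tst X [176, 123, 421] [1, 2] 8) = 1 := by decide +kernel
theorem d3 : cnt 2058 (tst X [27, 292, 45, 47, 176] [1, 2] 32) = 1 := by decide +kernel

theorem card_le : Nat.card ↥(centralizer ({wd X} : Set Cfsg.Spor.He)) ≤ 300 := by
  have hC : ∀ c ∈ centralizer ({wd X} : Set Cfsg.Spor.He), c * wd X = wd X * c := fun c hc =>
    mem_centralizer_singleton_iff.1 hc
  have hC1 : ∀ c ∈ st (centralizer ({wd X} : Set Cfsg.Spor.He)) 27, c * wd X = wd X * c := fun c hc =>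
    hC c (mem_st.1 hc).1
  have hC2 : ∀ c ∈ st (st (centralizer ({wd X} : Set Cfsg.Spor.He)) 27) 123, c * wd X = wd X * c := fun c hc =>
    hC1 c (mem_st.1 hc).1
  have hF1 : ∀ c ∈ st (centralizer ({wd X} : Set Cfsg.Spor.He)) 27, ∀ f ∈ nx X [] 27, Fx c f := fun c hc =>
    fx_nx (p := 27) (hC1 c hc) (fun _ hf => absurd hf List.not_mem_nil) (mem_st.1 hc).2
  have hF2 : ∀ c ∈ st (st (centralizer ({wd X} : Set Cfsg.Spor.He)) 27) 123, ∀ f ∈ nx X (nx X [] 27) 123, Fx c f :=
    fun c hc => fx_nx (p := 123) (hC2 c hc) (hF1 c (mem_st.1 hc).1) (mem_st.1 hc).2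
  have hs := sub_of_chk s2
  have h2 : Nat.card ↥(st (st (centralizer ({wd X} : Set Cfsg.Spor.He)) 27) 123) ≤ 1 := by
    rw [Subgroup.card_le_one_iff_eq_bot, eq_bot_iff_forall]
    intro c hc
    have k := fix_of_one (hC2 c hc) (hF2 c hc)
    have e0 : phi c 0 = 0 := k 0 [123] [1, 2] (fun a ha => hs (by revert ha; revert a; decide)) d0
    have e1 : phi c 1 = 1 := k 1 [45, 29, 122] [1, 2] (fun a ha => hs (by revert ha; revert a; decide)) d1
    have e2 : phi c 8 = 8 := k 8 [176, 123, 421] [1, 2] (fun a ha => hs (by revert ha; revert a; decide)) d2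
    have e3 : phi c 32 = 32 := k 32 [27, 292, 45, 47, 176] [1, 2] (fun a ha => hs (by revert ha; revert a; decide)) d3
    have e : ∀ i, phi (1 : Cfsg.Spor.He) i = i := fun i => by rw [map_one]; rfl
    apply eq_of_base
    · rw [e0, e]
    · rw [e1, e]
    · rw [e3, e]
    · rw [e2, e]
  have h1 : Nat.card ↥(st (centralizer ({wd X} : Set Cfsg.Spor.He)) 27) ≤ 2 * 1 :=
    step hC1 hF1 123 _ [1, 2] (sub_of_chk s1) c2 h2
  exact step (F := []) hC (fun _ _ f hf => absurd hf List.not_mem_nil) 27 [] [1, 2] (fun _ h => h) c1 h1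

/-! ### orders -/

theorem orderOf_wd {w : List Gen} {p : ℕ} (hp : p.Prime) (h : chkB (pw w p) [] = true) (h1 : wd w ≠ 1) :
    orderOf (wd w) = p := by
  have : Fact p.Prime := ⟨hp⟩
  refine orderOf_eq_prime ?_ h1
  have h := eq_of_chkB h
  rwa [wd_pw, wd_nil] at h

theorem orderX : orderOf (wd X) = 5 :=
  orderOf_wd (by norm_num) chkX (CpAutHe.Seven.ne_one_of_act 1 (by decide +kernel))

theorem orderY : orderOf (wd Y) = 5 :=
  orderOf_wd (by norm_num) chkY (CpAutHe.Seven.ne_one_of_act 207 (by decide +kernel))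

theorem orderUV : orderOf (wd (U ++ V)) = 17 :=
  orderOf_wd (by norm_num) chkUV (CpAutHe.Seven.ne_one_of_act 0 (by decide +kernel))

theorem orderQ : orderOf (wd Q) = 3 :=
  orderOf_wd (by norm_num) chkQ (CpAutHe.Seven.ne_one_of_act 1 (by decide +kernel))

theorem commXY : wd X * wd Y = wd Y * wd X := by
  have h := eq_of_chkB chkXY
  rwa [wd_append, wd_append] at h

theorem commU : wd U * wd X = wd X * wd U := by
  have h := eq_of_chkB chkU
  rwa [wd_append, wd_append] at h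

theorem commQ : wd Q * wd X = wd X * wd Q := by
  have h := eq_of_chkB chkQX
  rwa [wd_append, wd_append] at h

theorem commV : wd V * (wd X * wd Y ^ 2) = (wd X * wd Y ^ 2) * wd V := by
  have h := eq_of_chkB chkV
  rwa [wd_append, wd_append, wd_append, wd_pw] at h

theorem orderA : orderOf (wd [.a]) = 2 :=
  orderOf_wd (by norm_num) chkAA (CpAutHe.Seven.ne_one_of_act 8 (by decide +kernel))

theorem commA : wd [.a] * wd X = wd X * wd [.a] := by
  have h := eq_of_chkB chkA
  rwa [wd_append, wd_append] at h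

theorem finite_he : Finite Cfsg.Spor.He :=
  Nat.finite_of_card_ne_zero (by rw [KFacts.He.Classes.card_he]; norm_num)

/-! ### the Sylow 5-subgroup -/

section gen

variable {T : Type*} [Group T] {x y : T}

/-- the elements of the group generated by two commuting elements of order 5 -/
theorem exists_pow (hx : x ^ 5 = 1) (hy : y ^ 5 = 1) (hxy : x * y = y * x) {g : T}
    (hg : g ∈ closure ({x, y} : Set T)) : ∃ i j : ℕ, g = x ^ i * y ^ j := by
  have hc : ∀ i j : ℕ, y ^ i * x ^ j = x ^ j * y ^ i := fun i j =>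
    ((show Commute y x from hxy.symm).pow_pow i j).eq
  induction hg using Subgroup.closure_induction with
  | mem g hg =>
    rcases hg with rfl | hg
    · exact ⟨1, 0, by simp⟩
    · rw [Set.mem_singleton_iff] at hg
      subst hg
      exact ⟨0, 1, by simp⟩
  | one => exact ⟨0, 0, by simp⟩
  | mul g h _ _ h1 h2 =>
    obtain ⟨i, j, rfl⟩ := h1
    obtain ⟨k, l, rfl⟩ := h2
    refine ⟨i + k, j + l, ?_⟩
    rw [pow_add, pow_add]
    calc x ^ i * y ^ j * (x ^ k * y ^ l) = x ^ i * (y ^ j * x ^ k) * y ^ l := by group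
      _ = x ^ i * (x ^ k * y ^ j) * y ^ l := by rw [hc]
      _ = x ^ i * x ^ k * (y ^ j * y ^ l) := by group
  | inv g _ h1 =>
    obtain ⟨i, j, rfl⟩ := h1
    refine ⟨4 * i, 4 * j, ?_⟩
    rw [inv_eq_iff_mul_eq_one]
    calc x ^ i * y ^ j * (x ^ (4 * i) * y ^ (4 * j)) = x ^ i * (y ^ j * x ^ (4 * i)) * y ^ (4 * j) := by group
      _ = x ^ i * (x ^ (4 * i) * y ^ j) * y ^ (4 * j) := by rw [hc]
      _ = x ^ i * x ^ (4 * i) * (y ^ j * y ^ (4 * j)) := by group
      _ = (x ^ 5) ^ i * (y ^ 5) ^ j := by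
        rw [← pow_add, ← pow_add, ← pow_mul, ← pow_mul]
        congr 2 <;> ring
      _ = 1 := by rw [hx, hy, one_pow, one_pow, one_mul]

theorem isPGroup_E (hx : x ^ 5 = 1) (hy : y ^ 5 = 1) (hxy : x * y = y * x) :
    IsPGroup 5 ↥(closure ({x, y} : Set T)) := by
  rintro ⟨g, hg⟩
  refine ⟨1, Subtype.ext ?_⟩
  obtain ⟨i, j, rfl⟩ := exists_pow hx hy hxy hg
  show (x ^ i * y ^ j) ^ 5 ^ 1 = 1
  rw [pow_one, ((show Commute x y from hxy).pow_pow i j).mul_pow, ← pow_mul, ← pow_mul, mul_comm i, mul_comm j, pow_mul,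
    pow_mul, hx, hy, one_pow, one_pow, one_mul]

end gen

theorem powX : wd X ^ 5 = 1 := by rw [← orderX, pow_orderOf_eq_one]
theorem powY : wd Y ^ 5 = 1 := by rw [← orderY, pow_orderOf_eq_one]

/-- the Sylow 5-subgroup -/
def E : Subgroup Cfsg.Spor.He := closure {wd X, wd Y}

theorem isP : IsPGroup 5 ↥E := isPGroup_E powX powY commXY

theorem mem_EX : wd X ∈ E := subset_closure (Set.mem_insert _ _)
theorem mem_EY : wd Y ∈ E := subset_closure (Set.mem_insert_of_mem _ rfl)

theorem not_mem : wd Y ∉ zpowers (wd X) := by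
  intro h
  obtain ⟨k, hk⟩ := h
  have h1 : phi (wd X) 207 = 207 := by
    apply Fin.ext
    rw [← act_eq]
    decide +kernel
  have h2 : ∀ m : ℤ, phi (wd X ^ m) 207 = 207 := by
    intro m
    rw [map_zpow]
    have h3 : phi (wd X) ∈ MulAction.stabilizer (Equiv.Perm (Fin 2058)) (207 : Fin 2058) := h1
    exact Subgroup.zpow_mem _ h3 m
  have h3 := h2 k
  have hk' : wd X ^ k = wd Y := hk
  rw [hk'] at h3
  have h4 : act Y 207 = 207 := by
    have := act_eq Y 207
    rw [h3] at this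
    exact this
  have h5 : Nat.beq (act Y 207) 207 = false := by decide +kernel
  rw [h4] at h5
  exact absurd h5 (by decide)

theorem card_E : Nat.card ↥E = 25 := by
  have := finite_he
  have h5 : Fact (Nat.Prime 5) := ⟨by norm_num⟩
  obtain ⟨n, hn⟩ := IsPGroup.iff_card.1 isP
  have h1 : 5 ^ n ∣ 4030387200 := by
    rw [← hn, ← KFacts.He.Classes.card_he]
    exact card_subgroup_dvd_card _
  have h2 : n < 3 := by
    by_contra hcon
    exact absurd ((pow_dvd_pow 5 (not_lt.1 hcon)).trans h1) (by norm_num)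
  have h3 : 1 < n := by
    by_contra hcon
    apply not_mem
    have h4 : zpowers (wd X) = E := by
      apply Subgroup.eq_of_le_of_card_ge
      · rw [zpowers_le]; exact mem_EX
      · rw [Nat.card_zpowers, orderX, hn]
        calc 5 ^ n ≤ 5 ^ 1 := Nat.pow_le_pow_right (by norm_num) (not_lt.1 hcon)
          _ = 5 := by norm_num
    rw [h4]
    exact mem_EY
  have : n = 2 := by omega
  rw [hn, this]
  norm_num

/-- the generators of the six subgroups of order 5 of `E` -/
theorem conj_t (t : ℕ) (ht : t < 5) : ∃ (g : Cfsg.Spor.He) (b : ℕ), g * wd X ^ b * g⁻¹ = wd X * wd Y ^ t := by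
  interval_cases t
  · exact ⟨1, 1, by simp⟩
  · have h := eq_of_chkB chkG2
    rw [wd_append, wd_append, wd_append, wd_pw] at h
    exact ⟨wd G2, _, by rw [h, mul_inv_cancel_right, pow_one]⟩
  · have h := eq_of_chkB chkG3
    rw [wd_append, wd_append, wd_append, wd_pw, wd_pw] at h
    exact ⟨wd G3, _, by rw [h, mul_inv_cancel_right]⟩
  · have h := eq_of_chkB chkG4
    rw [wd_append, wd_append, wd_append, wd_pw, wd_pw] at h
    exact ⟨wd G4, _, by rw [h, mul_inv_cancel_right]⟩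
  · have h := eq_of_chkB chkG5
    rw [wd_append, wd_append, wd_append, wd_pw, wd_pw] at h
    exact ⟨wd G5, _, by rw [h, mul_inv_cancel_right]⟩

theorem conj_Y : ∃ (g : Cfsg.Spor.He) (b : ℕ), g * wd X ^ b * g⁻¹ = wd Y := by
  have h := eq_of_chkB chkG1
  rw [wd_append, wd_append, wd_pw] at h
  exact ⟨wd G1, _, by rw [h, mul_inv_cancel_right]⟩

theorem conj_of_mem {s : Cfsg.Spor.He} (hs : s ∈ E) : ∃ u : Cfsg.Spor.He, u * s * u⁻¹ ∈ zpowers (wd X) := by
  have key : ∀ (r : Cfsg.Spor.He) (m : ℕ), (∃ (g : Cfsg.Spor.He) (b : ℕ), g * wd X ^ b * g⁻¹ = r) →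
      ∃ u : Cfsg.Spor.He, u * (r ^ m) * u⁻¹ ∈ zpowers (wd X) := by
    rintro r m ⟨g, b, rfl⟩
    refine ⟨g⁻¹, ?_⟩
    rw [conj_pow]
    have : g⁻¹ * (g * (wd X ^ b) ^ m * g⁻¹) * g⁻¹⁻¹ = (wd X ^ b) ^ m := by group
    rw [this]
    exact pow_mem (pow_mem (mem_zpowers _) b) m
  obtain ⟨i, j, rfl⟩ := exists_pow powX powY commXY hs
  by_cases hi : i % 5 = 0
  · have h1 : wd X ^ i = 1 := by
      rw [← Nat.div_add_mod i 5, hi, add_zero, pow_mul, powX, one_pow]
    rw [h1, one_mul]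
    exact key _ j conj_Y
  · obtain ⟨t, ht, htj⟩ : ∃ t < 5, t * i % 5 = j % 5 := by
      have h5 : ∀ a < 5, a ≠ 0 → ∀ b < 5, ∃ t < 5, t * a % 5 = b := by decide
      obtain ⟨t, ht, h⟩ := h5 (i % 5) (Nat.mod_lt _ (by norm_num)) hi (j % 5) (Nat.mod_lt _ (by norm_num))
      refine ⟨t, ht, ?_⟩
      rw [← h, Nat.mul_mod, Nat.mul_mod t (i % 5), Nat.mod_mod]
    have h1 : wd X ^ i * wd Y ^ j = (wd X * wd Y ^ t) ^ i := by
      rw [((show Commute (wd X) (wd Y) from commXY).pow_right t).mul_pow, ← pow_mul]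
      congr 1
      rw [pow_eq_pow_iff_modEq, orderY]
      exact htj.symm
    rw [h1]
    exact key _ i (conj_t t ht)

theorem exists_conj {w : Cfsg.Spor.He} (hw : orderOf w = 5) : ∃ u : Cfsg.Spor.He, u * w * u⁻¹ ∈ zpowers (wd X) := by
  have := finite_he
  have h5 : Fact (Nat.Prime 5) := ⟨by norm_num⟩
  obtain ⟨P, hP⟩ := isP.exists_le_sylow
  have hPc : Nat.card ↥(P : Subgroup Cfsg.Spor.He) = 25 := by
    rw [Sylow.card_eq_multiplicity, KFacts.He.Classes.card_he]
    have h1 : (4030387200 : ℕ).factorization 5 = 2 := by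
      rw [show 4030387200 = 5 ^ 2 * 161215488 by norm_num, Nat.factorization_mul (by norm_num) (by norm_num),
        Finsupp.add_apply, Nat.Prime.factorization_pow (by norm_num), Nat.factorization_eq_zero_of_not_dvd
        (n := 161215488) (by norm_num)]
      simp
    rw [h1]
    norm_num
  have hPE : E = P := Subgroup.eq_of_le_of_card_ge hP (by rw [hPc, card_E])
  have hwP : IsPGroup 5 ↥(zpowers w) := IsPGroup.of_card (n := 1) (by rw [Nat.card_zpowers, hw, pow_one])
  obtain ⟨P', hP'⟩ := hwP.exists_le_sylow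
  obtain ⟨g, hg⟩ := MulAction.exists_smul_eq Cfsg.Spor.He P' P
  have h1 : g * w * g⁻¹ ∈ E := by
    rw [hPE, ← hg, Sylow.coe_subgroup_smul]
    exact ⟨w, hP' (mem_zpowers w), rfl⟩
  obtain ⟨u, hu⟩ := conj_of_mem h1
  refine ⟨u * g, ?_⟩
  have : u * g * w * (u * g)⁻¹ = u * (g * w * g⁻¹) * u⁻¹ := by group
  rw [this]
  exact hu

theorem card_X : Nat.card ↥(centralizer ({wd X} : Set Cfsg.Spor.He)) ∣ 300 := by
  have := finite_he
  have h25 : 25 ∣ Nat.card ↥(centralizer ({wd X} : Set Cfsg.Spor.He)) := by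
    rw [← card_E]
    apply card_dvd_of_le
    rw [E, closure_le]
    rintro s (rfl | hs)
    · exact mem_centralizer_singleton_iff.2 rfl
    · rw [Set.mem_singleton_iff] at hs
      subst hs
      exact mem_centralizer_singleton_iff.2 commXY.symm
  have h2 : 2 ∣ Nat.card ↥(centralizer ({wd X} : Set Cfsg.Spor.He)) := by
    have := Subgroup.orderOf_dvd_natCard _ (mem_centralizer_singleton_iff.2 commA :
      wd [.a] ∈ centralizer ({wd X} : Set Cfsg.Spor.He))
    rwa [orderA] at this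
  have h3 : 3 ∣ Nat.card ↥(centralizer ({wd X} : Set Cfsg.Spor.He)) := by
    have := Subgroup.orderOf_dvd_natCard _ (mem_centralizer_singleton_iff.2 commQ :
      wd Q ∈ centralizer ({wd X} : Set Cfsg.Spor.He))
    rwa [orderQ] at this
  have h6 : 6 ∣ Nat.card ↥(centralizer ({wd X} : Set Cfsg.Spor.He)) :=
    Nat.Coprime.mul_dvd_of_dvd_of_dvd (by norm_num : Nat.Coprime 2 3) h2 h3
  have h150 : 150 ∣ Nat.card ↥(centralizer ({wd X} : Set Cfsg.Spor.He)) :=
    Nat.Coprime.mul_dvd_of_dvd_of_dvd (by norm_num : Nat.Coprime 6 25) h6 h25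
  obtain ⟨c, hc⟩ := h150
  have h1 := card_le
  have hc0 : Nat.card ↥(centralizer ({wd X} : Set Cfsg.Spor.He)) ≠ 0 := Nat.card_pos.ne'
  rw [hc] at h1 hc0 ⊢
  have hc2 : c ≤ 2 := by omega
  interval_cases c
  · omega
  · norm_num
  · norm_num

/-- the centralizers of the elements of order 5 -/
theorem cent5 (w : Cfsg.Spor.He) (hw : orderOf w = 5) : Nat.card ↥(centralizer ({w} : Set Cfsg.Spor.He)) ∣ 5 * 60 := by
  have := finite_he
  obtain ⟨u, hu⟩ := exists_conj hw
  have h1 : wd X ∈ zpowers (u * w * u⁻¹) := by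
    have h2 : zpowers (u * w * u⁻¹) = zpowers (wd X) := by
      apply Subgroup.eq_of_le_of_card_ge
      · rwa [zpowers_le]
      · rw [Nat.card_zpowers, Nat.card_zpowers, CpAutHe.Seven.orderOf_conj', hw, orderX]
    rw [h2]
    exact mem_zpowers _
  obtain ⟨m, hm⟩ := h1
  have hm' : (u * w * u⁻¹) ^ m = wd X := hm
  have h3 : u⁻¹ * wd X * u⁻¹⁻¹ ∈ zpowers w := by
    refine ⟨m, ?_⟩
    show w ^ m = _
    rw [← hm', conj_zpow]
    group
  have h4 := StabData.card_cent_le hw orderX hu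
  have h5 := StabData.card_cent_le orderX hw h3
  rw [le_antisymm h4 h5]
  exact card_X

/-- the centralizers of the elements of order 17 -/
theorem cent17 (w : Cfsg.Spor.He) (hw : orderOf w = 17) : Nat.card ↥(centralizer ({w} : Set Cfsg.Spor.He)) ∣ 17 * 1 := by
  have := finite_he
  rw [StabData.card_cent_eq (by norm_num) (by rw [KFacts.He.Classes.card_he]; norm_num) hw H393.Sp.He.order]
  have h1 := H393.Sp.He.card_le
  have h2 : 17 ∣ Nat.card ↥(centralizer ({wd H393.Sp.He.X} : Set Cfsg.Spor.He)) := by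
    have := Subgroup.orderOf_dvd_natCard _ (mem_centralizer_singleton_iff.2 rfl :
      wd H393.Sp.He.X ∈ centralizer ({wd H393.Sp.He.X} : Set Cfsg.Spor.He))
    rwa [H393.Sp.He.order] at this
  have h3 := Nat.le_of_dvd Nat.card_pos h2
  rw [le_antisymm h1 h3]

end Cfsg.Agent.H436.HeFive
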