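import Cfsg.Agent.H241.NHMonE
import Cfsg.Agent.H291.SCBaby
import Cfsg.Agent.H729.PairMB
import Cfsg.Agent.H149.Sp.Quot
import Cfsg.Agent.H377.SporBThree
import Cfsg.Agent.CpAutBFive.Final

/-!
# Local facts on the Monster: centralizers of elements of orders 29, 41, 47, 59, 71 (helper436)

* `odd_cm` : the centralizers of elements of orders 29, 41, 59, 71 have odd order;
* `card47` : `|C(σ)| = 94` for `σ` of order 47;
* `not_dvd` : 23, 31, 47 do not divide the orders of the centralizers of elements of orders 29, 41, 59, 71.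
-/

set_option autoImplicit false
set_option maxRecDepth 100000

namespace Cfsg.Agent.H436.MonLoc

open Subgroup Cfsg Cfsg.Agent.H241.Mon Cfsg.Agent.H393.Iso
open Cfsg.Agent.H149.Sp (Eng.Cm Eng.Nm)
open Cfsg.Agent.H149.Sp
open Cfsg.Agent.MonsterX Cfsg.Agent.MonsterX.InstData Cfsg.Agent.MonsterX.MainPack
open Cfsg.Agent.MonsterX.MainBasic Cfsg.Agent.MonsterX.MainSimple Cfsg.Agent.MonsterX.Model

/-! ### General lemmas -/

section gen

variable {G : Type*} [Group G]

theorem mem_cm {x y : G} : x ∈ Eng.Cm y ↔ x * y = y * x := mem_centralizer_singleton_iff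

theorem dvd_of_comm {x y : G} (h : x * y = y * x) : orderOf x ∣ Nat.card (Eng.Cm y) := by
  rw [← Subgroup.orderOf_mk x (mem_cm.2 h)]
  exact orderOf_dvd_natCard _

theorem orderOf_conj (g x : G) : orderOf (g * x * g⁻¹) = orderOf x :=
  orderOf_injective (MulAut.conj g).toMonoidHom (MulAut.conj g).injective x

theorem comm_conj {x y : G} (g : G) (h : x * y = y * x) : (g * x * g⁻¹) * (g * y * g⁻¹) = (g * y * g⁻¹) * (g * x * g⁻¹) := by
  calc (g * x * g⁻¹) * (g * y * g⁻¹) = g * (x * y) * g⁻¹ := by group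
    _ = g * (y * x) * g⁻¹ := by rw [h]
    _ = _ := by group

/-- the commutators have odd order -/
theorem odd_commutator [Finite G] (h : ¬ 4 ∣ Nat.card G) (a b : G) : Odd (orderOf (a * b * a⁻¹ * b⁻¹)) := by
  by_cases h2 : 2 ∣ Nat.card G
  · have : Fact (Nat.Prime 2) := ⟨Nat.prime_two⟩
    let P : Sylow 2 G := default
    have hcard : Nat.card P ∣ 2 := by
      obtain ⟨n, hn⟩ := IsPGroup.iff_card.mp P.isPGroup'
      have h1 : Nat.card P ∣ Nat.card G := Subgroup.card_subgroup_dvd_card _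
      rw [hn] at h1 ⊢
      have hn1 : n ≤ 1 := by
        by_contra hcon
        push Not at hcon
        exact h ((pow_dvd_pow 2 hcon).trans h1)
      exact (pow_dvd_pow 2 hn1).trans (by norm_num)
    have hcyc : IsCyclic P := isCyclic_of_card_dvd_prime (p := 2) hcard
    have hmin : (Nat.card G).minFac = 2 := (Nat.minFac_eq_two_iff _).mpr h2
    let f := MonoidHom.transferSylow P (hcyc.normalizer_le_centralizer hmin)
    have hodd : Odd (Nat.card f.ker) := by
      rw [← Nat.not_even_iff_odd, even_iff_two_dvd]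
      exact MonoidHom.not_dvd_card_ker_transferSylow P _
    have hmem : a * b * a⁻¹ * b⁻¹ ∈ f.ker := by
      rw [MonoidHom.mem_ker, map_mul, map_mul, map_mul, map_inv, map_inv]
      have h3 : f a * f b = f b * f a := by
        have : IsMulCommutative P := IsCyclic.isMulCommutative
        exact this.is_comm.comm _ _
      rw [h3]
      group
    exact hodd.of_dvd_nat (Subgroup.orderOf_dvd_natCard _ hmem)
  · have h3 : Odd (Nat.card G) := by rwa [← Nat.not_even_iff_odd, even_iff_two_dvd]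
    exact h3.of_dvd_nat (orderOf_dvd_natCard _)

/-- centralizers of elements of order `q` in the normalizers of subgroups of order `s` -/
theorem not_dvd_of_star [Finite G] {s q : ℕ} (hs : s.Prime) (hq : q.Prime) (hc : Nat.Coprime q (s - 1))
    (star : ∀ x y : G, orderOf x = s → orderOf y = q → x * y = y * x → Eng.Cm y ≤ Eng.Nm x) {y₀ : G}
    (hy₀ : orderOf y₀ = q) (h₀ : ¬ s ∣ Nat.card (Eng.Cm y₀)) {x : G} (hx : orderOf x = s) :
    ¬ q ∣ Nat.card (Eng.Cm x) := by
  intro hqc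
  have : Fact q.Prime := ⟨hq⟩
  obtain ⟨y, hy⟩ := exists_prime_orderOf_dvd_card' q hqc
  have hyx : x * (y : G) = y * x := (mem_cm.1 y.2).symm
  have hyo : orderOf (y : G) = q := by rw [Subgroup.orderOf_coe, hy]
  have cop : ∀ {S : Subgroup G} (_ : IsPGroup q S) {g : G} (_ : g ∈ S), Nat.Coprime (orderOf g) (s - 1) := by
    intro S hS g hg
    obtain ⟨k, hk⟩ := hS ⟨g, hg⟩
    have h5 : g ^ q ^ k = 1 := congrArg Subtype.val hk
    exact Nat.Coprime.coprime_dvd_left (orderOf_dvd_of_pow_eq_one h5) (Nat.Coprime.pow_left k hc)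
  -- a Sylow subgroup containing `y`
  have hyp : IsPGroup q (zpowers (y : G)) := IsPGroup.of_card (n := 1) (by rw [Nat.card_zpowers, hyo, pow_one])
  obtain ⟨S, hS⟩ := hyp.exists_le_sylow
  have hyS : (y : G) ∈ (S : Subgroup G) := hS (mem_zpowers _)
  -- a central element of order `q`
  obtain ⟨z, hzS, hzc, hzo⟩ : ∃ z ∈ (S : Subgroup G), (∀ s ∈ (S : Subgroup G), z * s = s * z) ∧ orderOf z = q := by
    have hne : Nontrivial (S : Subgroup G) := ⟨⟨⟨y, hyS⟩, 1, fun h => by
      have h5 : (y : G) = 1 := congrArg Subtype.val h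
      rw [h5, orderOf_one] at hyo
      exact hq.one_lt.ne hyo⟩⟩
    have h5 : Nontrivial (center (S : Subgroup G)) := S.2.center_nontrivial
    obtain ⟨k, hk⟩ := IsPGroup.iff_card.1 (S.2.to_subgroup (center (S : Subgroup G)))
    have h6 : q ∣ Nat.card (center (S : Subgroup G)) := by
      rw [hk]
      rcases Nat.eq_zero_or_pos k with h7 | h7
      · rw [h7, pow_zero] at hk
        have := Finite.one_lt_card (α := center (S : Subgroup G))
        omega
      · exact dvd_pow_self q h7.ne'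
    obtain ⟨z, hz⟩ := exists_prime_orderOf_dvd_card' q h6
    refine ⟨((z : (S : Subgroup G)) : G), (z : (S : Subgroup G)).2, fun s hs => ?_, ?_⟩
    · exact (congrArg Subtype.val (mem_center_iff.1 z.2 ⟨s, hs⟩)).symm
    · rw [Subgroup.orderOf_coe, Subgroup.orderOf_coe, hz]
  have hzx : z ∈ Eng.Cm x := Eng.mem_cm_of_mem_nm hs hx (star x y hx hyo hyx (mem_cm.2 (hzc y hyS))) (cop S.2 hzS)
  have hzN := star x z hx hzo (mem_cm.1 hzx).symm
  have hSx : ∀ s ∈ (S : Subgroup G), s * x = x * s := fun s hs' =>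
    mem_cm.1 (Eng.mem_cm_of_mem_nm hs hx (hzN (mem_cm.2 (hzc s hs').symm)) (cop S.2 hs'))
  -- a conjugate of `y₀` in `S`
  have hwp : IsPGroup q (zpowers y₀) := IsPGroup.of_card (n := 1) (by rw [Nat.card_zpowers, hy₀, pow_one])
  obtain ⟨T, hT⟩ := hwp.exists_le_sylow
  obtain ⟨g, hg⟩ := MulAction.exists_smul_eq G T S
  have hgw : g * y₀ * g⁻¹ ∈ (S : Subgroup G) := by
    rw [← hg]
    exact ⟨y₀, hT (mem_zpowers _), rfl⟩
  apply h₀
  have h1 := comm_conj g⁻¹ (hSx _ hgw)
  have h2 : g⁻¹ * (g * y₀ * g⁻¹) * g⁻¹⁻¹ = y₀ := by group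
  rw [h2] at h1
  have h3 := dvd_of_comm h1.symm
  rwa [orderOf_conj, hx] at h3

end gen

/-! ### The model -/

/-- involutions commuting with an element of order `r`, `r ∤ |C(z)|`, are 6-transpositions -/
theorem six_of_comm {r : ℕ} (hz : ¬ r ∣ 2 ^ 25 * 4157776806543360000) {u t : Gam} (hu : orderOf u = r)
    (ht : orderOf t = 2) (htu : t * u = u * t) (g : Gam) : orderOf (t * (g * t * g⁻¹)) ≤ 6 := by
  have A := Cfsg.Agent.MonsterU.Uncond.all
  have ht1 : t ≠ 1 := by
    rintro rfl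
    rw [orderOf_one] at ht
    norm_num at ht
  have htt : t * t = 1 := by rw [← pow_two, ← ht, pow_orderOf_eq_one]
  rcases A.classes t htt ht1 with ⟨h, hh⟩ | ⟨h, hh⟩
  · exfalso
    apply hz
    have h1 := dvd_of_comm htu.symm
    have hzz : KDone.K.z = zG A.hG := Subtype.ext KDone.lnk.z_eq.symm
    rw [← hu, ← card_cz, hzz, ← card_conj' h, hh]
    exact h1
  · have h6 := MonsterX.MainPack.six A.hG A.hR A.hL A.hO A.hT InstanceFinal.mExtra.order_le (h⁻¹ * g * h)
    have h7 : t * (g * t * g⁻¹) = h * (tG A.hG A.hR * ((h⁻¹ * g * h) * tG A.hG A.hR * (h⁻¹ * g * h)⁻¹)) * h⁻¹ := by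
      rw [← hh]; group
    rw [h7, orderOf_conj]
    exact h6

/-- elements commuting with an involution -/
theorem exists_inv {r : ℕ} (hr : r.Prime) (hr2 : ¬ r ^ 2 ∣ Nat.card Gam)
    (hrt : r ∣ 2 * 4154781481226426191177580544000000) {u : Gam} (hu : orderOf u = r) :
    ∃ t : Gam, orderOf t = 2 ∧ t * u = u * t := by
  have hF : Fact r.Prime := ⟨hr⟩
  obtain ⟨t, ht, -, hct, -⟩ := exists_cov
  obtain ⟨u0, hu0⟩ := exists_prime_orderOf_dvd_card' (G := centralizer ({t} : Set Gam)) r (by rw [hct]; exact hrt)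
  have hu0' : orderOf (u0 : Gam) = r := by rw [Subgroup.orderOf_coe, hu0]
  obtain ⟨g, hg⟩ := Eng.exists_conj hr hr2 hu hu0'
  refine ⟨g * t * g⁻¹, by rw [orderOf_conj, ht], ?_⟩
  obtain ⟨n, hn⟩ := mem_zpowers_iff.1 hg
  have h1 : Commute (g * t * g⁻¹) (g * (u0 : Gam) * g⁻¹) := comm_conj g (mem_cm.1 u0.2).symm
  rw [← hn]
  exact (h1.zpow_right n).eq

/-- **Lemma A.** -/
theorem not_comm_A {r s : ℕ} (hr : r.Prime) (hs : s.Prime) (hr2 : r ≠ 2) (hs6 : 6 < s)
    (hrz : ¬ r ∣ 2 ^ 25 * 4157776806543360000) (hrb : NA r Spor.BabyMonster)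
    (hrt : r ∣ 2 * 4154781481226426191177580544000000) (hrr : ¬ r ^ 2 ∣ Nat.card Gam)
    (hss : ¬ s ^ 2 ∣ Nat.card Gam) (hna : NA s Gam) {u w : Gam} (hu : orderOf u = r) (hw : orderOf w = s) :
    w * u ≠ u * w := by
  intro hwu
  have hF2 : Fact (Nat.Prime 2) := ⟨Nat.prime_two⟩
  have hFs : Fact s.Prime := ⟨hs⟩
  have h4 : ¬ 4 ∣ Nat.card (Eng.Cm u) := not_four hr hr2 hrz hrb hu
  obtain ⟨t, ht, htu⟩ := exists_inv hr hrr hrt hu
  have h2d : 2 ∣ Nat.card (Eng.Cm u) := ht ▸ dvd_of_comm htu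
  have hsd : s ∣ Nat.card (Eng.Cm u) := hw ▸ dvd_of_comm hwu
  have hss' : ¬ s ^ 2 ∣ Nat.card (Eng.Cm u) := fun h => hss (h.trans (card_subgroup_dvd_card _))
  have hsol : Group.IsSolvable (Eng.Cm u) := H495.NotFour.isSolvable_of_not_four_dvd h4
  have hc2 : Nat.Coprime 2 s := (Nat.coprime_primes Nat.prime_two hs).2 (by omega)
  obtain ⟨m, hm⟩ := hc2.mul_dvd_of_dvd_of_dvd h2d hsd
  have hcop : Nat.Coprime (2 * s) m := by
    refine Nat.Coprime.mul_left ?_ ?_
    · rw [Nat.Prime.coprime_iff_not_dvd Nat.prime_two]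
      rintro ⟨k, rfl⟩
      exact h4 ⟨s * k, by rw [hm]; ring⟩
    · rw [Nat.Prime.coprime_iff_not_dvd hs]
      rintro ⟨k, rfl⟩
      exact hss' ⟨2 * k, by rw [hm]; ring⟩
  obtain ⟨H, hH⟩ := Solvable.Hall.hall_exists (2 * s) m hm hcop
  obtain ⟨a, ha⟩ := exists_prime_orderOf_dvd_card' (G := H) 2 (by rw [hH]; exact dvd_mul_right _ _)
  obtain ⟨x, hx⟩ := exists_prime_orderOf_dvd_card' (G := H) s (by rw [hH]; exact dvd_mul_left _ _)
  have hidx : (zpowers x).index = 2 := by
    have h1 := (zpowers x).card_mul_index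
    rw [Nat.card_zpowers, hx, hH, mul_comm] at h1
    exact Nat.eq_of_mul_eq_mul_right hs.pos h1
  have hn : (zpowers x).Normal := Subgroup.normal_of_index_eq_two hidx
  set T : Gam := ((a : Eng.Cm u) : Gam) with hT
  set X : Gam := ((x : Eng.Cm u) : Gam) with hX
  have hTo : orderOf T = 2 := by rw [hT, Subgroup.orderOf_coe, Subgroup.orderOf_coe, ha]
  have hXo : orderOf X = s := by rw [hX, Subgroup.orderOf_coe, Subgroup.orderOf_coe, hx]
  have hTu : T * u = u * T := mem_cm.1 (a : Eng.Cm u).2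
  have haa : a * a = 1 := by rw [← pow_two, ← ha, pow_orderOf_eq_one]
  have hinv : a * x * a⁻¹ = x⁻¹ := by
    refine H729.PairMB.inverts hs hx haa ?_ ?_
    · rw [Subgroup.normalizer_eq_top]
      exact mem_top _
    · intro h
      exact hna X T hXo hTo (congrArg (fun c : H => ((c : Eng.Cm u) : Gam)) h).symm
  have hinv' : T * X * T⁻¹ = X⁻¹ := congrArg (fun c : H => ((c : Eng.Cm u) : Gam)) hinv
  have hTT : T * T = 1 := by rw [← pow_two, ← hTo, pow_orderOf_eq_one]
  have h5 : T * (X * T * X⁻¹) = (X ^ 2)⁻¹ := by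
    have h6 : T⁻¹ = T := inv_eq_of_mul_eq_one_left hTT
    calc T * (X * T * X⁻¹) = (T * X * T⁻¹) * (T * T) * X⁻¹ := by group
      _ = X⁻¹ * 1 * X⁻¹ := by rw [hinv', hTT]
      _ = (X ^ 2)⁻¹ := by rw [pow_two]; group
  have h6 := six_of_comm hrz hu hTo hTu X
  rw [h5, orderOf_inv, (Nat.Coprime.orderOf_pow (by rw [hXo]; exact hc2.symm)), hXo] at h6
  omega

/-- the divisors of `47 - 1` -/
theorem good47 {N : ℕ} (hN : N ∣ Nat.card Gam) (h4 : ¬ 4 ∣ N) :
    ∀ p i : ℕ, p.Prime → p ≠ 47 → 0 < i → p ^ i ∣ N → ¬ 47 ∣ p ^ i - 1 := by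
  intro p i hp hp47 hi hd
  have hP : ∀ x ∈ [(2, 46), (3, 20), (5, 9), (7, 6), (11, 2), (13, 3), (17, 1), (19, 1), (23, 1), (29, 1), (31, 1),
      (41, 1), (47, 1), (59, 1), (71, 1)], Nat.Prime x.1 := by simp; norm_num
  have hL : Nat.card Gam = Eng.prodL [(2, 46), (3, 20), (5, 9), (7, 6), (11, 2), (13, 3), (17, 1), (19, 1), (23, 1),
      (29, 1), (31, 1), (41, 1), (47, 1), (59, 1), (71, 1)] := by
    rw [card_G]
    decide +kernel
  by_cases hp2 : p = 2
  · subst hp2
    have h1 : i = 1 := by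
      by_contra hne
      exact h4 ((pow_dvd_pow 2 (show 2 ≤ i by omega)).trans hd)
    rw [h1]
    norm_num
  · exact Eng.good_of_ok hP (by decide) (by decide +kernel) hL p i hp hp47 hp2 hi (hd.trans hN)

theorem sq47 : ¬ 47 ^ 2 ∣ Nat.card Gam := by rw [card_G]; norm_num

/-- elements of orders 3 and 47 -/
theorem not_three {x : Gam} (hx : orderOf x = 47) : ¬ 3 ∣ Nat.card (Eng.Cm x) := by
  obtain ⟨v, hv, -, h⟩ := exists_fi
  have hv' : orderOf (v : Gam) = 3 := by rw [Subgroup.orderOf_coe, hv]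
  refine not_dvd_of_star (s := 47) (by norm_num) Nat.prime_three (by norm_num) ?_ hv' ?_ hx
  · intro x y hx hy hxy
    have h1 : 47 ∣ Nat.card (Eng.Cm y) := hx ▸ dvd_of_comm hxy
    have ho : Odd (Nat.card (Eng.Cm y)) := by
      by_contra ho
      exact H377.SporB.not_dvd_three hy ho h1
    refine Eng.le_nm_of_solvable (by norm_num) sq47 (S0205.result ho) (good47 (card_subgroup_dvd_card _) ?_)
      (mem_cm.2 hxy) hx
    intro h4
    exact (Nat.not_even_iff_odd.2 ho) (even_iff_two_dvd.2 ((by norm_num : 2 ∣ 4).trans h4))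
  · show ¬ 47 ∣ Nat.card (centralizer ({(v : Gam)} : Set Gam))
    rw [card_XX hv', card_fi h]
    norm_num

/-- elements of orders 5 and 47 -/
theorem not_five {x : Gam} (hx : orderOf x = 47) : ¬ 5 ∣ Nat.card (Eng.Cm x) := by
  obtain ⟨v, hv, -, h⟩ := exists_hn
  have hv' : orderOf (v : Gam) = 5 := by rw [Subgroup.orderOf_coe, hv]
  refine not_dvd_of_star (s := 47) (by norm_num) Nat.prime_five (by norm_num) ?_ hv' ?_ hx
  · intro x y hx hy hxy
    have h1 : 47 ∣ Nat.card (Eng.Cm y) := hx ▸ dvd_of_comm hxy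
    have h4 : ¬ 4 ∣ Nat.card (Eng.Cm y) := by
      rcases CpAutBFive.EvenRow.cases hy with h2 | h2
      · exact absurd h1 (H377.SporB.not_dvd_five hy h2)
      · exact h2
    exact Eng.le_nm_of_solvable (by norm_num) sq47 (H495.NotFour.isSolvable_of_not_four_dvd h4)
      (good47 (card_subgroup_dvd_card _) h4) (mem_cm.2 hxy) hx
  · show ¬ 47 ∣ Nat.card (centralizer ({(v : Gam)} : Set Gam))
    rw [card_XX hv', card_hn h]
    norm_num

/-- **`C(x) ≤ C(t)`** for `x` of order 47 and an involution `t` commuting with it. -/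
theorem le_of_47 {x t : Gam} (hx : orderOf x = 47) (ht : orderOf t = 2) (htx : t * x = x * t) {c : Gam}
    (hc : c * x = x * c) : c * t = t * c := by
  have h4 : ¬ 4 ∣ Nat.card (Eng.Cm x) :=
    not_four (by norm_num) (by norm_num) (by norm_num) (na_b (by norm_num) (by norm_num) (by norm_num) (by norm_num)) hx
  have htt : t * t = 1 := by rw [← pow_two, ← ht, pow_orderOf_eq_one]
  have hti : t⁻¹ = t := inv_eq_of_mul_eq_one_left htt
  have h6 := six_of_comm (r := 47) (by norm_num) hx ht htx c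
  have ho := odd_commutator h4 (⟨t, mem_cm.2 htx⟩ : Eng.Cm x) ⟨c, mem_cm.2 hc⟩
  rw [← Subgroup.orderOf_coe] at ho
  have h1 : (((⟨t, mem_cm.2 htx⟩ : Eng.Cm x) * ⟨c, mem_cm.2 hc⟩ * (⟨t, mem_cm.2 htx⟩ : Eng.Cm x)⁻¹ *
      (⟨c, mem_cm.2 hc⟩ : Eng.Cm x)⁻¹ : Eng.Cm x) : Gam) = t * (c * t * c⁻¹) := by
    show t * c * t⁻¹ * c⁻¹ = _
    rw [hti]; group
  rw [h1] at ho
  have hcx : (t * (c * t * c⁻¹)) * x = x * (t * (c * t * c⁻¹)) := by
    have h2 : Commute t x := htx
    have h3 : Commute c x := hc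
    exact (h2.mul_left ((h3.mul_left h2).mul_left h3.inv_left)).eq
  have hd : orderOf (t * (c * t * c⁻¹)) ∣ Nat.card (Eng.Cm x) := dvd_of_comm hcx
  have h3 : orderOf (t * (c * t * c⁻¹)) ≠ 3 := fun h => not_three hx (h ▸ hd)
  have h5 : orderOf (t * (c * t * c⁻¹)) ≠ 5 := fun h => not_five hx (h ▸ hd)
  have h7 : orderOf (t * (c * t * c⁻¹)) = 1 := by
    obtain ⟨k, hk⟩ := ho
    omega
  rw [orderOf_eq_one_iff] at h7
  calc c * t = t * (t * (c * t * c⁻¹)) * c := by
        rw [← mul_assoc t t, htt]; group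
    _ = t * c := by rw [h7, mul_one]

/-- **`|C(x)| = 94`** for `x` of order 47. -/
theorem card47 (hK : Cfsg.Agent.H995.CopEngine.AllKnown.{0}) {x : Gam} (hx : orderOf x = 47) :
    Nat.card (Eng.Cm x) = 47 * 2 := by
  have hF : Fact (Nat.Prime 47) := ⟨by norm_num⟩
  obtain ⟨t, ht, -, hct, q, hq, hqk⟩ := exists_cov
  -- reduce to an element of `C(t)`
  obtain ⟨x1, hx1⟩ := exists_prime_orderOf_dvd_card' (G := centralizer ({t} : Set Gam)) 47 (by rw [hct]; norm_num)
  have hx1' : orderOf (x1 : Gam) = 47 := by rw [Subgroup.orderOf_coe, hx1]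
  obtain ⟨g, hg⟩ := Eng.exists_conj (by norm_num) sq47 hx hx1'
  have hcm : Eng.Cm x = Eng.Cm (g * (x1 : Gam) * g⁻¹) := by
    have hz : zpowers x = zpowers (g * (x1 : Gam) * g⁻¹) := by
      refine Subgroup.eq_of_le_of_card_ge (by rw [zpowers_le]; exact hg) ?_
      rw [Nat.card_zpowers, Nat.card_zpowers, orderOf_conj, hx, hx1']
    rw [← Eng.cent_zpowers, ← Eng.cent_zpowers, hz]
  rw [hcm, Eng.Cm, card_conj']
  have htx : t * (x1 : Gam) = x1 * t := (mem_cm.1 x1.2).symm
  have hle : Eng.Cm (x1 : Gam) ≤ centralizer ({t} : Set Gam) := fun c hc =>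
    mem_centralizer_singleton_iff.2 (le_of_47 hx1' ht htx (mem_cm.1 hc))
  let f : Eng.Cm (x1 : Gam) →* Spor.BabyMonster := q.comp (Subgroup.inclusion hle)
  have hfin : Finite Spor.BabyMonster := CTwoTab.BInst.finite_B
  have hqx : orderOf (q x1) = 47 := by
    refine orderOf_eq_prime (by rw [← map_pow, ← hx1, pow_orderOf_eq_one, map_one]) fun h => ?_
    rcases hqk _ h with h1 | h1
    · rw [h1, orderOf_one] at hx1
      norm_num at hx1
    · rw [h1, ht] at hx1'
      norm_num at hx1'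
  have hsc : Nat.card (centralizer ({q x1} : Set Spor.BabyMonster)) = 47 := H291.SCBaby.sc hK (q x1) hqx
  have hr1 : f.range ≤ centralizer ({q x1} : Set Spor.BabyMonster) := by
    rintro _ ⟨c, rfl⟩
    rw [mem_centralizer_singleton_iff]
    show q (Subgroup.inclusion hle c) * q x1 = q x1 * q (Subgroup.inclusion hle c)
    rw [← map_mul, ← map_mul]
    congr 1
    exact Subtype.ext (mem_cm.1 c.2)
  have hr2 : Nat.card f.range = 47 := by
    apply Nat.dvd_antisymm
    · rw [← hsc]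
      exact card_dvd_of_le hr1
    · have h1 : q x1 ∈ f.range := ⟨⟨x1, mem_cm.2 rfl⟩, rfl⟩
      rw [← hqx]
      exact Subgroup.orderOf_dvd_natCard _ h1
  have hk : Nat.card f.ker = 2 := by
    have htm : t ∈ Eng.Cm (x1 : Gam) := mem_cm.2 htx
    have hkq : Nat.card q.ker = 2 := by
      have h1 := q.ker.card_mul_index
      rw [index_ker, MonoidHom.range_eq_top.2 hq, card_top, hct, H713.Spor.B.card_b] at h1
      exact Nat.eq_of_mul_eq_mul_right (by norm_num) h1
    obtain ⟨k, hk1⟩ : ∃ k : q.ker, k ≠ 1 := by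
      have : Nontrivial q.ker := by
        rw [← Finite.one_lt_card_iff_nontrivial, hkq]
        norm_num
      exact exists_ne 1
    have hkt : ((k : centralizer ({t} : Set Gam)) : Gam) = t := by
      rcases hqk _ (MonoidHom.mem_ker.1 k.2) with h | h
      · exact absurd (Subtype.ext h) hk1
      · exact h
    have htk : (⟨t, htm⟩ : Eng.Cm (x1 : Gam)) ∈ f.ker := by
      rw [MonoidHom.mem_ker]
      show q (Subgroup.inclusion hle ⟨t, htm⟩) = 1
      have h2 : Subgroup.inclusion hle ⟨t, htm⟩ = (k : centralizer ({t} : Set Gam)) := Subtype.ext hkt.symm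
      rw [h2]
      exact MonoidHom.mem_ker.1 k.2
    have h3 : f.ker = zpowers (⟨t, htm⟩ : Eng.Cm (x1 : Gam)) := by
      apply le_antisymm
      · intro c hc
        rcases hqk _ (show q (Subgroup.inclusion hle c) = 1 from MonoidHom.mem_ker.1 hc) with h | h
        · have h4 : c = 1 := Subtype.ext (congrArg (fun a : centralizer ({t} : Set Gam) => (a : Gam)) h)
          rw [h4]
          exact one_mem _
        · have h4 : c = ⟨t, htm⟩ := Subtype.ext h
          rw [h4]
          exact mem_zpowers _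
      · rw [zpowers_le]
        exact htk
    rw [h3, Nat.card_zpowers, Subgroup.orderOf_mk, ht]
  have h1 := f.ker.card_mul_index
  rw [index_ker, hr2, hk] at h1
  rw [← h1]

/-! ### Elements of orders 29, 41, 59, 71 -/

theorem na {r : ℕ} (hr : r ∈ [29, 41, 59, 71]) : NA r Gam := by
  simp only [List.mem_cons, List.not_mem_nil, or_false] at hr
  rcases hr with rfl | rfl | rfl | rfl <;> exact na_of (by norm_num) (by norm_num)

/-- **The centralizers have odd order.** -/
theorem odd_card {r : ℕ} (hr : r ∈ [29, 41, 59, 71]) {x : Gam} (hx : orderOf x = r) :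
    Odd (Nat.card (centralizer ({x} : Set Gam))) := Eng.odd_cm (na hr) hx

/-- elements of orders 31 and `r` -/
theorem not_dvd_31 {r : ℕ} (hr : r ∈ [29, 41, 59, 71]) {x : Gam} (hx : orderOf x = r) :
    ¬ 31 ∣ Nat.card (centralizer ({x} : Set Gam)) := by
  intro h
  have hF : Fact (Nat.Prime 31) := ⟨by norm_num⟩
  obtain ⟨u, hu⟩ := exists_prime_orderOf_dvd_card' (G := centralizer ({x} : Set Gam)) 31 h
  have hu' : orderOf (u : Gam) = 31 := by rw [Subgroup.orderOf_coe, hu]
  have hna := na hr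
  simp only [List.mem_cons, List.not_mem_nil, or_false] at hr
  refine not_comm_A (r := 31) (s := r) (by norm_num) ?_ (by norm_num) ?_ (by norm_num)
    (na_b (by norm_num) (by norm_num) (by norm_num) (by norm_num)) (by norm_num) (by rw [card_G]; norm_num) ?_ hna hu' hx
    (mem_centralizer_singleton_iff.1 u.2).symm
  · rcases hr with rfl | rfl | rfl | rfl <;> norm_num
  · rcases hr with rfl | rfl | rfl | rfl <;> norm_num
  · rw [card_G]
    rcases hr with rfl | rfl | rfl | rfl <;> norm_num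

/-- elements of orders 47 and `r` -/
theorem not_dvd_47 {r : ℕ} (hr : r ∈ [29, 41, 59, 71]) {x : Gam} (hx : orderOf x = r) :
    ¬ 47 ∣ Nat.card (centralizer ({x} : Set Gam)) := by
  intro h
  have hF : Fact (Nat.Prime 47) := ⟨by norm_num⟩
  obtain ⟨u, hu⟩ := exists_prime_orderOf_dvd_card' (G := centralizer ({x} : Set Gam)) 47 h
  have hu' : orderOf (u : Gam) = 47 := by rw [Subgroup.orderOf_coe, hu]
  have hna := na hr
  simp only [List.mem_cons, List.not_mem_nil, or_false] at hr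
  refine not_comm_A (r := 47) (s := r) (by norm_num) ?_ (by norm_num) ?_ (by norm_num)
    (na_b (by norm_num) (by norm_num) (by norm_num) (by norm_num)) (by norm_num) (by rw [card_G]; norm_num) ?_ hna hu' hx
    (mem_centralizer_singleton_iff.1 u.2).symm
  · rcases hr with rfl | rfl | rfl | rfl <;> norm_num
  · rcases hr with rfl | rfl | rfl | rfl <;> norm_num
  · rw [card_G]
    rcases hr with rfl | rfl | rfl | rfl <;> norm_num

/-- elements of orders 23 and `r` -/
theorem not_dvd_23 (h3 : Cfsg.Agent.H241.NH.Three.{0}) {r : ℕ} (hr : r ∈ [29, 41, 59, 71]) {x : Gam} (hx : orderOf x = r) :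
    ¬ 23 ∣ Nat.card (centralizer ({x} : Set Gam)) := by
  intro h
  have hF : Fact (Nat.Prime 23) := ⟨by norm_num⟩
  obtain ⟨y, hy⟩ := exists_prime_orderOf_dvd_card' (G := centralizer ({x} : Set Gam)) 23 h
  have hy' : orderOf (y : Gam) = 23 := by rw [Subgroup.orderOf_coe, hy]
  obtain ⟨v, hv, hvy⟩ := exists_three (r := 23) (by norm_num) (by norm_num) (by rw [card_G]; norm_num) fi23 hy'
  simp only [List.mem_cons, List.not_mem_nil, or_false] at hr
  refine Cfsg.Agent.H241.NH.no_comm_of_self h3 (r := 23) (by norm_num) (by norm_num) hy' hv hvy.1 hvy.2 (q := r) ?_ ?_ ?_ ?_ ?_ x hx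
    (mem_centralizer_singleton_iff.1 y.2).symm
  · rcases hr with rfl | rfl | rfl | rfl <;> norm_num
  · rcases hr with rfl | rfl | rfl | rfl <;> norm_num
  · rcases hr with rfl | rfl | rfl | rfl <;> norm_num
  · rw [card_G]
    rcases hr with rfl | rfl | rfl | rfl <;> norm_num
  · rcases hr with rfl | rfl | rfl | rfl <;> norm_num

end Cfsg.Agent.H436.MonLoc
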