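import Cfsg.Agent.H711.MonWords
import Cfsg.Agent.MonsterX.ConcMono

/-!
# A real element of order divisible by 5 in the Monster (the words are from H711.MonRealElt)
-/

set_option autoImplicit false
set_option maxRecDepth 100000

namespace Cfsg.Agent.H436.MonReal5

open Cfsg.Agent.MonsterX.Conc Cfsg.Agent.MonsterX.Model Cfsg.Agent.MonsterX.InstData
open Cfsg.Agent.MonsterX.ConcMono Cfsg.Agent.H711.MonWords

theorem sq {w : List ℕ} (h : W (w ++ w) = W []) : W w * W w = 1 := by
  rw [W_append, W_nil] at h
  exact h

theorem real : ∃ x : M.G, 5 ∣ orderOf x ∧ IsConj x x⁻¹ :=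
  of_words (by norm_num) [13, 14] [13, 14] [42, 39, 40, 38, 39, 42, 39, 40, 42, 39, 38]
    (sq (W_eq_of_same (by decide +kernel))) (sq (W_eq_of_same (by decide +kernel)))
    (by decide) (by decide) (by decide) (by decide +kernel) (c := 48) (c' := 48) (by decide +kernel) (by norm_num)

end Cfsg.Agent.H436.MonReal5
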