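import Cfsg.Agent.H436.MonReal3
import Cfsg.Agent.H436.MonReal5
import Cfsg.Agent.H436.MonP29R
import Cfsg.Agent.H436.MonP41R
import Cfsg.Agent.H711.MonTwoB

/-!
# Real elements of the Monster of orders divisible by 3, 5, 7, 11, 13, 17, 19, 29, 41 (helper436)

The same list as in `H711.MonRealElt`, with kernel checks which need less than 4 GB each.
-/

set_option autoImplicit false

namespace Cfsg.Agent.H436.MonRealAll

open Cfsg.Agent.MonsterX.InstData Cfsg.Agent.H711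

theorem three : ∃ x : M.G, 3 ∣ orderOf x ∧ IsConj x x⁻¹ := MonReal3.real

theorem five : ∃ x : M.G, 5 ∣ orderOf x ∧ IsConj x x⁻¹ := MonReal5.real

theorem seven : ∃ x : M.G, 7 ∣ orderOf x ∧ IsConj x x⁻¹ :=
  MonTwoB.of_model (by norm_num) (by norm_num) BabyReal.seven

theorem eleven : ∃ x : M.G, 11 ∣ orderOf x ∧ IsConj x x⁻¹ :=
  MonTwoB.of_model (by norm_num) (by norm_num) BabyReal.eleven

theorem thirteen : ∃ x : M.G, 13 ∣ orderOf x ∧ IsConj x x⁻¹ :=
  MonTwoB.of_model (by norm_num) (by norm_num) BabyReal.thirteen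

theorem seventeen : ∃ x : M.G, 17 ∣ orderOf x ∧ IsConj x x⁻¹ := MonTwoB.seventeen

theorem nineteen : ∃ x : M.G, 19 ∣ orderOf x ∧ IsConj x x⁻¹ := MonTwoB.nineteen

theorem twentynine : ∃ x : M.G, 29 ∣ orderOf x ∧ IsConj x x⁻¹ := MonP29.real

theorem fortyone : ∃ x : M.G, 41 ∣ orderOf x ∧ IsConj x x⁻¹ := MonP41.real

end Cfsg.Agent.H436.MonRealAll
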