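import Cfsg.Agent.S0000
import Cfsg.Agent.OrdDiv.Table
import Cfsg.Agent.H436.KFourEx

/-!
# Finite simple groups with at most four prime divisors of the order (helper436)

* `name` : every nonabelian finite simple group has a name with its order equation;
* `psl_two_eq` : the order of `L₂(q)`; `psl_two_factors` : its prime divisors are those of `q (q² - 1)`.
-/

set_option autoImplicit false

namespace Cfsg.Agent.H436

open Cfsg Cfsg.Agent.OrdDiv

universe u

/-- **Every nonabelian finite simple group has a name** (the classification and the table of the orders). -/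
theorem name {G : Type u} [Group G] [Finite G] [IsSimpleGroup G] (hG : ¬ IsMulCommutative G) : ∃ g, IsNamed g G :=
  exists_named table (S0000.result (G := G)) fun h => hG ⟨⟨h⟩⟩

theorem k_four_simple {G : Type u} [Group G] [Finite G] [IsSimpleGroup G] (hG : ¬ IsMulCommutative G)
    (h4 : (Nat.card G).primeFactors.card ≤ 4) :
    ∃ g, IsNamed g G ∧ ((∃ q, g = .psl 2 q) ∨ (∃ q, g = .sz q) ∨ g ∈ KFL) := by
  obtain ⟨g, hg⟩ := name hG
  exact ⟨g, hg, k_four hg h4⟩

end Cfsg.Agent.H436
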