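import Cfsg.Agent.H436.PslTwo
import Cfsg.Agent.S0252
import Cfsg.Agent.S0253
import Cfsg.Agent.S0254
import Cfsg.Agent.S0255
import Cfsg.Agent.S0822

/-!
# Simple groups with three prime divisors (helper436)
-/

set_option autoImplicit false
open Cfsg

namespace Cfsg.Agent.H436.Core3719

open Cfsg.Agent.H436 Cfsg.Agent.OrdDiv

/-- names on the list with at most three prime divisors of the order -/
theorem filter_eq : (KFL.filter fun g => Nat.ble (np (ordN g)) 3) =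
    [.alt 5, .alt 6, .psl 3 2, .psl 3 3, .psp 2 3, .psu 3 3, .psu 4 2] := by decide

/-- Let G be a finite non-abelian simple group whose order has exactly three distinct prime divisors. Then G is isomorphic to one of the eight groups A₅, PSL₂(7), PSL₂(8), A₆, PSL₂(17), PSL₃(3), PSU₃(3), PSU₄(2). -/
theorem core {G : Type*} [Group G] [Finite G] {g : Grp} (hg : IsNamed g G)
    (h3 : (Nat.card G).primeFactors.card = 3) :
    Nonempty (G ≃* ↥(alternatingGroup (Fin 5))) ∨ Nonempty (G ≃* ↥(alternatingGroup (Fin 6))) ∨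
    (∃ (F : Type) (_ : Field F) (_ : Fintype F), (Fintype.card F = 7 ∨ Fintype.card F = 8 ∨ Fintype.card F = 17) ∧ Nonempty (G ≃* Matrix.ProjectiveSpecialLinearGroup (Fin 2) F)) ∨
    (∃ (F : Type) (_ : Field F) (_ : Fintype F), Fintype.card F = 3 ∧ Nonempty (G ≃* Matrix.ProjectiveSpecialLinearGroup (Fin 3) F)) ∨
    (∃ (F : Type) (_ : Field F) (_ : Fintype F), Fintype.card F = 9 ∧ Nonempty (G ≃* Cfsg.PSU 3 F 3)) ∨
    (∃ (F : Type) (_ : Field F) (_ : Fintype F), Fintype.card F = 4 ∧ Nonempty (G ≃* Cfsg.PSU 4 F 2)) := by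
  have hc : Nat.card G ≠ 0 := Nat.card_pos.ne'
  rcases k_four hg (by omega) with ⟨q, rfl⟩ | ⟨q, rfl⟩ | h
  · -- `L₂(q)`
    obtain ⟨-, h4, hq⟩ := hg.cond
    have h4' := h4 rfl
    have hf := psl_two_factors hq.two_le hg.eq
    rw [hf] at h3
    obtain ⟨F, _, _, hF, ⟨e⟩⟩ := hg.real
    rcases lTwo_three hq h3.le with rfl | rfl | rfl | rfl | rfl | rfl | rfl | rfl
    · omega
    · omega
    · obtain ⟨e'⟩ := S0252.result hF
      exact Or.inl ⟨e.trans e'⟩
    · obtain ⟨e'⟩ := S0253.result hF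
      exact Or.inl ⟨e.trans e'⟩
    · exact Or.inr (Or.inr (Or.inl ⟨F, _, _, Or.inl hF, ⟨e⟩⟩))
    · exact Or.inr (Or.inr (Or.inl ⟨F, _, _, Or.inr (Or.inl hF), ⟨e⟩⟩))
    · obtain ⟨e'⟩ := S0254.result hF
      exact Or.inr (Or.inl ⟨e.trans e'⟩)
    · exact Or.inr (Or.inr (Or.inl ⟨F, _, _, Or.inr (Or.inr hF), ⟨e⟩⟩))
  · -- Suzuki groups
    exfalso
    obtain ⟨m, hm, rfl⟩ := hg.cond
    have h1 : 1 * Nat.card G = (2 ^ (2 * m + 1)) ^ 2 * ((2 ^ (2 * m + 1) - 1) * ((2 ^ (2 * m + 1)) ^ 2 + 1)) := hg.eq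
    have := Cfsg.Agent.Classification.ThreePrimes.four_le_suzuki (n := Nat.card G) hm hc
      ⟨1, by rw [mul_one, ← one_mul (Nat.card G), h1]; ring⟩
    omega
  · have h1 : g ∈ KFL.filter fun g => Nat.ble (np (ordN g)) 3 := by
      rw [List.mem_filter]
      refine ⟨h, ?_⟩
      rw [Nat.ble_eq, ← hg.ord, ← h3]
      exact np_le hc
    rw [filter_eq] at h1
    simp only [List.mem_cons, List.not_mem_nil, or_false] at h1
    have hr := hg.real
    rcases h1 with rfl | rfl | rfl | rfl | rfl | rfl | rfl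
    · exact Or.inl hr
    · exact Or.inr (Or.inl hr)
    · obtain ⟨F, _, _, hF, ⟨e⟩⟩ := hr
      have : Fact (Nat.Prime 7) := ⟨by norm_num⟩
      obtain ⟨e'⟩ := S0255.result (F := ZMod 7) (K := F) (ZMod.card 7) hF
      exact Or.inr (Or.inr (Or.inl ⟨ZMod 7, inferInstance, inferInstance, Or.inl (ZMod.card 7), ⟨e.trans e'.symm⟩⟩))
    · obtain ⟨F, _, _, hF, ⟨e⟩⟩ := hr
      exact Or.inr (Or.inr (Or.inr (Or.inl ⟨F, _, _, hF, ⟨e⟩⟩)))
    · obtain ⟨K, _, _, hK, ⟨e⟩⟩ := hr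
      have : Fact (Nat.Prime 2) := ⟨by norm_num⟩
      have : Fintype (GaloisField 2 2) := Fintype.ofFinite _
      have hF : Fintype.card (GaloisField 2 2) = 4 := by
        rw [Fintype.card_eq_nat_card, GaloisField.card 2 2 (by norm_num)]
        norm_num
      obtain ⟨e'⟩ := S0822.result (F := GaloisField 2 2) (K := K) hF hK
      exact Or.inr (Or.inr (Or.inr (Or.inr (Or.inr ⟨GaloisField 2 2, inferInstance, inferInstance, hF, ⟨e.trans e'.symm⟩⟩))))
    · obtain ⟨F, _, _, hF, ⟨e⟩⟩ := hr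
      exact Or.inr (Or.inr (Or.inr (Or.inr (Or.inl ⟨F, _, _, hF, ⟨e⟩⟩))))
    · obtain ⟨F, _, _, hF, ⟨e⟩⟩ := hr
      exact Or.inr (Or.inr (Or.inr (Or.inr (Or.inr ⟨F, _, _, hF, ⟨e⟩⟩))))

end Cfsg.Agent.H436.Core3719
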