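import Cfsg.Agent.H436.PslTwo
import Cfsg.Agent.ClassicalGeometry.PSLTorus
import Cfsg.Agent.S0812
import Cfsg.Agent.S0252
import Cfsg.Agent.S0253
import Cfsg.Agent.S0333
import Cfsg.Agent.OddCyclic.ClaimC.SzIso

/-!
# Groups with at most one composite element order (helper436)

`AtMost G` : at most one composite element order. The groups `L₂(q)` and `Sz(q)` with this property.
-/

set_option autoImplicit false

namespace Cfsg.Agent.H436.CompOne

open Cfsg

/-- at most one composite element order -/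
def AtMost (G : Type*) [Group G] : Prop :=
  {n : ℕ | n ∈ Set.range (orderOf : G → ℕ) ∧ 1 < n ∧ ¬ n.Prime}.Subsingleton

variable {G : Type*} [Group G]

theorem AtMost.eq (h : AtMost G) {m n : ℕ} (hm : ∃ x : G, orderOf x = m) (hn : ∃ x : G, orderOf x = n)
    (hm1 : 1 < m) (hn1 : 1 < n) (hmp : ¬ m.Prime) (hnp : ¬ n.Prime) : m = n :=
  h ⟨hm, hm1, hmp⟩ ⟨hn, hn1, hnp⟩

theorem exists_of_dvd {m n : ℕ} (h : ∃ x : G, orderOf x = n) (hn : n ≠ 0) (hd : m ∣ n) : ∃ x : G, orderOf x = m := by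
  obtain ⟨x, hx⟩ := h
  obtain ⟨k, rfl⟩ := hd
  refine ⟨x ^ k, ?_⟩
  have hk : k ≠ 0 := by rintro rfl; simp at hn
  rw [orderOf_pow_of_dvd hk (by rw [hx]; exact Dvd.intro_left _ rfl), hx]
  exact Nat.mul_div_cancel _ (Nat.pos_of_ne_zero hk)

theorem AtMost.congr {H : Type*} [Group H] (h : AtMost G) (e : G ≃* H) : AtMost H := by
  have : Set.range (orderOf : H → ℕ) = Set.range (orderOf : G → ℕ) := by
    ext n
    constructor
    · rintro ⟨x, rfl⟩
      exact ⟨e.symm x, MulEquiv.orderOf_eq e.symm x⟩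
    · rintro ⟨x, rfl⟩
      exact ⟨e x, MulEquiv.orderOf_eq e x⟩
  unfold AtMost
  rw [this]
  exact h

/-- the nonsplit torus -/
theorem exists_add (F : Type) [Field F] [Fintype F] : ∃ x : Matrix.ProjectiveSpecialLinearGroup (Fin 2) F,
    orderOf x = (Fintype.card F + 1) / Nat.gcd 2 (Fintype.card F - 1) := by
  obtain ⟨C, H, -, -, hC, hc, -⟩ := ClassicalGeometry.PSLTorus.exists_psl_torus F
  obtain ⟨g, hg⟩ := hC.exists_generator
  refine ⟨g, ?_⟩
  rw [← hc, Subgroup.orderOf_coe]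
  exact orderOf_eq_card_of_forall_mem_zpowers hg

/-- the split torus -/
theorem exists_sub (F : Type) [Field F] [Fintype F] (hq : Fintype.card F ∉ ({2, 3, 5, 7, 9, 11} : Finset ℕ)) :
    ∃ x : Matrix.ProjectiveSpecialLinearGroup (Fin 2) F,
      orderOf x = (Fintype.card F - 1) / Nat.gcd 2 (Fintype.card F - 1) := by
  obtain ⟨H, -, ⟨e⟩⟩ := S0812.result (F := F) rfl hq
  refine ⟨(e.symm (DihedralGroup.r 1) : H), ?_⟩
  rw [Subgroup.orderOf_coe, MulEquiv.orderOf_eq e.symm, DihedralGroup.orderOf_r_one]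

theorem not_prime_of_mul {a b n : ℕ} (h : n = a * b) (ha : 2 ≤ a) (hb : 2 ≤ b) : ¬ n.Prime := by
  rw [h]
  exact Nat.not_prime_mul (by omega) (by omega)

/-- number theory, `q` even -/
theorem even_case {f : ℕ} (hf : 3 ≤ f) (h4 : f ≠ 4)
    (h : AtMost G) (ha : ∃ x : G, orderOf x = 2 ^ f + 1) (hb : ∃ x : G, orderOf x = 2 ^ f - 1) :
    f = 3 ∨ ((2 ^ f - 1).Prime ∧ ∃ r : ℕ, r.Prime ∧ 2 ^ f + 1 = 3 * r) := by
  have h8 : 8 ≤ 2 ^ f := by
    calc 8 = 2 ^ 3 := by norm_num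
      _ ≤ 2 ^ f := Nat.pow_le_pow_right (by norm_num) hf
  rcases Nat.even_or_odd' f with ⟨g, hg | hg⟩
  · exfalso
    have hg3 : 3 ≤ g := by omega
    have hg8 : 8 ≤ 2 ^ g := by
      calc 8 = 2 ^ 3 := by norm_num
        _ ≤ 2 ^ g := Nat.pow_le_pow_right (by norm_num) hg3
    have hfac : 2 ^ f - 1 = (2 ^ g + 1) * (2 ^ g - 1) := by
      have := Nat.sq_sub_sq (2 ^ g) 1
      rw [one_pow, ← pow_mul, mul_comm g 2, ← hg] at this
      exact this
    have hne : 2 ^ f - 1 ≠ 0 := by omega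
    have hbc : ¬ (2 ^ f - 1).Prime := not_prime_of_mul hfac (by omega) (by omega)
    -- one of the factors is divisible by `3`
    have h3 : 2 ^ g % 3 = 1 ∨ 2 ^ g % 3 = 2 := by
      have : ¬ 3 ∣ 2 ^ g := fun hd => by
        have := (Nat.prime_dvd_prime_iff_eq Nat.prime_three Nat.prime_two).1 (Nat.prime_three.dvd_of_dvd_pow hd)
        omega
      omega
    rcases h3 with h3 | h3
    · obtain ⟨k, hk⟩ : ∃ k, 2 ^ g - 1 = 3 * k := ⟨(2 ^ g - 1) / 3, by omega⟩
      have h1 : ¬ (2 ^ g - 1).Prime := not_prime_of_mul hk (by norm_num) (by omega)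
      have := h.eq (exists_of_dvd hb hne (by rw [hfac]; exact Dvd.intro_left _ rfl)) hb (by omega) (by omega) h1 hbc
      have h7 : 2 * (2 ^ g - 1) ≤ (2 ^ g + 1) * (2 ^ g - 1) := Nat.mul_le_mul_right _ (by omega)
      rw [← hfac, ← this] at h7
      omega
    · obtain ⟨k, hk⟩ : ∃ k, 2 ^ g + 1 = 3 * k := ⟨(2 ^ g + 1) / 3, by omega⟩
      have h1 : ¬ (2 ^ g + 1).Prime := not_prime_of_mul hk (by norm_num) (by omega)
      have := h.eq (exists_of_dvd hb hne (by rw [hfac]; exact Dvd.intro _ rfl)) hb (by omega) (by omega) h1 hbc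
      nlinarith [hfac, this, show 7 ≤ 2 ^ g - 1 by omega]
  · by_cases hf3 : f = 3
    · exact Or.inl hf3
    right
    have h3 : 2 ^ f % 3 = 2 := by
      rw [hg, pow_succ, pow_mul, Nat.mul_mod, Nat.pow_mod]
      norm_num
    obtain ⟨r, hr⟩ : ∃ r, 2 ^ f + 1 = 3 * r := ⟨(2 ^ f + 1) / 3, by omega⟩
    have h32 : 32 ≤ 2 ^ f := by
      calc 32 = 2 ^ 5 := by norm_num
        _ ≤ 2 ^ f := Nat.pow_le_pow_right (by norm_num) (by omega)
    have hac : ¬ (2 ^ f + 1).Prime := not_prime_of_mul hr (by norm_num) (by omega)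
    refine ⟨?_, r, ?_, hr⟩
    · by_contra hcon
      have := h.eq ha hb (by omega) (by omega) hac hcon
      omega
    · by_contra hcon
      have := h.eq ha (exists_of_dvd ha (by omega) (by rw [hr]; exact Dvd.intro_left _ rfl)) (by omega) (by omega)
        hac hcon
      omega

/-- number theory, `q` odd -/
theorem odd_case {p f : ℕ} (hp : p.Prime) (h17 : 17 ≤ p ^ f) (hodd : p ^ f % 2 = 1) (h : AtMost G)
    (ha : ∃ x : G, orderOf x = (p ^ f + 1) / 2) (hb : ∃ x : G, orderOf x = (p ^ f - 1) / 2) :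
    p = 3 ∧ ∃ r s : ℕ, r.Prime ∧ s.Prime ∧ 3 ^ f - 1 = 2 * r ∧ 3 ^ f + 1 = 4 * s := by
  have hf0 : f ≠ 0 := by rintro rfl; simp at h17
  obtain ⟨a, hqa⟩ : ∃ a, p ^ f + 1 = 2 * a := ⟨(p ^ f + 1) / 2, by omega⟩
  have hqb : p ^ f - 1 = 2 * (a - 1) := by omega
  rw [hqa, Nat.mul_div_cancel_left _ (by norm_num)] at ha
  rw [hqb, Nat.mul_div_cancel_left _ (by norm_num)] at hb
  -- mod 3 of `p ^ f`
  have h3 : p ^ f % 3 = 0 → p = 3 := by
    intro h0
    exact ((Nat.prime_dvd_prime_iff_eq Nat.prime_three hp).1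
      (Nat.prime_three.dvd_of_dvd_pow (Nat.dvd_of_mod_eq_zero h0))).symm
  rcases Nat.even_or_odd' a with ⟨k, hk | hk⟩
  · -- `a = 2 k` even, `a - 1` odd
    have hac : ¬ a.Prime := not_prime_of_mul hk (by norm_num) (by omega)
    have hkp : k.Prime := by
      by_contra hcon
      have := h.eq ha (exists_of_dvd ha (by omega) (by rw [hk]; exact Dvd.intro_left _ rfl)) (by omega) (by omega)
        hac hcon
      omega
    have hsp : (a - 1).Prime := by
      by_contra hcon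
      have := h.eq ha hb (by omega) (by omega) hac hcon
      omega
    have hk3 : k % 3 ≠ 0 := by
      intro h0
      have := (Nat.prime_dvd_prime_iff_eq Nat.prime_three hkp).1 (Nat.dvd_of_mod_eq_zero h0)
      omega
    have hs3 : (a - 1) % 3 ≠ 0 := by
      intro h0
      have := (Nat.prime_dvd_prime_iff_eq Nat.prime_three hsp).1 (Nat.dvd_of_mod_eq_zero h0)
      omega
    have hkk : k % 3 = 1 ∨ k % 3 = 2 := by omega
    have hp3 := h3 (by rcases hkk with hkk | hkk <;> omega)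
    subst hp3
    exact ⟨rfl, a - 1, k, hsp, hkp, by omega, by omega⟩
  · -- `a` odd, `a - 1 = 2 k`
    exfalso
    have hbc : ¬ (a - 1).Prime := not_prime_of_mul (a := 2) (b := k) (by omega) (by norm_num) (by omega)
    have hkp : k.Prime := by
      by_contra hcon
      have := h.eq hb (exists_of_dvd hb (by omega) (by rw [show a - 1 = 2 * k by omega]; exact Dvd.intro_left _ rfl))
        (by omega) (by omega) hbc hcon
      omega
    have hsp : a.Prime := by
      by_contra hcon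
      have := h.eq ha hb (by omega) (by omega) hcon hbc
      omega
    have hk3 : k % 3 ≠ 0 := by
      intro h0
      have := (Nat.prime_dvd_prime_iff_eq Nat.prime_three hkp).1 (Nat.dvd_of_mod_eq_zero h0)
      omega
    have hs3 : a % 3 ≠ 0 := by
      intro h0
      have := (Nat.prime_dvd_prime_iff_eq Nat.prime_three hsp).1 (Nat.dvd_of_mod_eq_zero h0)
      omega
    have hkk : k % 3 = 1 ∨ k % 3 = 2 := by omega
    have hp3 := h3 (by rcases hkk with hkk | hkk <;> omega)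
    subst hp3
    -- `3 ^ f ≡ 1 mod 4`, so `f` is even and `3 ^ f ≡ 1 mod 8`, `k` is even
    have hk2 : k % 2 = 1 := by
      rcases hkp.eq_two_or_odd with h0 | h0
      · omega
      · exact h0
    rcases Nat.even_or_odd' f with ⟨g, hg | hg⟩
    · have : 3 ^ f % 8 = 1 := by
        rw [hg, pow_mul, Nat.pow_mod]
        norm_num
      omega
    · have : 3 ^ f % 4 = 3 := by
        rw [hg, pow_succ, pow_mul, Nat.mul_mod, Nat.pow_mod]
        norm_num
      omega

/-- **`L₂(q)` with at most one composite element order.** -/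
theorem psl {F : Type} [Field F] [Fintype F] (hq : 4 ≤ Fintype.card F) (h : AtMost G)
    (e : G ≃* Matrix.ProjectiveSpecialLinearGroup (Fin 2) F) :
    (∃ (F : Type) (_ : Field F) (_ : Fintype F), (Fintype.card F = 5 ∨ Fintype.card F = 7 ∨ Fintype.card F = 8 ∨ Fintype.card F = 9 ∨
        Fintype.card F = 11 ∨ Fintype.card F = 13 ∨ Fintype.card F = 16) ∧ Nonempty (G ≃* Matrix.ProjectiveSpecialLinearGroup (Fin 2) F)) ∨
    (∃ (F : Type) (_ : Field F) (_ : Fintype F), ∃ n r s : ℕ, r.Prime ∧ s.Prime ∧ 3 ^ n - 1 = 2 * r ∧ 3 ^ n + 1 = 4 * s ∧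
        Fintype.card F = 3 ^ n ∧ Nonempty (G ≃* Matrix.ProjectiveSpecialLinearGroup (Fin 2) F)) ∨
    (∃ (F : Type) (_ : Field F) (_ : Fintype F), ∃ n r : ℕ, (2 ^ n - 1).Prime ∧ r.Prime ∧ 2 ^ n + 1 = 3 * r ∧
        Fintype.card F = 2 ^ n ∧ Nonempty (G ≃* Matrix.ProjectiveSpecialLinearGroup (Fin 2) F)) := by
  by_cases hsm : Fintype.card F = 5 ∨ Fintype.card F = 7 ∨ Fintype.card F = 8 ∨ Fintype.card F = 9 ∨
        Fintype.card F = 11 ∨ Fintype.card F = 13 ∨ Fintype.card F = 16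
  · exact Or.inl ⟨F, _, _, hsm, ⟨e⟩⟩
  by_cases h4 : Fintype.card F = 4
  · have : Fact (Nat.Prime 5) := ⟨Nat.prime_five⟩
    obtain ⟨e1⟩ := S0252.result h4
    obtain ⟨e2⟩ := S0253.result (F := ZMod 5) (ZMod.card 5)
    exact Or.inl ⟨ZMod 5, inferInstance, inferInstance, Or.inl (ZMod.card 5), ⟨(e.trans e1).trans e2.symm⟩⟩
  push Not at hsm
  have hne : Fintype.card F ∉ ({2, 3, 5, 7, 9, 11} : Finset ℕ) := by
    simp only [Finset.mem_insert, Finset.mem_singleton]
    omega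
  have ha := exists_add F
  have hb := exists_sub F hne
  have h' := h.congr e
  obtain ⟨p, f, hp, hf, hpf⟩ := (isPrimePow_nat_iff _).1 (Fintype.isPrimePow_card_of_field (α := F))
  rw [← hpf] at ha hb hne hsm h4 hq
  rcases hp.eq_two_or_odd with h2 | h2
  · subst h2
    have hev : (2 ^ f) % 2 = 0 := Nat.mod_eq_zero_of_dvd (dvd_pow_self 2 (by omega))
    have hg : Nat.gcd 2 (2 ^ f - 1) = 1 := Nat.coprime_two_left.2 (Nat.odd_iff.2 (by omega))
    rw [hg, Nat.div_one] at ha hb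
    have hf3 : 3 ≤ f := by
      by_contra hlt
      interval_cases f
      · omega
      · omega
    have hf4 : f ≠ 4 := by rintro rfl; omega
    rcases even_case hf3 hf4 h' ha hb with h5 | ⟨h5, r, hr, h6⟩
    · subst h5; omega
    · exact Or.inr (Or.inr ⟨F, _, _, f, r, h5, hr, h6, hpf.symm, ⟨e⟩⟩)
  · have hodd : p ^ f % 2 = 1 := Nat.odd_iff.1 (Nat.odd_iff.2 h2).pow
    have hg : Nat.gcd 2 (p ^ f - 1) = 2 := Nat.gcd_eq_left (by omega)
    rw [hg] at ha hb
    have h17 : 17 ≤ p ^ f := by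
      by_contra hlt
      have hpp : IsPrimePow (p ^ f) := by rw [hpf]; exact Fintype.isPrimePow_card_of_field
      have h15 : p ^ f = 15 := by omega
      rw [h15] at hpp
      revert hpp
      rw [isPrimePow_nat_iff]
      rintro ⟨r, k, hr, hk, h9⟩
      have h3 : 3 ∣ r ^ k := by rw [h9]; norm_num
      have h5 : 5 ∣ r ^ k := by rw [h9]; norm_num
      have h3' := (Nat.prime_dvd_prime_iff_eq Nat.prime_three hr).1 (Nat.prime_three.dvd_of_dvd_pow h3)
      have h5' := (Nat.prime_dvd_prime_iff_eq Nat.prime_five hr).1 (Nat.prime_five.dvd_of_dvd_pow h5)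
      omega
    obtain ⟨h3, r, s, hr, hs, h5, h6⟩ := odd_case hp h17 hodd h' ha hb
    subst h3
    exact Or.inr (Or.inl ⟨F, _, _, f, r, s, hr, hs, h5, h6, hpf.symm, ⟨e⟩⟩)

/-- **`Sz(q)` with at most one composite element order**, `4` being an element order -/
theorem suzuki {F : Type} [Field F] [Fintype F] {m : ℕ} (hm : 1 ≤ m) (hF : Fintype.card F = 2 ^ (2 * m + 1))
    (h : AtMost G) (h4 : ∃ x : G, orderOf x = 4) (e : G ≃* ↥(Cfsg.Lie.Sz F (2 ^ (m + 1)))) : m = 1 := by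
  by_contra hm1
  have hm2 : 2 ≤ m := by omega
  obtain ⟨e'⟩ := OddCyclic.ClaimC.SzIso.iso hm hF
  have key : ∀ k ∈ ({2 ^ (2 * m + 1) + 2 ^ (m + 1) + 1, 2 ^ (2 * m + 1) - 2 ^ (m + 1) + 1} : Set ℕ),
      ∃ x : G, orderOf x = k := by
    intro k hk
    obtain ⟨U, hU, hc, -, -⟩ := S0333.result hm hF k hk
    obtain ⟨g, hg⟩ := hU.exists_generator
    refine ⟨(e.trans e'.symm).symm g, ?_⟩
    rw [MulEquiv.orderOf_eq, Subgroup.orderOf_coe, ← hc]
    exact orderOf_eq_card_of_forall_mem_zpowers hg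
  set q := 2 ^ (2 * m + 1) with hq
  set t := 2 ^ (m + 1) with ht
  have htt : t * t = 2 * q := by
    rw [ht, hq, ← pow_add, ← pow_succ']
    congr 1
    omega
  have ht8 : 8 ≤ t := by
    calc 8 = 2 ^ 3 := by norm_num
      _ ≤ 2 ^ (m + 1) := Nat.pow_le_pow_right (by norm_num) (by omega)
  have hq2 : 4 * t ≤ q := by nlinarith
  have hqe : q % 2 = 0 := by rw [hq, pow_succ]; omega
  have hte : t % 2 = 0 := by rw [ht, pow_succ]; omega
  -- `5 ∣ q ^ 2 + 1`
  have h5 : 5 ∣ (q + t + 1) * (q - t + 1) := by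
    obtain ⟨A, hA⟩ : ∃ A, q - t + 1 = A ∧ A + t = q + 1 := ⟨q - t + 1, rfl, by omega⟩
    have h1 : (q + t + 1) * A = q ^ 2 + 1 := by
      have h1 : (A : ℤ) = q + 1 - t := by omega
      have h2 : (t : ℤ) * t = 2 * q := by exact_mod_cast htt
      have h3 : (q + t + 1 : ℤ) * A = q ^ 2 + 1 := by
        rw [h1]; linear_combination -h2
      exact_mod_cast h3
    rw [hA.1, h1]
    have h3 : q ^ 2 % 5 = 4 := by
      rw [hq, ← pow_mul, show (2 * m + 1) * 2 = 4 * m + 2 by ring, pow_add, pow_mul, Nat.mul_mod, Nat.pow_mod]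
      norm_num
    omega
  have fin : ∀ k : ℕ, (∃ x : G, orderOf x = k) → 5 ∣ k → 9 ≤ k → k % 2 = 1 → False := by
    intro k hk hd h9 ho
    obtain ⟨l, rfl⟩ := hd
    have h6 := h.eq hk h4 (by omega) (by norm_num) (Nat.not_prime_mul (by norm_num) (by omega)) (by norm_num)
    omega
  rcases (Nat.prime_five.dvd_mul.1 h5) with h6 | h6
  · exact fin _ (key _ (by simp)) h6 (by omega) (by omega)
  · exact fin _ (key _ (by simp)) h6 (by omega) (by omega)

end Cfsg.Agent.H436.CompOne
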