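import Cfsg.Agent.H436.SieveM
import Cfsg.Agent.H436.ResOdd
import Cfsg.Agent.H436.DefZero
import Cfsg.Agent.S0165

/-!
# The arithmetic sieve for the Monster with less information on the centralizers (helper436)

`Facts2` : real elements of orders 3, ..., 41; the centralizers of elements of orders 29, 41, 59, 71 have odd order prime to
`p`; `|C(y)| ∣ 17 * 168` for `y` of order 17, `|C(y)| = 94` for `y` of order 47; an element of order 31 conjugate to its
25-th power; a real irreducible character of degree 196883 (for `p = 47`).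
-/

set_option autoImplicit false

set_option linter.unusedSectionVars false

open scoped ComplexConjugate Pointwise
open Cfsg

namespace Cfsg.Agent.H436.SieveM

open Cfsg.Agent.H702.Sieve Cfsg.Agent.H436.D1Rat Cfsg.Agent.H436.ResOdd

/-! ### The numerical checks -/

/-- the test: `false` if all the conditions hold -/
def test2 (p : ℕ) (es : List ℕ) (x : ℕ) : Bool :=
  !(res 41 [1] x && res 29 [1] x && res p es x && res 59 [0, 1] x && res 71 [0, 1] x && res 47 [0, 1] x &&
    res 17 [1, 3, 7] x)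

theorem pw_join {q : ℕ} {f : ℕ → Bool} : ∀ {m n x y : ℕ}, x * q ^ (m + 1) = y → pw q m f x = true →
    pw q n f y = true → pw q (m + 1 + n) f x = true
  | 0, n, x, y, h, h1, h2 => by
    rw [zero_add, pow_one] at h
    rw [zero_add, add_comm, pw, h, h2, Bool.and_true]
    exact h1
  | m + 1, n, x, y, h, h1, h2 => by
    rw [pw, Bool.and_eq_true] at h1
    have h3 : m + 1 + 1 + n = (m + 1 + n) + 1 := by omega
    rw [h3, pw, Bool.and_eq_true]
    exact ⟨h1.1, pw_join (by rw [← h, mul_assoc, ← pow_succ']) h1.2 h2⟩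

theorem pw_four {f : ℕ → Bool} (h0 : pw 3 4 f 1 = true) (h1 : pw 3 4 f 243 = true) (h2 : pw 3 4 f 59049 = true)
    (h3 : pw 3 4 f 14348907 = true) : pw 3 19 f 1 = true :=
  pw_join (m := 4) (n := 14) (y := 243) (by norm_num) h0
    (pw_join (m := 4) (n := 9) (y := 59049) (by norm_num) h1
      (pw_join (m := 4) (n := 4) (y := 14348907) (by norm_num) h2 h3))

theorem chkA31_0 : pw 3 4 (chk [(5, 8), (7, 5), (11, 1), (13, 2), (23, 1), (47, 1), (59, 1), (71, 1)]
    (test2 31 [3, 15])) 1 = true := by decide +kernel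

theorem chkA31_1 : pw 3 4 (chk [(5, 8), (7, 5), (11, 1), (13, 2), (23, 1), (47, 1), (59, 1), (71, 1)]
    (test2 31 [3, 15])) 243 = true := by decide +kernel

theorem chkA31_2 : pw 3 4 (chk [(5, 8), (7, 5), (11, 1), (13, 2), (23, 1), (47, 1), (59, 1), (71, 1)]
    (test2 31 [3, 15])) 59049 = true := by decide +kernel

theorem chkA31_3 : pw 3 4 (chk [(5, 8), (7, 5), (11, 1), (13, 2), (23, 1), (47, 1), (59, 1), (71, 1)]
    (test2 31 [3, 15])) 14348907 = true := by decide +kernel

theorem chk31' : chk [(3, 19), (5, 8), (7, 5), (11, 1), (13, 2), (23, 1), (47, 1), (59, 1), (71, 1)]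
    (test2 31 [3, 15]) 1 = true := pw_four chkA31_0 chkA31_1 chkA31_2 chkA31_3

theorem chkA23_0 : pw 3 4 (chk [(5, 8), (7, 5), (11, 1), (13, 2), (31, 1), (47, 1), (59, 1), (71, 1)]
    (test2 23 [11])) 1 = true := by decide +kernel

theorem chkA23_1 : pw 3 4 (chk [(5, 8), (7, 5), (11, 1), (13, 2), (31, 1), (47, 1), (59, 1), (71, 1)]
    (test2 23 [11])) 243 = true := by decide +kernel

theorem chkA23_2 : pw 3 4 (chk [(5, 8), (7, 5), (11, 1), (13, 2), (31, 1), (47, 1), (59, 1), (71, 1)]
    (test2 23 [11])) 59049 = true := by decide +kernel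

theorem chkA23_3 : pw 3 4 (chk [(5, 8), (7, 5), (11, 1), (13, 2), (31, 1), (47, 1), (59, 1), (71, 1)]
    (test2 23 [11])) 14348907 = true := by decide +kernel

theorem chk23' : chk [(3, 19), (5, 8), (7, 5), (11, 1), (13, 2), (31, 1), (47, 1), (59, 1), (71, 1)]
    (test2 23 [11]) 1 = true := pw_four chkA23_0 chkA23_1 chkA23_2 chkA23_3

/-- the test for `p = 47` -/
def test47 (x : ℕ) : Bool :=
  !(Nat.ble (2 * x + 1) 38762915689 && res 41 [1] x && res 29 [1] x && res 47 [23] x && res 59 [0, 1] x && res 71 [0, 1] x)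

theorem chkA47_0 : pw 3 4 (chk [(5, 8), (7, 5), (11, 1), (13, 2), (23, 1), (31, 1), (59, 1), (71, 1)]
    test47) 1 = true := by decide +kernel

theorem chkA47_1 : pw 3 4 (chk [(5, 8), (7, 5), (11, 1), (13, 2), (23, 1), (31, 1), (59, 1), (71, 1)]
    test47) 243 = true := by decide +kernel

theorem chkA47_2 : pw 3 4 (chk [(5, 8), (7, 5), (11, 1), (13, 2), (23, 1), (31, 1), (59, 1), (71, 1)]
    test47) 59049 = true := by decide +kernel

theorem chkA47_3 : pw 3 4 (chk [(5, 8), (7, 5), (11, 1), (13, 2), (23, 1), (31, 1), (59, 1), (71, 1)]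
    test47) 14348907 = true := by decide +kernel

theorem chk47' : chk [(3, 19), (5, 8), (7, 5), (11, 1), (13, 2), (23, 1), (31, 1), (59, 1), (71, 1)]
    test47 1 = true := pw_four chkA47_0 chkA47_1 chkA47_2 chkA47_3

/-! ### The residues -/

universe w

section exc

variable {S : Type w} [Group S] [Finite S] {p : ℕ} [hp : Fact p.Prime] (E : Exc p S)

include hp in
theorem res_of_val {s a : ℕ} (hs : s.Prime) (hsp : s ≠ p) {σ : S} (hσ : orderOf σ = s) (has : a < s) {l : List ℕ}
    (hal : a ∈ l) (hv : E.v σ = a ∨ E.v σ = -a) : res s l (E.v 1).toNat = true := by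
  have hcong : (s : ℤ) ∣ E.v σ - E.v 1 := E.congr_one hs hsp ⟨1, by rw [pow_one, hσ]⟩
  refine res_of has hal ?_
  rw [toNat_eq]
  rcases hv with hv | hv
  · left
    rw [← hv, ← dvd_neg, neg_sub]
    exact hcong
  · right
    have h6 : E.v 1 + (a : ℤ) = -(E.v σ - E.v 1) := by rw [hv]; ring
    rw [h6, dvd_neg]
    exact hcong

include hp in
/-- **Centralizers of odd order.** -/
theorem res_odd {s : ℕ} (hs : s.Prime) (hs2 : s ≠ 2) (hsp : s ≠ p) (hd2 : ¬ s ^ 2 ∣ Nat.card S) {σ : S}
    (hσ : orderOf σ = s) (hpc : ¬ p ∣ Nat.card (Subgroup.centralizer ({σ} : Set S)))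
    (hodd : Odd (Nat.card (Subgroup.centralizer ({σ} : Set S)))) : res s [0, 1] (E.v 1).toNat = true := by
  have fs : Fact s.Prime := ⟨hs⟩
  rcases exc_odd E hs2 hsp hd2 hσ hpc hodd with h | h | h
  · exact res_of_val E hs hsp hσ (a := 0) hs.pos (by simp) (Or.inl (by rw [h]; rfl))
  · exact res_of_val E hs hsp hσ (a := 1) hs.one_lt (by simp) (Or.inl (by rw [h]; rfl))
  · exact res_of_val E hs hsp hσ (a := 1) hs.one_lt (by simp) (Or.inr (by rw [h]; rfl))

include hp in
/-- The same for real elements. -/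
theorem res_odd_real {s : ℕ} (hs : s.Prime) (hs2 : s ≠ 2) (hsp : s ≠ p) (hd2 : ¬ s ^ 2 ∣ Nat.card S) {σ : S}
    (hσ : orderOf σ = s) (hreal : IsConj σ σ⁻¹) (hpc : ¬ p ∣ Nat.card (Subgroup.centralizer ({σ} : Set S)))
    (hodd : Odd (Nat.card (Subgroup.centralizer ({σ} : Set S)))) : res s [1] (E.v 1).toNat = true := by
  have fs : Fact s.Prime := ⟨hs⟩
  have hpσ : ¬ p ∣ orderOf σ := by
    rw [hσ]
    intro h
    exact hsp ((Nat.prime_dvd_prime_iff_eq hp.out hs).1 h).symm
  have h1 := E.odd_v σ hpσ hreal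
  rcases exc_odd E hs2 hsp hd2 hσ hpc hodd with h | h | h
  · rw [h] at h1
    exact absurd h1 (by decide)
  · exact res_of_val E hs hsp hσ (a := 1) hs.one_lt (by simp) (Or.inl (by rw [h]; rfl))
  · exact res_of_val E hs hsp hσ (a := 1) hs.one_lt (by simp) (Or.inr (by rw [h]; rfl))

end exc

/-! ### The facts -/

/-- the facts on the Monster which enter the sieve -/
structure Facts2 (S : Type w) [Group S] : Prop where
  card : Nat.card S = NM
  real : ∀ r ∈ [3, 5, 7, 11, 13, 17, 19, 29, 41], ∃ g : S, orderOf g = r ∧ IsConj g g⁻¹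
  c17 : ∀ g : S, orderOf g = 17 → Nat.card (Subgroup.centralizer ({g} : Set S)) ∣ 17 * 168
  c47 : ∀ g : S, orderOf g = 47 → Nat.card (Subgroup.centralizer ({g} : Set S)) = 47 * 2
  odd : ∀ r ∈ [29, 41, 59, 71], ∀ g : S, orderOf g = r → Odd (Nat.card (Subgroup.centralizer ({g} : Set S)))
  ndvd : ∀ p ∈ [23, 31, 47], ∀ r ∈ [29, 41, 59, 71], ∀ g : S, orderOf g = r →
    ¬ p ∣ Nat.card (Subgroup.centralizer ({g} : Set S))
  n31 : ∃ x h : S, orderOf x = 31 ∧ h * x * h⁻¹ = x ^ 25

section main

variable {S : Type w} [Group S] [Finite S]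

theorem div_of2 {p : ℕ} [hp : Fact p.Prime] (F : Facts2 S) (E : Exc p S)
    (hpl : p ≠ 3 ∧ p ≠ 5 ∧ p ≠ 7 ∧ p ≠ 11 ∧ p ≠ 13 ∧ p ≠ 17 ∧ p ≠ 19 ∧ p ≠ 29 ∧ p ≠ 41) : Div (E.v 1).toNat := by
  have key : ∀ (r n : ℕ), r ∈ [3, 5, 7, 11, 13, 17, 19, 29, 41] → r.Prime → r ≠ p → r ^ n ∣ NM → ¬ r ^ (n + 1) ∣ NM →
      ¬ r ^ n ∣ (E.v 1).toNat := by
    intro r n hr hrp hne h1 h2 h3
    obtain ⟨g, hg, hreal⟩ := F.real r hr
    refine E.not_pow_dvd (n := n) hrp (by rw [F.card]; exact h1) (by rw [F.card]; exact h2) (g := g) ?_ (by rw [hg]) hreal ?_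
    · rw [hg]
      intro h
      exact hne ((Nat.prime_dvd_prime_iff_eq hp.out hrp).1 h).symm
    · rw [← toNat_eq]
      exact_mod_cast h3
  obtain ⟨p3, p5, p7, p11, p13, p17, p19, p29, p41⟩ := hpl
  constructor
  · have h1 := E.v_one_dvd
    rw [F.card, ← toNat_eq] at h1
    exact_mod_cast h1
  · intro h
    have h1 := E.odd_v_one
    rw [← toNat_eq] at h1
    have h2 : Odd (E.v 1).toNat := by exact_mod_cast h1
    exact (Nat.not_even_iff_odd.2 h2) (even_iff_two_dvd.2 h)
  · exact key 3 20 (by decide) (by norm_num) p3.symm (by decide +kernel) (by decide +kernel)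
  · exact key 5 9 (by decide) (by norm_num) p5.symm (by decide +kernel) (by decide +kernel)
  · exact key 7 6 (by decide) (by norm_num) p7.symm (by decide +kernel) (by decide +kernel)
  · exact key 11 2 (by decide) (by norm_num) p11.symm (by decide +kernel) (by decide +kernel)
  · exact key 13 3 (by decide) (by norm_num) p13.symm (by decide +kernel) (by decide +kernel)
  · have := key 17 1 (by decide) (by norm_num) p17.symm (by decide +kernel) (by decide +kernel)
    rwa [pow_one] at this
  · have := key 19 1 (by decide) (by norm_num) p19.symm (by decide +kernel) (by decide +kernel)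
    rwa [pow_one] at this
  · have := key 29 1 (by decide) (by norm_num) p29.symm (by decide +kernel) (by decide +kernel)
    rwa [pow_one] at this
  · have := key 41 1 (by decide) (by norm_num) p41.symm (by decide +kernel) (by decide +kernel)
    rwa [pow_one] at this

theorem sq_not_dvd2 (F : Facts2 S) {s : ℕ} (hs : s ∈ [17, 29, 31, 41, 47, 59, 71, 23]) : ¬ s ^ 2 ∣ Nat.card S := by
  rw [F.card]
  revert s
  decide +kernel

theorem dvd_card2 (F : Facts2 S) {s : ℕ} (hs : s ∈ [17, 29, 31, 41, 47, 59, 71, 23]) : s ∣ Nat.card S := by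
  rw [F.card]
  revert s
  decide +kernel

/-- the residues common to the three primes -/
theorem residues2 {p : ℕ} [hp : Fact p.Prime] (F : Facts2 S) (E : Exc p S) (hp23 : p ∈ [23, 31, 47]) :
    res 41 [1] (E.v 1).toNat = true ∧ res 29 [1] (E.v 1).toNat = true ∧ res 59 [0, 1] (E.v 1).toNat = true ∧
      res 71 [0, 1] (E.v 1).toNat = true := by
  have hne : ∀ s ∈ [29, 41, 59, 71], s ≠ p := by
    intro s hs
    simp only [List.mem_cons, List.not_mem_nil, or_false] at hs hp23
    omega
  refine ⟨?_, ?_, ?_, ?_⟩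
  · obtain ⟨σ, hσ, hreal⟩ := F.real 41 (by decide)
    exact res_odd_real E (by norm_num) (by norm_num) (hne 41 (by decide)) (sq_not_dvd2 F (by decide)) hσ hreal
      (F.ndvd p hp23 41 (by decide) σ hσ) (F.odd 41 (by decide) σ hσ)
  · obtain ⟨σ, hσ, hreal⟩ := F.real 29 (by decide)
    exact res_odd_real E (by norm_num) (by norm_num) (hne 29 (by decide)) (sq_not_dvd2 F (by decide)) hσ hreal
      (F.ndvd p hp23 29 (by decide) σ hσ) (F.odd 29 (by decide) σ hσ)
  · obtain ⟨σ, hσ⟩ := exists_orderOf (S := S) (s := 59) (by norm_num) (dvd_card2 F (by decide))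
    exact res_odd E (by norm_num) (by norm_num) (hne 59 (by decide)) (sq_not_dvd2 F (by decide)) hσ
      (F.ndvd p hp23 59 (by decide) σ hσ) (F.odd 59 (by decide) σ hσ)
  · obtain ⟨σ, hσ⟩ := exists_orderOf (S := S) (s := 71) (by norm_num) (dvd_card2 F (by decide))
    exact res_odd E (by norm_num) (by norm_num) (hne 71 (by decide)) (sq_not_dvd2 F (by decide)) hσ
      (F.ndvd p hp23 71 (by decide) σ hσ) (F.odd 71 (by decide) σ hσ)

theorem list17 : ∀ n ∈ Nat.divisors 168, ∀ i ∈ Nat.divisors (17 - 1), ∀ d ∈ Nat.divisors n, i * d ^ 2 ≤ n →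
    (i * d = 1 ∨ i * d ^ 2 + 1 ≤ n) → i * d % 2 = 1 → i * d ∈ [1, 3, 7] := by decide +kernel

/-- the residues for `p = 23, 31` -/
theorem residues2' {p : ℕ} [hp : Fact p.Prime] (F : Facts2 S) (E : Exc p S) (hp23 : p ∈ [23, 31]) :
    res 47 [0, 1] (E.v 1).toNat = true ∧ res 17 [1, 3, 7] (E.v 1).toNat = true := by
  have hne : ∀ s ∈ [17, 47], s ≠ p := by
    intro s hs
    simp only [List.mem_cons, List.not_mem_nil, or_false] at hs hp23
    omega
  refine ⟨?_, ?_⟩
  · obtain ⟨σ, hσ⟩ := exists_orderOf (S := S) (s := 47) (by norm_num) (dvd_card2 F (by decide))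
    refine exists_res E (by norm_num) (hne 47 (by decide)) (sq_not_dvd2 F (by decide)) hσ (F.c47 σ hσ) ?_ (by decide)
      (by decide +kernel) (by decide)
    simp only [List.mem_cons, List.not_mem_nil, or_false] at hp23
    rcases hp23 with rfl | rfl <;> norm_num
  · obtain ⟨σ, hσ, hreal⟩ := F.real 17 (by decide)
    have h1 := F.c17 σ hσ
    obtain ⟨n, hn⟩ : 17 ∣ Nat.card (Subgroup.centralizer ({σ} : Set S)) := by
      rw [← hσ, ← Subgroup.orderOf_mk σ (Subgroup.mem_centralizer_singleton_iff.2 rfl)]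
      exact orderOf_dvd_natCard _
    rw [hn] at h1
    have h2 : n ∣ 168 := Nat.dvd_of_mul_dvd_mul_left (by norm_num) h1
    refine exists_res_real E (by norm_num) (hne 17 (by decide)) (sq_not_dvd2 F (by decide)) hσ hreal hn ?_
      (list17 n (Nat.mem_divisors.2 ⟨h2, by norm_num⟩)) (by decide)
    intro h3
    have h4 := h3.trans h2
    simp only [List.mem_cons, List.not_mem_nil, or_false] at hp23
    rcases hp23 with rfl | rfl <;> revert h4 <;> norm_num

theorem not_dvd_of_res {p : ℕ} {es : List ℕ} {x : ℕ} (h : res p es x = true) (hes : ∀ a ∈ es, 0 < a ∧ a < p) : ¬ p ∣ x := by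
  intro hd
  unfold res at h
  rw [List.any_eq_true] at h
  obtain ⟨a, ha, h⟩ := h
  obtain ⟨h1, h2⟩ := hes a ha
  rw [Bool.or_eq_true, Nat.beq_eq, Nat.beq_eq, Nat.mod_eq_zero_of_dvd hd] at h
  omega

theorem mem_of_e {p : ℕ} [hp : Fact p.Prime] (E : Exc p S) {es : List ℕ} (he : E.e ∈ es) (hep : E.e < p) :
    res p es (E.v 1).toNat = true := by
  have h1 := E.dvd_sub
  rw [← toNat_eq] at h1
  refine res_of hep he ?_
  rcases E.B.d_eq with h | h
  · left
    rwa [h, mul_one] at h1
  · right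
    rwa [h, mul_neg, mul_one, sub_neg_eq_add] at h1

theorem no_exc2_23 [Fact (Nat.Prime 23)] (F : Facts2 S) (E : Exc 23 S) : False := by
  obtain ⟨h41, h29, h59, h71⟩ := residues2 F E (by decide)
  obtain ⟨h47, h17⟩ := residues2' F E (by decide)
  have he : E.e = 11 := by
    have h1 := E.het
    have h2 := E.odd_e
    have h3 := E.one_lt_e
    have h4 : E.e ∣ 22 := Dvd.intro _ h1
    have h5 : E.e ∈ Nat.divisors 22 := Nat.mem_divisors.2 ⟨h4, by norm_num⟩
    have h6 : Nat.divisors 22 = {1, 2, 11, 22} := by decide +kernel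
    rw [h6] at h5
    simp only [Finset.mem_insert, Finset.mem_singleton] at h5
    rcases h5 with h | h | h | h
    · omega
    · rw [h] at h2; exact absurd h2 (by decide)
    · exact h
    · rw [h] at h2; exact absurd h2 (by decide)
  have hr := mem_of_e E (es := [11]) (by rw [he]; decide) (by rw [he]; norm_num)
  have hD := div_of2 F E (by norm_num)
  have hc := chk_spec chk23' (by decide +kernel) _ (hD.red23 (not_dvd_of_res hr (by decide)))
  rw [one_mul] at hc
  unfold test2 at hc
  rw [h41, h29, hr, h59, h71, h47, h17] at hc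
  exact absurd hc (by decide)

/-- 3 divides `|N(P) : C(P)|` -/
theorem three_dvd_e [Fact (Nat.Prime 31)] (F : Facts2 S) (E : Exc 31 S) : 3 ∣ E.e := by
  have h31 : Nat.Prime 31 := by norm_num
  obtain ⟨x, h, hx, hxh⟩ := F.n31
  have hfac : (Nat.card S).factorization 31 = 1 := by
    have hne : Nat.card S ≠ 0 := Nat.card_pos.ne'
    have g1 := (Nat.Prime.pow_dvd_iff_le_factorization (p := 31) (k := 1) (by norm_num) hne).1
      (by rw [pow_one]; exact dvd_card2 F (by decide))
    have g2 : ¬ 2 ≤ (Nat.card S).factorization 31 := fun h =>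
      sq_not_dvd2 F (s := 31) (by decide) ((Nat.Prime.pow_dvd_iff_le_factorization (p := 31) (by norm_num) hne).2 h)
    omega
  let Q : Sylow 31 S := Sylow.ofCard E.P (by rw [E.card_P, hfac, pow_one])
  let R : Sylow 31 S := Sylow.ofCard (Subgroup.zpowers x) (by rw [Nat.card_zpowers, hx, hfac, pow_one])
  obtain ⟨g, hg⟩ := MulAction.exists_smul_eq S R Q
  have hQ : E.P = MulAut.conj g • Subgroup.zpowers x := by
    have h1 : (Q : Subgroup S) = ((g • R : Sylow 31 S) : Subgroup S) := by rw [hg]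
    exact h1
  set y : S := g * x * g⁻¹ with hy
  set k : S := g * h * g⁻¹ with hk
  have hyP : y ∈ E.P := by
    rw [hQ]
    exact Subgroup.smul_mem_pointwise_smul x (MulAut.conj g) _ (Subgroup.mem_zpowers x)
  have hyo : orderOf y = 31 := by
    rw [hy, ← hx]
    exact orderOf_injective (MulAut.conj g).toMonoidHom (MulAut.conj g).injective x
  have hPy : E.P = Subgroup.zpowers y := by
    symm
    refine Subgroup.eq_of_le_of_card_ge (by rw [Subgroup.zpowers_le]; exact hyP) ?_
    rw [Nat.card_zpowers, hyo, E.card_P]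
  have hky : k * y * k⁻¹ = y ^ 25 := by
    rw [hy, hk, conj_pow, ← hxh]
    group
  have hkn : ∀ n : ℤ, k * y ^ n * k⁻¹ = y ^ (25 * n) := by
    intro n
    rw [← conj_zpow, hky, zpow_mul]
    norm_cast
  have hkN : k ∈ Subgroup.normalizer (E.P : Set S) := by
    have h1 : E.P.map (MulAut.conj k).toMonoidHom = E.P := by
      refine Subgroup.eq_of_le_of_card_ge ?_ ?_
      · rw [hPy, MonoidHom.map_zpowers, Subgroup.zpowers_le]
        show k * y * k⁻¹ ∈ Subgroup.zpowers y
        rw [hky]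
        exact pow_mem (Subgroup.mem_zpowers y) _
      · rw [Subgroup.card_map_of_injective (MulAut.conj k).injective]
    rw [Subgroup.mem_normalizer_iff]
    intro a
    constructor
    · intro ha
      rw [← h1]
      exact ⟨a, ha, rfl⟩
    · intro ha
      rw [← h1] at ha
      obtain ⟨b, hb, hab⟩ := ha
      have : b = a := (MulAut.conj k).injective hab
      rwa [← this]
  -- the image in `N / C` has order 3
  rw [← E.he]
  set N := Subgroup.normalizer (E.P : Set S) with hN
  set C := (Subgroup.centralizer (E.P : Set S)).subgroupOf N with hC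
  have hCn : C.Normal := by
    rw [hC, hN, ← Subgroup.normalizerMonoidHom_ker]
    infer_instance
  show 3 ∣ C.index
  have hcent : ∀ n : ℕ, ((⟨k, hkN⟩ : N) ^ n ∈ C ↔ y ^ (25 ^ n) = y) := by
    intro n
    have hkn' : ∀ n : ℕ, k ^ n * y * (k ^ n)⁻¹ = y ^ (25 ^ n) := by
      intro n
      induction n with
      | zero => simp
      | succ n ih =>
        rw [pow_succ' k, mul_inv_rev]
        calc k * k ^ n * y * ((k ^ n)⁻¹ * k⁻¹) = k * (k ^ n * y * (k ^ n)⁻¹) * k⁻¹ := by group
          _ = k * y ^ (25 ^ n) * k⁻¹ := by rw [ih]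
          _ = (k * y * k⁻¹) ^ (25 ^ n) := conj_pow.symm
          _ = y ^ (25 ^ (n + 1)) := by rw [hky, ← pow_mul, pow_succ' 25]
    rw [Subgroup.mem_subgroupOf, Subgroup.mem_centralizer_iff]
    constructor
    · intro h1
      have h2 := h1 y hyP
      rw [← hkn' n]
      have h3 : ((((⟨k, hkN⟩ : N) ^ n : N)) : S) = k ^ n := rfl
      rw [h3] at h2
      rw [← h2, mul_inv_cancel_right]
    · intro h1 a ha
      have ha' : a ∈ E.P := ha
      rw [hPy] at ha'
      obtain ⟨m, rfl⟩ := Subgroup.mem_zpowers_iff.1 ha'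
      have h3 : ((((⟨k, hkN⟩ : N) ^ n : N)) : S) = k ^ n := rfl
      rw [h3]
      have h4 : Commute (k ^ n) y := by
        have h5 := hkn' n
        rw [h1] at h5
        exact mul_inv_eq_iff_eq_mul.1 h5
      exact (h4.zpow_right m).eq.symm
  have h3 : orderOf ((⟨k, hkN⟩ : N) : N ⧸ C) = 3 := by
    have : Fact (Nat.Prime 3) := ⟨Nat.prime_three⟩
    refine orderOf_eq_prime ?_ ?_
    · rw [← QuotientGroup.mk_pow, QuotientGroup.eq_one_iff, hcent]
      have h4 : y ^ (25 ^ 3 - 1) = 1 := by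
        rw [← orderOf_dvd_iff_pow_eq_one, hyo]
        norm_num
      have h5 : (25 : ℕ) ^ 3 = (25 ^ 3 - 1) + 1 := by norm_num
      rw [h5, pow_succ, h4, one_mul]
    · intro h4
      have h5 := (QuotientGroup.eq_one_iff _).1 h4
      rw [← pow_one (⟨k, hkN⟩ : N), hcent, pow_one] at h5
      have h6 : y ^ 24 = 1 := by
        rw [pow_succ] at h5
        exact mul_eq_right.1 h5
      have h7 := orderOf_dvd_of_pow_eq_one h6
      rw [hyo] at h7
      norm_num at h7
  rw [← h3, Subgroup.index]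
  exact orderOf_dvd_natCard _

theorem no_exc2_31 [Fact (Nat.Prime 31)] (F : Facts2 S) (E : Exc 31 S) : False := by
  obtain ⟨h41, h29, h59, h71⟩ := residues2 F E (by decide)
  obtain ⟨h47, h17⟩ := residues2' F E (by decide)
  have he : E.e = 3 ∨ E.e = 15 := by
    have h0 := three_dvd_e F E
    have h1 := E.het
    have h2 := E.odd_e
    have h3 := E.one_lt_e
    have h4 : E.e ∣ 30 := Dvd.intro _ h1
    have h5 : E.e ∈ Nat.divisors 30 := Nat.mem_divisors.2 ⟨h4, by norm_num⟩
    have h6 : Nat.divisors 30 = {1, 2, 3, 5, 6, 10, 15, 30} := by decide +kernel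
    rw [h6] at h5
    simp only [Finset.mem_insert, Finset.mem_singleton] at h5
    rcases h2 with ⟨j, hj⟩
    omega
  have hr := mem_of_e E (es := [3, 15]) (by rcases he with h | h <;> rw [h] <;> decide) (by omega)
  have hD := div_of2 F E (by norm_num)
  have hc := chk_spec chk31' (by decide +kernel) _ (hD.red31 (not_dvd_of_res hr (by decide)))
  rw [one_mul] at hc
  unfold test2 at hc
  rw [h41, h29, hr, h59, h71, h47, h17] at hc
  exact absurd hc (by decide)

/-- `p = 47`: with the bound from a real character of 47-defect zero -/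
theorem no_exc2_47 [Fact (Nat.Prime 47)] (F : Facts2 S) (E : Exc 47 S) (hb : 2 * E.v 1 + 1 ≤ 38762915689) : False := by
  obtain ⟨h41, h29, h59, h71⟩ := residues2 F E (by decide)
  have he : E.e = 23 := by
    have h1 := E.het
    have h2 := E.odd_e
    have h3 := E.one_lt_e
    have h4 : E.e ∣ 46 := Dvd.intro _ h1
    have h5 : E.e ∈ Nat.divisors 46 := Nat.mem_divisors.2 ⟨h4, by norm_num⟩
    have h6 : Nat.divisors 46 = {1, 2, 23, 46} := by decide +kernel
    rw [h6] at h5
    simp only [Finset.mem_insert, Finset.mem_singleton] at h5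
    rcases h5 with h | h | h | h
    · omega
    · rw [h] at h2; exact absurd h2 (by decide)
    · exact h
    · rw [h] at h2; exact absurd h2 (by decide)
  have hr := mem_of_e E (es := [23]) (by rw [he]; decide) (by rw [he]; norm_num)
  have hD := div_of2 F E (by norm_num)
  have hc := chk_spec chk47' (by decide +kernel) _ (hD.red47 (not_dvd_of_res hr (by decide)))
  have hb' : Nat.ble (2 * (E.v 1).toNat + 1) 38762915689 = true := by
    rw [Nat.ble_eq]
    have h1 := toNat_eq E
    omega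
  rw [one_mul] at hc
  unfold test47 at hc
  rw [hb', h41, h29, hr, h59, h71] at hc
  exact absurd hc (by decide)

open Cfsg.Agent.H702.RealB0

theorem not_comm2 [IsSimpleGroup S] (F : Facts2 S) : ¬ IsMulCommutative S := by
  intro h
  let _ : CommGroup S := { (inferInstance : Group S) with mul_comm := fun a b => h.is_comm.comm a b }
  have h1 : (Nat.card S).Prime := IsSimpleGroup.prime_card
  rw [F.card] at h1
  have h2 : 2 ∣ NM := by decide +kernel
  rcases (Nat.dvd_prime h1).1 h2 with h3 | h3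
  · norm_num at h3
  · norm_num [NM] at h3

/-- characters of degree divisible by `|S|_p` -/
theorem apply_eq_zero {p : ℕ} (hp : p.Prime) (hd : p ∣ Nat.card S) (hd2 : ¬ p ^ 2 ∣ Nat.card S) (ψ : IrrCharacter S)
    {n : ℕ} (hn : (ψ : S → ℂ) 1 = n) (hpn : p ∣ n) {g : S} (hg : p ∣ orderOf g) : (ψ : S → ℂ) g = 0 := by
  obtain ⟨m, ρ, hirr, hρ⟩ := Cfsg.Agent.Characters.Core.isIrrCharacter_def.1 ψ.2
  have h1 : m = n := by
    rw [← hρ, Representation.char_one, Module.finrank_fin_fun] at hn
    exact_mod_cast hn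
  rw [← hρ]
  exact Cfsg.Agent.S0165.result ρ p 1 hp (by rwa [pow_one]) hd2 (by rw [pow_one, Module.finrank_fin_fun, h1]; exact hpn)
    g hg

/-- **The sieve for the Monster, `p = 47`.** -/
theorem hasReal2_47 [IsSimpleGroup S] (F : Facts2 S) {ψ : IrrCharacter S} (hn : (ψ : S → ℂ) 1 = ((196883 : ℕ) : ℂ))
    (hreal : ∀ g : S, ((ψ : S → ℂ) g).im = 0) : HasReal 47 S := by
  have hF : Fact (Nat.Prime 47) := ⟨by norm_num⟩
  have hd := dvd_card2 F (s := 47) (by decide)
  have hd2 := sq_not_dvd2 F (s := 47) (by decide)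
  intro M hM
  by_contra hcon
  have hno : ∀ χ : IrrCharacter S, χ ∈ principalBlock M S → (∀ g : S, ((χ : S → ℂ) g).im = 0) →
      (χ : S → ℂ) = fun _ => 1 := by
    intro χ h1 h2
    by_contra h3
    exact hcon ⟨χ, h1, h3, h2⟩
  obtain ⟨P⟩ : Nonempty (Sylow 47 S) := inferInstance
  have hP : Nat.card (P : Subgroup S) = 47 := by
    have h1 := P.card_eq_multiplicity
    have h2 : (Nat.card S).factorization 47 = 1 := by
      have hne : Nat.card S ≠ 0 := Nat.card_pos.ne'
      have g1 := (Nat.Prime.pow_dvd_iff_le_factorization (p := 47) (k := 1) (by norm_num) hne).1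
        (by rw [pow_one]; exact hd)
      have g2 : ¬ 2 ≤ (Nat.card S).factorization 47 := fun h =>
        hd2 ((Nat.Prime.pow_dvd_iff_le_factorization (p := 47) (by norm_num) hne).2 h)
      omega
    rw [h1, h2, pow_one]
  have hne : Nat.card S ≠ 47 := by
    rw [F.card]
    norm_num [NM]
  obtain ⟨E, -, hmem⟩ := exists_exc_of_block (by norm_num) hM P hP
    (SmallSimple.BurnsideNC.relIndex_ne_one hd hne P) hno
  have h1 := DefZero.two_mul_add_one_le hM hno E hmem (ψ := ψ) (fun g => Complex.conj_eq_iff_im.2 (hreal g))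
    (fun g hg => apply_eq_zero (by norm_num) hd hd2 ψ hn (by norm_num) hg) hn
  exact no_exc2_47 F E (h1.trans (by norm_num))

/-- **The sieve for the Monster, `p = 23, 31`.** -/
theorem hasReal2 [IsSimpleGroup S] (F : Facts2 S) {p : ℕ} (hp : p = 23 ∨ p = 31) : HasReal p S := by
  by_contra hcon
  rcases hp with rfl | rfl
  · have : Fact (Nat.Prime 23) := ⟨by norm_num⟩
    obtain ⟨E⟩ := exists_exc (by norm_num) (not_comm2 F) (dvd_card2 F (by decide)) (sq_not_dvd2 F (by decide)) hcon
    exact no_exc2_23 F E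
  · have : Fact (Nat.Prime 31) := ⟨by norm_num⟩
    obtain ⟨E⟩ := exists_exc (by norm_num) (not_comm2 F) (dvd_card2 F (by decide)) (sq_not_dvd2 F (by decide)) hcon
    exact no_exc2_31 F E

end main

end Cfsg.Agent.H436.SieveM
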