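import Cfsg.Agent.H436.MonLoc
import Cfsg.Agent.H436.SieveM2
import Cfsg.Agent.H626.MRow.Real
import Cfsg.Agent.H436.MonRealAll
import Cfsg.Agent.H635.SporTh31

/-!
# Real characters in the principal `p`-blocks of the Monster, `p = 23, 31, 47` (helper436)

`hasReal` : from the theorem of Feit and Thompson (S3331, `Three`) and the list of the simple groups (`AllKnown`; for the
centralizers of the elements of order 47 of the Baby Monster).
-/

set_option autoImplicit false
set_option maxRecDepth 100000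

open Cfsg

namespace Cfsg.Agent.H436.RealM

open Subgroup Cfsg.Agent.H241.Mon Cfsg.Agent.H436.MonLoc Cfsg.Agent.H436.SieveM
open Cfsg.Agent.H702.RealB0

universe u

/-- real elements of prime order -/
theorem exists_real {G : Type*} [Group G] [Finite G] {p : ℕ} (h : ∃ x : G, p ∣ orderOf x ∧ IsConj x x⁻¹) :
    ∃ g : G, orderOf g = p ∧ IsConj g g⁻¹ := by
  obtain ⟨x, hx, hc⟩ := h
  refine ⟨x ^ (orderOf x / p), orderOf_pow_orderOf_div (orderOf_pos x).ne' hx, ?_⟩
  obtain ⟨c, hc⟩ := isConj_iff.1 hc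
  refine isConj_iff.2 ⟨c, ?_⟩
  rw [← inv_pow, ← conj_pow, hc]

/-- lifting an element of order 31 and a conjugation from a quotient by a central subgroup of exponent 3 -/
theorem lift31 {C Q : Type*} [Group C] [Group Q] (f : C →* Q) (hf : Function.Surjective f)
    (hZ : ∀ w : C, f w = 1 → w ^ 3 = 1) (hZc : ∀ w : C, f w = 1 → ∀ c : C, Commute c w) {a b : Q}
    (hao : orderOf a = 31) (hab : b * a * b⁻¹ = a ^ 25) :
    ∃ y h : C, orderOf y = 31 ∧ h * y * h⁻¹ = y ^ 25 := by
  have hF : Fact (Nat.Prime 31) := ⟨by norm_num⟩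
  obtain ⟨x, hx⟩ := hf a
  obtain ⟨h, hh⟩ := hf b
  have hx93 : (x ^ 31) ^ 3 = 1 := hZ _ (by rw [map_pow, hx, ← hao, pow_orderOf_eq_one])
  obtain ⟨y, hy⟩ : ∃ y, y = x ^ 63 := ⟨_, rfl⟩
  have hy31 : y ^ 31 = 1 := by
    rw [hy, ← pow_mul, (by norm_num : 63 * 31 = 31 * 3 * 21), pow_mul, pow_mul, hx93, one_pow]
  have hya : f y = a := by
    rw [hy, map_pow, hx, (by norm_num : 63 = 31 * 2 + 1), pow_add, pow_mul, ← hao, pow_orderOf_eq_one, one_pow, one_mul,
      pow_one]
  have hyo : orderOf y = 31 := by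
    refine orderOf_eq_prime hy31 fun h1 => ?_
    rw [h1, map_one] at hya
    rw [← hya, orderOf_one] at hao
    norm_num at hao
  refine ⟨y, h, hyo, ?_⟩
  have h2 : f ((y ^ 25)⁻¹ * (h * y * h⁻¹)) = 1 := by
    rw [map_mul, map_inv, map_pow, map_mul, map_mul, map_inv, hya, hh, hab, inv_mul_cancel]
  obtain ⟨w, hw⟩ : ∃ w, w = (y ^ 25)⁻¹ * (h * y * h⁻¹) := ⟨_, rfl⟩
  rw [← hw] at h2
  have h3 : h * y * h⁻¹ = y ^ 25 * w := by rw [hw]; group
  have h4 : (h * y * h⁻¹) ^ 63 = h * y * h⁻¹ := by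
    rw [conj_pow, (by norm_num : 63 = 31 * 2 + 1), pow_add, pow_mul, hy31, one_pow, one_mul, pow_one]
  have h5 : (y ^ 25 * w) ^ 63 = y ^ 25 := by
    rw [(hZc w h2 (y ^ 25)).mul_pow, ← pow_mul, (by norm_num : 25 * 63 = 31 * 50 + 25), pow_add, pow_mul y 31, hy31,
      one_pow, one_mul, (by norm_num : 63 = 3 * 21), pow_mul, hZ w h2, one_pow, mul_one]
  rw [← h4, h3, h5]

/-- the same for the centralizer of an element of order 3 -/
theorem lift31' {G : Type*} [Group G] {v : G} (hv : orderOf v = 3) {Q : Type*} [Group Q]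
    (e : (centralizer ({v} : Set G) ⧸ LThreeMB.Zx v) ≃* Q) {a b : Q}
    (hao : orderOf a = 31) (hab : b * a * b⁻¹ = a ^ 25) :
    ∃ y h : G, orderOf y = 31 ∧ h * y * h⁻¹ = y ^ 25 := by
  have hcard : Nat.card (LThreeMB.Zx v) = 3 := by
    show Nat.card (zpowers (LThreeMB.self v)) = 3
    rw [Nat.card_zpowers, ← hv]
    exact Subgroup.orderOf_mk v _
  have hk : ∀ w, (e.toMonoidHom.comp (QuotientGroup.mk' (LThreeMB.Zx v))) w = 1 → w ∈ LThreeMB.Zx v := by
    intro w hw
    have h1 : e (QuotientGroup.mk' (LThreeMB.Zx v) w) = e 1 := by rw [map_one]; exact hw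
    exact (QuotientGroup.eq_one_iff w).1 (e.injective h1)
  obtain ⟨y, h, h1, h2⟩ := lift31 (e.toMonoidHom.comp (QuotientGroup.mk' (LThreeMB.Zx v)))
    (e.surjective.comp (QuotientGroup.mk'_surjective _))
    (fun w hw => by
      have h1 : orderOf w ∣ 3 := by rw [← hcard]; exact Subgroup.orderOf_dvd_natCard _ (hk w hw)
      exact orderOf_dvd_iff_pow_eq_one.1 h1)
    (fun w hw c => by
      obtain ⟨n, rfl⟩ := mem_zpowers_iff.1 (hk w hw)
      refine Commute.zpow_right ?_ n
      exact Subtype.ext (mem_centralizer_singleton_iff.1 c.2)) hao hab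
  exact ⟨y, h, by rw [Subgroup.orderOf_coe, h1], congrArg Subtype.val h2⟩

/-- an element of order 31 conjugate to its 25-th power -/
theorem n31 : ∃ x h : Gam, orderOf x = 31 ∧ h * x * h⁻¹ = x ^ 25 := by
  obtain ⟨v, hv, -, ⟨e⟩⟩ := exists_th
  have hv' : orderOf (v : Gam) = 3 := by rw [Subgroup.orderOf_coe, hv]
  exact lift31' hv' e H635.Spor.orderOf_wTz H635.Spor.wTz_conj

theorem facts (h3 : Cfsg.Agent.H241.NH.Three.{0}) (hK : Cfsg.Agent.H995.CopEngine.AllKnown.{0}) : Facts2 Gam where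
  card := card_G
  real := by
    intro r hr
    simp only [List.mem_cons, List.not_mem_nil, or_false] at hr
    rcases hr with rfl | rfl | rfl | rfl | rfl | rfl | rfl | rfl | rfl
    · exact exists_real MonRealAll.three
    · exact exists_real MonRealAll.five
    · exact exists_real MonRealAll.seven
    · exact exists_real MonRealAll.eleven
    · exact exists_real MonRealAll.thirteen
    · exact exists_real MonRealAll.seventeen
    · exact exists_real MonRealAll.nineteen
    · exact exists_real MonRealAll.twentynine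
    · exact exists_real MonRealAll.fortyone
  c17 := fun g hg => (card_seventeen h3 hg).trans (by norm_num)
  c47 := fun g hg => card47 hK hg
  odd := fun r hr g hg => odd_card hr hg
  ndvd := by
    intro p hp r hr g hg
    simp only [List.mem_cons, List.not_mem_nil, or_false] at hp
    rcases hp with rfl | rfl | rfl
    · exact not_dvd_23 h3 hr hg
    · exact not_dvd_31 hr hg
    · exact not_dvd_47 hr hg
  n31 := n31

/-- the real character of degree 196883 -/
theorem exists_psi : ∃ ψ : IrrCharacter Gam, (ψ : Gam → ℂ) 1 = ((196883 : ℕ) : ℂ) ∧ ∀ g : Gam, ((ψ : Gam → ℂ) g).im = 0 := by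
  obtain ⟨f⟩ := Cfsg.Agent.MonsterP.Equiv.equiv
  obtain ⟨χ, h1, h2⟩ := H626.MRow.exists_real_irr
  refine ⟨⟨fun g => (χ : Spor.Monster → ℂ) (f.symm g), ?_⟩, ?_, fun g => h2 _⟩
  · exact Characters.Core.isIrr_comp f.symm.toMonoidHom f.symm.surjective χ.2
  · show (χ : Spor.Monster → ℂ) (f.symm 1) = _
    have := H419.Spor.Monster.finite_m
    rw [map_one, Blocks.Basic.irr_one_eq_charDegree χ.2, h1]

/-- **The Monster, `p = 23, 31, 47`.** -/
theorem hasReal_model (h3 : Cfsg.Agent.H241.NH.Three.{0}) (hK : Cfsg.Agent.H995.CopEngine.AllKnown.{0}) {p : ℕ}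
    (hp : p = 23 ∨ p = 31 ∨ p = 47) : HasReal p Gam := by
  have hs := hG
  have F := facts h3 hK
  rcases hp with rfl | rfl | rfl
  · exact hasReal2 F (Or.inl rfl)
  · exact hasReal2 F (Or.inr rfl)
  · obtain ⟨ψ, h1, h2⟩ := exists_psi
    exact hasReal2_47 F h1 h2

/-- **The Monster, `p = 23, 31, 47`.** -/
theorem hasReal (h3 : Cfsg.Agent.H241.NH.Three.{0}) (hK : Cfsg.Agent.H995.CopEngine.AllKnown.{0}) {p : ℕ}
    (hp : p = 23 ∨ p = 31 ∨ p = 47) {X : Type u} [Group X] (h : Spor.IsoM X) : HasReal p X := by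
  obtain ⟨e⟩ := h
  obtain ⟨f⟩ := Cfsg.Agent.MonsterP.Equiv.equiv
  exact HasReal.congr (e.trans f).symm (hasReal_model h3 hK hp)

end Cfsg.Agent.H436.RealM
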