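import Cfsg.Agent.H386.HalfTwo.Count
import Cfsg.Agent.H904.TwoHS
import Cfsg.Agent.CpAutON.Gen

/-!
# HUB H7 / S3576 ((2+1/2)-transitive groups), the row `HS`, `n = 176` (helper436)

`witt` : `G` 2-transitive, `x` of prime order `p` and `p²` does not divide the order of a stabiliser of two points:
`f (f - 1) ∣ |N(⟨x⟩)|` where `f ≥ 2` is the number of the fixed points of `x`.
`hs` : `Half G Ω m`, `T = HS`, `n = 176` implies `m = 1`.
-/

set_option autoImplicit false

namespace Cfsg.Agent.H436.HalfHS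

open MulAction Subgroup Cfsg.Agent.H384.TwoTrans Cfsg.Agent.H386.HalfTwo

universe u v

variable {G : Type u} {Ω : Type v} [Group G] [MulAction G Ω]

/-- `N(P)` acts on `Fix(P)` -/
def fixS (P : Subgroup G) : SubMulAction ↥(normalizer (P : Set G)) Ω where
  carrier := fixedPoints P Ω
  smul_mem' := by
    intro g a ha
    rw [mem_fixedPoints] at ha ⊢
    rintro ⟨h, hh⟩
    have h1 : (g : G)⁻¹ * h * g ∈ P := by
      have := (mem_normalizer_iff'.1 g.2 ((g : G)⁻¹ * h)).2
      apply this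
      simpa [mul_assoc] using hh
    have h2 := ha ⟨_, h1⟩
    have h3 : ((g : G)⁻¹ * h * g) • a = a := h2
    show h • ((g : G) • a) = (g : G) • a
    have h4 : h • ((g : G) • a) = (g : G) • (((g : G)⁻¹ * h * g) • a) := by
      rw [smul_smul, smul_smul]
      congr 1
      group
    rw [h4, h3]

/-- `N(⟨x⟩)` is 2-transitive on `Fix(x)` if `|x| = p` and `p²` does not divide the order of the stabilisers of two
points. -/
theorem two_fixS [Finite G] (h2 : IsMultiplyPretransitive G Ω 2) {p : ℕ} (hp : p.Prime)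
    (hsq : ∀ c d : Ω, c ≠ d → ¬ p ^ 2 ∣ Nat.card (GG G c d)) {x : G} (hx : orderOf x = p) :
    IsMultiplyPretransitive ↥(normalizer (zpowers x : Set G)) (fixS (Ω := Ω) (zpowers x)) 2 := by
  have := Fact.mk hp
  rw [is_two_pretransitive_iff] at h2 ⊢
  rintro ⟨a, ha⟩ ⟨b, hb⟩ ⟨c, hc⟩ ⟨d, hd⟩ hab hcd
  have hab' : a ≠ b := fun h => hab (Subtype.ext h)
  have hcd' : c ≠ d := fun h => hcd (Subtype.ext h)
  obtain ⟨g, hg1, hg2⟩ := h2 hab' hcd'
  have fx : ∀ {e : Ω}, e ∈ fixS (zpowers x) → x • e = e := fun {e} he => he ⟨x, mem_zpowers x⟩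
  let S : Subgroup G := GG G c d
  have hxS : x ∈ S := ⟨fx hc, fx hd⟩
  have hgxS : g * x * g⁻¹ ∈ S := by
    refine ⟨?_, ?_⟩
    · show (g * x * g⁻¹) • c = c
      rw [mul_smul, mul_smul, ← hg1, inv_smul_smul, fx ha]
    · show (g * x * g⁻¹) • d = d
      rw [mul_smul, mul_smul, ← hg2, inv_smul_smul, fx hb]
  have hxo : orderOf (⟨x, hxS⟩ : S) = p := by rw [← hx, ← Subgroup.orderOf_coe]
  have hgo : orderOf (⟨g * x * g⁻¹, hgxS⟩ : S) = p := by
    rw [← Subgroup.orderOf_coe]
    show orderOf (g * x * g⁻¹) = p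
    have := (MulAut.conj g).orderOf_eq x
    rw [MulAut.conj_apply] at this
    rw [this, hx]
  obtain ⟨h, hh⟩ := Cfsg.Agent.CpAutON.Gen.conj_into (hsq c d hcd') hgo hxo
  have hmem : (h : G) * g * x * ((h : G) * g)⁻¹ ∈ zpowers x := by
    obtain ⟨k, hk⟩ := hh
    refine ⟨k, ?_⟩
    have := congrArg Subtype.val hk
    simp only [coe_mul, coe_inv, coe_zpow] at this
    show x ^ k = _
    rw [this]; group
  have hN : (h : G) * g ∈ normalizer (zpowers x : Set G) := by
    have h5 : (zpowers x).map (MulAut.conj ((h : G) * g)).toMonoidHom = zpowers x := by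
      refine Subgroup.eq_of_le_of_card_ge ?_ ?_
      · rw [MonoidHom.map_zpowers, zpowers_le]; exact hmem
      · rw [← Nat.card_congr (equivMapOfInjective (zpowers x) _
          (MulAut.conj ((h : G) * g)).injective).toEquiv]
    rw [mem_normalizer_iff]
    intro z
    constructor
    · intro hz
      have : (h : G) * g * z * ((h : G) * g)⁻¹ ∈ (zpowers x).map (MulAut.conj ((h : G) * g)).toMonoidHom :=
        ⟨z, hz, rfl⟩
      rwa [h5] at this
    · intro hz
      rw [← h5] at hz
      obtain ⟨w, hw, hwz⟩ := hz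
      have : w = z := by
        simp only [MulEquiv.coe_toMonoidHom, MulAut.conj_apply] at hwz
        exact mul_left_cancel (mul_right_cancel hwz)
      rwa [← this]
  refine ⟨⟨_, hN⟩, Subtype.ext ?_, Subtype.ext ?_⟩
  · show ((h : G) * g) • a = c
    rw [mul_smul, hg1]
    exact h.2.1
  · show ((h : G) * g) • b = d
    rw [mul_smul, hg2]
    exact h.2.2

/-- **Witt's lemma, numerical form.** -/
theorem witt [Finite G] [Finite Ω] (h2 : IsMultiplyPretransitive G Ω 2) {p : ℕ} (hp : p.Prime)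
    (hsq : ∀ c d : Ω, c ≠ d → ¬ p ^ 2 ∣ Nat.card (GG G c d)) {x : G} (hx : orderOf x = p)
    (hf : 2 ≤ {a : Ω | x • a = a}.ncard) :
    {a : Ω | x • a = a}.ncard * ({a : Ω | x • a = a}.ncard - 1) ∣ Nat.card ↥(normalizer (zpowers x : Set G)) := by
  have h3 := two_fixS h2 hp hsq hx
  have hc : Nat.card (fixS (Ω := Ω) (zpowers x)) = {a : Ω | x • a = a}.ncard := by
    rw [← Nat.card_coe_set_eq]
    refine Nat.card_congr (Equiv.subtypeEquivRight fun a => ?_)
    constructor
    · intro h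
      exact h ⟨x, mem_zpowers x⟩
    · rintro h ⟨y, hy⟩
      have h4 : zpowers x ≤ stabilizer G a := by
        rw [zpowers_le]
        exact h
      exact h4 hy
  rw [← hc] at hf ⊢
  have hnt : Nontrivial (fixS (Ω := Ω) (zpowers x)) := Finite.one_lt_card_iff_nontrivial.1 (by omega)
  obtain ⟨a, b, hab⟩ := exists_pair_ne (fixS (Ω := Ω) (zpowers x))
  exact Dvd.intro _ (card_eq h3 hab).symm

/-- an element of order `7` normalising a subgroup of order `5` centralises it -/
theorem comm_of_normalizer [Finite G] {x : G} (hx : orderOf x = 5)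
    (h7 : 7 ∣ Nat.card ↥(normalizer (zpowers x : Set G))) : ∃ z : G, orderOf z = 7 ∧ Commute z x := by
  have : Fact (Nat.Prime 7) := ⟨by norm_num⟩
  obtain ⟨z, hz⟩ := exists_prime_orderOf_dvd_card' 7 h7
  refine ⟨z, by rw [Subgroup.orderOf_coe, hz], ?_⟩
  have hz7 : (z : G) ^ 7 = 1 := by rw [← hz, ← Subgroup.orderOf_coe, pow_orderOf_eq_one]
  have h1 : (z : G) * x * (z : G)⁻¹ ∈ zpowers x := (mem_normalizer_iff.1 z.2 x).1 (mem_zpowers x)
  classical
  obtain ⟨k, hk⟩ : ∃ k, k < orderOf x ∧ x ^ k = (z : G) * x * (z : G)⁻¹ := by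
    have h2 := (mem_zpowers_iff_mem_range_orderOf).1 h1
    simpa using h2
  have hk' : (z : G) * x * (z : G)⁻¹ = x ^ k := hk.2.symm
  have key : ∀ m : ℕ, (z : G) ^ m * x * ((z : G) ^ m)⁻¹ = x ^ k ^ m := by
    intro m
    induction m with
    | zero => simp
    | succ m ih =>
      have h2 : (z : G) ^ (m + 1) * x * ((z : G) ^ (m + 1))⁻¹ = (z : G) ^ m * ((z : G) * x * (z : G)⁻¹) * ((z : G) ^ m)⁻¹ := by
        rw [pow_succ]; group
      rw [h2, hk', ← conj_pow, ih, ← pow_mul, ← pow_succ]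
  have h3 := key 7
  rw [hz7, one_mul, inv_one, mul_one] at h3
  have h4 : x ^ 1 = x ^ k ^ 7 := by rw [pow_one]; exact h3
  rw [pow_inj_mod, hx] at h4
  have hk5 : k < 5 := by rw [← hx]; exact hk.1
  have h5 : k = 1 := by
    clear key hk' hk h3 h1
    interval_cases k
    · norm_num at h4
    · rfl
    · norm_num at h4
    · norm_num at h4
    · norm_num at h4
  rw [h5, pow_one] at hk'
  exact mul_inv_eq_iff_eq_mul.1 hk'

variable {T : Subgroup G} {m : ℕ}

/-- at least `(n - 2) / m` points of `Ω ∖ {a, b}` are fixed -/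
theorem le_fix [Finite G] [Finite Ω] (H : Half G Ω m) {a b : Ω} (hab : a ≠ b) {p : ℕ} (hp : p.Prime)
    (hm : ¬ p ∣ m) {x : G} (hx : orderOf x = p) (hxa : x • a = a) (hxb : x • b = b) :
    Nat.card Ω - 2 ≤ ({c : Ω | x • c = c}.ncard - 2) * m := by
  classical
  have : Fintype Ω := Fintype.ofFinite Ω
  have := Fact.mk hp
  have hP : IsPGroup p (zpowers x) := IsPGroup.of_card (n := 1) (by rw [Nat.card_zpowers, hx, pow_one])
  have hle : zpowers x ≤ GG G a b := by
    rw [zpowers_le]
    exact ⟨hxa, hxb⟩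
  set F : Finset Ω := Finset.univ.filter fun c => x • c = c ∧ c ≠ a ∧ c ≠ b with hF
  have h1 : Nat.card Ω - 2 ≤ F.card * m := by
    rw [← Cfsg.Agent.H488.ThreeHalf.ncard_compl_pair hab]
    have h2 : {y : Ω | y ≠ a ∧ y ≠ b} ⊆ ((F.biUnion fun d => (orbit (GG G a b) d).toFinset : Finset Ω) : Set Ω) := by
      rintro c ⟨hca, hcb⟩
      obtain ⟨d, hd, hdf⟩ := H.exists_fix hab hca hcb hp hm hP hle
      rw [Finset.mem_coe, Finset.mem_biUnion]
      refine ⟨d, ?_, ?_⟩
      · rw [hF, Finset.mem_filter]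
        refine ⟨Finset.mem_univ _, hdf x (mem_zpowers x), ?_, ?_⟩
        · obtain ⟨u, rfl⟩ := hd
          exact ne_of_smul (mem_GG.1 u.2).1 hca
        · obtain ⟨u, rfl⟩ := hd
          exact ne_of_smul (mem_GG.1 u.2).2 hcb
      · rw [Set.mem_toFinset]
        exact (orbit_eq_iff.2 hd).symm ▸ mem_orbit_self c
    refine (Set.ncard_le_ncard h2 (Set.toFinite _)).trans ?_
    rw [Set.ncard_coe_finset]
    refine Finset.card_biUnion_le_card_mul _ _ _ ?_
    intro d hd
    rw [hF, Finset.mem_filter] at hd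
    rw [← H.orb a b d hab hd.2.2.1 hd.2.2.2, Nat.card_eq_fintype_card, Set.toFinset_card]
  have h3 : F.card = {c : Ω | x • c = c}.ncard - 2 := by
    have h4 : ({c : Ω | x • c = c}) = insert a (insert b (F : Set Ω)) := by
      ext c
      simp only [Set.mem_ofPred_eq, Set.mem_insert_iff, hF, Finset.coe_filter, Finset.mem_univ, true_and]
      constructor
      · intro h
        by_cases h1 : c = a
        · exact Or.inl h1
        by_cases h2 : c = b
        · exact Or.inr (Or.inl h2)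
        exact Or.inr (Or.inr ⟨h, h1, h2⟩)
      · rintro (h | h | h)
        · rw [h]; exact hxa
        · rw [h]; exact hxb
        · exact h.1
    rw [h4, Set.ncard_insert_of_notMem, Set.ncard_insert_of_notMem, Set.ncard_coe_finset]
    · omega
    · simp [hF]
    · simp [hF, hab]
  rw [← h3]
  exact h1

theorem arith_f {f : ℕ} (h1 : 31 ≤ f) (h2 : f < 176) (h5 : f % 5 = 1) (h3 : f * (f - 1) ∣ 2 * 44352000) :
    7 ∣ f * (f - 1) := by
  revert h3 h2
  have : ∀ g, g < 176 → 31 ≤ g → g % 5 = 1 → g * (g - 1) ∣ 2 * 44352000 → 7 ∣ g * (g - 1) := by decide +kernel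
  exact fun h2 h3 => this f h2 h1 h5 h3

theorem card_mod [Finite G] [Finite Ω] {p : ℕ} (hp : p.Prime) {x : G} (hx : orderOf x = p) :
    Nat.card Ω ≡ {c : Ω | x • c = c}.ncard [MOD p] := by
  have := Fact.mk hp
  have hP : IsPGroup p (zpowers x) := IsPGroup.of_card (n := 1) (by rw [Nat.card_zpowers, hx, pow_one])
  have h1 := hP.card_modEq_card_fixedPoints Ω
  have h2 : fixedPoints (zpowers x) Ω = {c : Ω | x • c = c} := by
    ext c
    constructor
    · intro h
      exact h ⟨x, mem_zpowers x⟩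
    · rintro h ⟨y, hy⟩
      have h4 : zpowers x ≤ stabilizer G c := by
        rw [zpowers_le]
        exact h
      exact h4 hy
  rwa [h2, Nat.card_coe_set_eq] at h1

/-- **The row `HS`.** -/
theorem hs (A : AS G Ω T) (H : Half G Ω m) (h : Cfsg.Spor.IsoHS T) (hn : Nat.card Ω = 176) : m = 1 := by
  exfalso
  have := A.finG
  have := A.finΩ
  have := A.finT
  have := A.faithful
  have hT : Nat.card T = 44352000 := KFacts.HS.card h
  have hG : Nat.card G ∣ 2 * Nat.card ↥T := Cfsg.Agent.H970.TwoSpor.card_dvd A (by rw [KFacts.HS.index_inn h])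
  have hTG : Nat.card T ∣ Nat.card G := card_subgroup_dvd_card T
  rw [hT] at hG hTG
  have hnt : Nontrivial Ω := Finite.one_lt_card_iff_nontrivial.1 (by omega)
  have hG2 : Nat.card G = 44352000 ∨ Nat.card G = 2 * 44352000 := by
    obtain ⟨c, hc⟩ := hTG
    rw [hc] at hG ⊢
    have h1 : c ∣ 2 := by
      have h2 : 44352000 * c ∣ 44352000 * 2 := by rwa [mul_comm 44352000 2]
      exact Nat.dvd_of_mul_dvd_mul_left (by norm_num) h2
    rcases (Nat.dvd_prime Nat.prime_two).1 h1 with rfl | rfl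
    · left; norm_num
    · right; norm_num
  have hGG : ∀ a b : Ω, a ≠ b → Nat.card (GG G a b) = 1440 ∨ Nat.card (GG G a b) = 2880 := by
    intro a b hab
    have h1 := card_eq A.two hab
    rw [hn] at h1
    omega
  obtain ⟨a, b, hab⟩ := exists_pair_ne Ω
  have hm1 : m ∣ 174 := by
    have := H.dvd
    rwa [hn] at this
  have hm2 : m ∣ 2880 := by
    have h1 := H.dvd_GG (by omega) hab
    rcases hGG a b hab with h2 | h2 <;> rw [h2] at h1
    · exact h1.trans (by norm_num)
    · exact h1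
  have hm3 : m ∣ 6 := by
    have := Nat.dvd_gcd hm1 hm2
    simpa using this
  have h5 : 5 ∣ Nat.card (GG G a b) := by
    rcases hGG a b hab with h2 | h2 <;> rw [h2] <;> norm_num
  have hm4 : 5 ≤ m := H.prime_le hab (by norm_num) h5
  have hm5 : m = 6 := by
    have := Nat.le_of_dvd (by norm_num) hm3
    interval_cases m
    · omega
    · rfl
  subst hm5
  have : Fact (Nat.Prime 5) := ⟨by norm_num⟩
  obtain ⟨x, hx⟩ := exists_prime_orderOf_dvd_card' 5 h5
  have hx' : orderOf (x : G) = 5 := by rw [Subgroup.orderOf_coe, hx]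
  have hxx := mem_GG.1 x.2
  have hle := le_fix H hab (by norm_num : Nat.Prime 5) (by norm_num) hx' hxx.1 hxx.2
  rw [hn] at hle
  set f := {c : Ω | (x : G) • c = c}.ncard with hf
  have hf31 : 31 ≤ f := by omega
  have hfn : f < 176 := by
    rw [← hn, ← Set.ncard_univ]
    refine Set.ncard_lt_ncard ?_ (Set.toFinite _)
    rw [Set.ssubset_univ_iff]
    intro h1
    have h2 : (x : G) = 1 := by
      apply FaithfulSMul.eq_of_smul_eq_smul (α := Ω)
      intro c
      rw [one_smul]
      have : c ∈ {c : Ω | (x : G) • c = c} := by rw [h1]; exact Set.mem_univ _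
      exact this
    rw [h2, orderOf_one] at hx'
    norm_num at hx'
  have hf5 : f % 5 = 1 := by
    have h1 := card_mod (Ω := Ω) (by norm_num : Nat.Prime 5) hx'
    rw [hn] at h1
    exact h1.symm
  have hw := witt A.two (by norm_num : Nat.Prime 5) (fun c d hcd => by
    rcases hGG c d hcd with h2 | h2 <;> rw [h2] <;> norm_num) hx' (by omega)
  have h7 : 7 ∣ Nat.card ↥(normalizer (zpowers (x : G) : Set G)) :=
    (arith_f hf31 hfn hf5 (hw.trans ((card_subgroup_dvd_card _).trans hG))).trans hw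
  obtain ⟨z, hz, hzx⟩ := comm_of_normalizer hx' h7
  -- the elements `z` and `x` are in `T`
  have hsq : ∀ g : G, Odd (orderOf g) → g ∈ T := by
    intro g hg
    have hi : T.index ∣ 2 := by
      have h1 := T.card_mul_index
      rw [hT] at h1
      rcases hG2 with h2 | h2 <;> rw [h2] at h1
      · have : T.index = 1 := by omega
        rw [this]; norm_num
      · have : T.index = 2 := by omega
        rw [this]
    have := A.normal
    have h2 : ∀ y : G, y ^ 2 ∈ T := by
      intro y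
      obtain ⟨c, hc⟩ := hi
      rw [hc, pow_mul]
      exact T.pow_mem (T.pow_index_mem y) c
    obtain ⟨c, hc⟩ := hg
    have h3 : g = (g ^ (c + 1)) ^ 2 := by
      rw [← pow_mul, show (c + 1) * 2 = orderOf g + 1 by omega, pow_succ, pow_orderOf_eq_one, one_mul]
    rw [h3]
    exact h2 _
  have hzT : z ∈ T := hsq z (by rw [hz]; decide)
  have hxT : (x : G) ∈ T := hsq x (by rw [hx']; decide)
  have h8 := (Cfsg.Agent.H904.TwoHS.seven h (zpowers (⟨z, hzT⟩ : T)) (by
    rw [Nat.card_zpowers, ← Subgroup.orderOf_coe]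
    exact hz)).1
  have h9 : (⟨x, hxT⟩ : T) ∈ centralizer ((zpowers (⟨z, hzT⟩ : T) : Subgroup T) : Set T) := by
    rw [mem_centralizer_iff]
    rintro _ ⟨k, rfl⟩
    have : Commute (⟨z, hzT⟩ : T) (⟨x, hxT⟩ : T) := Subtype.ext hzx
    exact (this.zpow_left k).eq
  have h10 : 5 ∣ Nat.card ↥(centralizer ((zpowers (⟨z, hzT⟩ : T) : Subgroup T) : Set T)) := by
    have h11 := orderOf_dvd_natCard (⟨_, h9⟩ : ↥(centralizer ((zpowers (⟨z, hzT⟩ : T) : Subgroup T) : Set T)))
    rwa [← Subgroup.orderOf_coe, ← Subgroup.orderOf_coe, hx'] at h11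
  have h11 := h10.trans h8
  norm_num at h11

end Cfsg.Agent.H436.HalfHS
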