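import Cfsg.Agent.H436.KFourEx

/-!
# The order of `L₂(q)` (helper436)
-/

set_option autoImplicit false

namespace Cfsg.Agent.H436

open Cfsg Cfsg.Agent.OrdDiv

universe u

variable {q c : ℕ}

/-- `gcd (2, q - 1) |L₂(q)| = q (q² - 1)` -/
theorem psl_two_eq (hq : 2 ≤ q) (h : den (.psl 2 q) * c = num (.psl 2 q)) :
    Nat.gcd 2 (q - 1) * c = q * (q ^ 2 - 1) := by
  have h1 : Nat.gcd 2 (q - 1) * (q - 1) * c = glN 2 q := h
  have h2 : glN 2 q = (q ^ 2 - 1) * (q ^ 2 - q) := by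
    unfold glN
    rw [prod_list, Finset.prod_range_succ, Finset.prod_range_succ, Finset.prod_range_zero, one_mul, pow_zero, pow_one]
  have h3 : q ^ 2 - q = q * (q - 1) := by rw [sq, Nat.mul_sub, mul_one]
  rw [h2, h3] at h1
  apply Nat.eq_of_mul_eq_mul_left (show 0 < q - 1 by omega)
  calc (q - 1) * (Nat.gcd 2 (q - 1) * c) = Nat.gcd 2 (q - 1) * (q - 1) * c := by ring
    _ = _ := h1
    _ = _ := by ring

/-- `|L₂(q)| = q (q² - 1)`, `q` even -/
theorem psl_two_even (hq : 2 ≤ q) (h2 : q % 2 = 0) (h : den (.psl 2 q) * c = num (.psl 2 q)) :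
    c = q * (q ^ 2 - 1) := by
  have h1 := psl_two_eq hq h
  rw [show Nat.gcd 2 (q - 1) = 1 from Nat.coprime_two_left.2 (Nat.odd_iff.2 (by omega)), one_mul] at h1
  exact h1

/-- `2 |L₂(q)| = q (q² - 1)`, `q` odd -/
theorem psl_two_odd (hq : 2 ≤ q) (h2 : q % 2 = 1) (h : den (.psl 2 q) * c = num (.psl 2 q)) :
    2 * c = q * (q ^ 2 - 1) := by
  have h1 := psl_two_eq hq h
  rw [Nat.gcd_eq_left (show 2 ∣ q - 1 by omega)] at h1
  exact h1

theorem eight_dvd_sq_sub {q : ℕ} (h2 : q % 2 = 1) : 8 ∣ q ^ 2 - 1 := by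
  obtain ⟨k, rfl⟩ : ∃ k, q = 2 * k + 1 := ⟨q / 2, by omega⟩
  have h3 : (2 * k + 1) ^ 2 = 4 * (k * (k + 1)) + 1 := by ring
  obtain ⟨m, hm⟩ := (Nat.even_mul_succ_self k).two_dvd
  rw [h3, Nat.add_sub_cancel, hm]
  exact ⟨m, by ring⟩

/-- the prime divisors of `|L₂(q)|` are those of `q (q² - 1)` -/
theorem psl_two_factors (hq : 2 ≤ q) (h : den (.psl 2 q) * c = num (.psl 2 q)) :
    c.primeFactors = (q * (q ^ 2 - 1)).primeFactors := by
  rcases Nat.mod_two_eq_zero_or_one q with h2 | h2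
  · rw [psl_two_even hq h2 h]
  · have h1 := psl_two_odd hq h2 h
    have hc : c ≠ 0 := by
      rintro rfl
      exact mq_ne_zero hq h1.symm
    have h3 : 2 ∣ c := by
      have h4 : 2 * 2 ∣ 2 * c := by
        rw [h1]
        exact ((show 2 * 2 ∣ 8 by norm_num).trans (eight_dvd_sq_sub h2)).mul_left _
      exact Nat.dvd_of_mul_dvd_mul_left (by norm_num) h4
    rw [← h1, Nat.primeFactors_mul (by norm_num) hc, Nat.Prime.primeFactors Nat.prime_two]
    symm
    rw [Finset.union_eq_right]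
    intro x hx
    rw [Finset.mem_singleton] at hx
    subst hx
    exact Nat.mem_primeFactors.2 ⟨Nat.prime_two, h3, hc⟩

end Cfsg.Agent.H436
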