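import Mathlib

/-!
# The equation `1 + 2 y² = 3 ^ n`, `n` odd (helper436)

`one_add_two_sq` : `1 + 2 y ^ 2 = 3 ^ n` with `n` odd only for `n = 1`, `n = 5` (2-adic argument for the powers of
`1 + √-2`).
-/

set_option autoImplicit false

namespace Cfsg.Agent.H436.TwoAdic

/-- `(1 + √-2) ^ n = A n + B n √-2` -/
def AB : ℕ → ℤ × ℤ
  | 0 => (1, 0)
  | n + 1 => ((AB n).1 - 2 * (AB n).2, (AB n).1 + (AB n).2)

theorem AB_succ (n : ℕ) : AB (n + 1) = ((AB n).1 - 2 * (AB n).2, (AB n).1 + (AB n).2) := rfl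

/-- multiplication in `ℤ[√-2]` -/
def mu (a b : ℤ × ℤ) : ℤ × ℤ := (a.1 * b.1 - 2 * a.2 * b.2, a.1 * b.2 + a.2 * b.1)

theorem AB_add (m n : ℕ) : AB (m + n) = mu (AB m) (AB n) := by
  induction n with
  | zero => simp [AB, mu]
  | succ n ih =>
    rw [← add_assoc, AB_succ, AB_succ, ih]
    simp only [mu, Prod.mk.injEq]
    constructor <;> ring

theorem AB_mod_three (n : ℕ) : 3 ∣ (AB (n + 1)).1 - (AB (n + 1)).2 := by
  induction n with
  | zero => simp [AB]
  | succ n ih =>
    rw [AB_succ (n + 1)]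
    simp only
    omega

/-- all solutions of `x² + 2 y² = 3 ^ n`, `3 ∤ x` -/
theorem sol (n : ℕ) : ∀ x y : ℤ, x ^ 2 + 2 * y ^ 2 = 3 ^ n → ¬ (3 : ℤ) ∣ x →
    (x = (AB n).1 ∨ x = - (AB n).1) ∧ (y = (AB n).2 ∨ y = - (AB n).2) := by
  induction n with
  | zero =>
    intro x y h _
    rw [pow_zero] at h
    have hy : y = 0 := by
      by_contra hy
      have : 1 ≤ y ^ 2 := by have := sq_nonneg y; have : y ^ 2 ≠ 0 := pow_ne_zero 2 hy; omega
      nlinarith [sq_nonneg x]
    subst hy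
    have hx : (x - 1) * (x + 1) = 0 := by linarith
    rcases mul_eq_zero.1 hx with h1 | h1
    · simp [AB]; left; linarith
    · simp [AB]; right; linarith
  | succ n ih =>
    -- it is enough to treat the case `x ≡ y mod 3`
    have key : ∀ x y : ℤ, x ^ 2 + 2 * y ^ 2 = 3 ^ (n + 1) → ¬ (3 : ℤ) ∣ x → (3 : ℤ) ∣ x - y →
        (x = (AB (n + 1)).1 ∨ x = - (AB (n + 1)).1) ∧ (y = (AB (n + 1)).2 ∨ y = - (AB (n + 1)).2) := by
      intro x y h hx hd
      obtain ⟨k, hk⟩ := hd
      -- x' = (x + 2 y) / 3, y' = (y - x) / 3 = - k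
      obtain ⟨x', y', h1, h2⟩ : ∃ x' y' : ℤ, x = x' - 2 * y' ∧ y = x' + y' := ⟨x - 2 * k, - k, by ring, by linarith⟩
      have h3 : x' ^ 2 + 2 * y' ^ 2 = 3 ^ n := by
        have h4 : x ^ 2 + 2 * y ^ 2 = 3 * (x' ^ 2 + 2 * y' ^ 2) := by rw [h1, h2]; ring
        have h5 : (3 : ℤ) ^ (n + 1) = 3 * 3 ^ n := by ring
        rw [h4, h5] at h
        linarith
      rcases Nat.eq_zero_or_pos n with hn | hn
      · subst hn
        have hy : y' = 0 := by
          by_contra hy
          have : 1 ≤ y' ^ 2 := by have := sq_nonneg y'; have : y' ^ 2 ≠ 0 := pow_ne_zero 2 hy; omega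
          rw [pow_zero] at h3
          nlinarith [sq_nonneg x']
        subst hy
        rw [pow_zero] at h3
        have hx1 : (x' - 1) * (x' + 1) = 0 := by linarith
        simp only [AB]
        rcases mul_eq_zero.1 hx1 with h6 | h6
        · have : x' = 1 := by linarith
          subst this
          constructor <;> left <;> linarith
        · have : x' = -1 := by linarith
          subst this
          constructor <;> right <;> linarith
      · obtain ⟨m, rfl⟩ : ∃ m, n = m + 1 := ⟨n - 1, by omega⟩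
        have hx' : ¬ (3 : ℤ) ∣ x' := by
          intro h6
          have h7 : (3 : ℤ) ∣ 2 * y' ^ 2 := by
            have : 2 * y' ^ 2 = 3 ^ (m + 1) - x' ^ 2 := by linarith
            rw [this]
            exact dvd_sub (dvd_pow_self 3 (by omega)) (h6.trans (dvd_pow_self x' (by norm_num)))
          have h8 : (3 : ℤ) ∣ y' ^ 2 :=
            (Int.isCoprime_iff_gcd_eq_one.2 (by norm_num) : IsCoprime (3 : ℤ) 2).dvd_of_dvd_mul_left h7
          have h9 := Int.prime_three.dvd_of_dvd_pow h8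
          exact hx (by rw [h1]; exact dvd_sub h6 (h9.mul_left 2))
        have h10 := AB_mod_three m
        obtain ⟨h11, h12⟩ := ih x' y' h3 hx'
        rw [AB_succ (m + 1)]
        simp only
        rcases h11 with h11 | h11 <;> rcases h12 with h12 | h12
        · constructor <;> left <;> rw [← h11, ← h12] <;> assumption
        · exfalso
          apply hx
          rw [h1, h11, h12]
          omega
        · exfalso
          apply hx
          rw [h1, h11, h12]
          omega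
        · constructor <;> right <;> linarith
    intro x y h hx
    have h0 : (3 : ℤ) ∣ (x - y) * (x + y) := by
      have : (x - y) * (x + y) = 3 * (3 ^ n - y ^ 2) := by
        have h5 : (3 : ℤ) ^ (n + 1) = 3 * 3 ^ n := by ring
        rw [h5] at h
        linarith
      rw [this]
      exact dvd_mul_right _ _
    rcases Int.prime_three.dvd_or_dvd h0 with h1 | h1
    · exact key x y h hx h1
    · have := key x (-y) (by rw [← h]; ring) hx (by rwa [sub_neg_eq_add])
      refine ⟨this.1, ?_⟩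
      rcases this.2 with h2 | h2
      · right; linarith
      · left; linarith

/-- `1 + 2 ^ (t + 4) x + 2 ^ (t + 3) y √-2` with `x`, `y` odd, `x - y ≡ 2 mod 4` -/
def Good (t : ℕ) (z : ℤ × ℤ) : Prop :=
  ∃ x y : ℤ, z = (1 + 2 ^ (t + 4) * x, 2 ^ (t + 3) * y) ∧ x % 2 = 1 ∧ y % 2 = 1 ∧ (x - y) % 4 = 2

theorem good_pow (t : ℕ) : Good t (AB (8 * 2 ^ t)) := by
  induction t with
  | zero => exact ⟨1, 7, by decide, by decide, by decide, by decide⟩
  | succ t ih =>
    obtain ⟨x, y, h, hx, hy, hxy⟩ := ih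
    have h1 : AB (8 * 2 ^ (t + 1)) = mu (AB (8 * 2 ^ t)) (AB (8 * 2 ^ t)) := by
      rw [← AB_add]
      congr 1
      ring
    refine ⟨x + 4 * (2 ^ t * (2 * x ^ 2 - y ^ 2)), y + 4 * (2 ^ (t + 2) * (x * y)), ?_, by omega, by omega, by omega⟩
    rw [h1, h]
    simp only [mu, Prod.mk.injEq]
    constructor <;> ring

theorem good_mul_odd (t u : ℕ) : Good t (AB (8 * 2 ^ t * (2 * u + 1))) := by
  induction u with
  | zero => simpa using good_pow t
  | succ u ih =>
    obtain ⟨x, y, h, hx, hy, hxy⟩ := ih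
    obtain ⟨x', y', h', hx', hy', hxy'⟩ := good_pow (t + 1)
    have h1 : AB (8 * 2 ^ t * (2 * (u + 1) + 1)) = mu (AB (8 * 2 ^ t * (2 * u + 1))) (AB (8 * 2 ^ (t + 1))) := by
      rw [← AB_add]
      congr 1
      ring
    refine ⟨x + 2 * x' + 4 * (2 ^ (t + 3) * x * x' - 2 ^ (t + 2) * y * y'),
      y + 2 * y' + 4 * (2 ^ (t + 3) * (x * y') + 2 ^ (t + 3) * (x' * y)), ?_, by omega, by omega, by omega⟩
    rw [h1, h, h']
    simp only [mu, Prod.mk.injEq]
    constructor <;> ring

theorem good_of_pos {j : ℕ} (hj : j ≠ 0) : ∃ t, Good t (AB (8 * j)) := by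
  obtain ⟨t, m, hm, rfl⟩ := Nat.exists_eq_two_pow_mul_odd hj
  obtain ⟨u, rfl⟩ := hm
  exact ⟨t, by rw [← mul_assoc]; exact good_mul_odd t u⟩

theorem mod_four_three (k : ℕ) : (AB (4 * k + 3)).1 % 8 = 3 ∧ (AB (4 * k + 3)).2 % 2 = 1 := by
  induction k with
  | zero => decide
  | succ k ih =>
    have h : AB (4 * (k + 1) + 3) = mu (AB (4 * k + 3)) (AB 4) := by
      rw [← AB_add]
      congr 1
    have h4 : AB 4 = (-7, -4) := by decide
    rw [h, h4]
    simp only [mu]
    omega

/-- `A n = ± 1`, `n` odd, only for `n = 1, 5` -/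
theorem A_eq {n : ℕ} (hn : n % 2 = 1) (h : (AB n).1 = 1 ∨ (AB n).1 = -1) : n = 1 ∨ n = 5 := by
  have h1 : n % 8 = 1 ∨ n % 8 = 5 ∨ n % 4 = 3 := by omega
  rcases h1 with h1 | h1 | h1
  · left
    by_contra hne
    obtain ⟨j, rfl⟩ : ∃ j, n = 1 + 8 * j := ⟨n / 8, by omega⟩
    obtain ⟨t, x, y, h2, hx, hy, hxy⟩ := good_of_pos (j := j) (by omega)
    have h3 : (AB (1 + 8 * j)).1 = 1 + 2 ^ (t + 4) * (x - y) := by
      rw [AB_add, h2, show AB 1 = (1, 1) by decide]
      simp only [mu]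
      ring
    rw [h3] at h
    have h4 : (2 : ℤ) ^ (t + 4) = 16 * 2 ^ t := by ring
    have h5 : (0 : ℤ) < 2 ^ t := by positivity
    rw [h4] at h
    rcases h with h | h
    · have : (16 * 2 ^ t : ℤ) * (x - y) = 0 := by linarith
      rcases mul_eq_zero.1 this with h6 | h6
      · omega
      · omega
    · have h6 : (16 : ℤ) * (2 ^ t * (x - y)) = -2 := by linarith
      omega
  · right
    by_contra hne
    obtain ⟨j, rfl⟩ : ∃ j, n = 5 + 8 * j := ⟨n / 8, by omega⟩
    obtain ⟨t, x, y, h2, hx, hy, hxy⟩ := good_of_pos (j := j) (by omega)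
    have h3 : (AB (5 + 8 * j)).1 = 1 + 2 ^ (t + 4) * (x + 11 * y) := by
      rw [AB_add, h2, show AB 5 = (1, -11) by decide]
      simp only [mu]
      ring
    rw [h3] at h
    have h4 : (2 : ℤ) ^ (t + 4) = 16 * 2 ^ t := by ring
    have h5 : (0 : ℤ) < 2 ^ t := by positivity
    rw [h4] at h
    rcases h with h | h
    · have : (16 * 2 ^ t : ℤ) * (x + 11 * y) = 0 := by linarith
      rcases mul_eq_zero.1 this with h6 | h6
      · omega
      · omega
    · have h6 : (16 : ℤ) * (2 ^ t * (x + 11 * y)) = -2 := by linarith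
      omega
  · exfalso
    obtain ⟨k, rfl⟩ : ∃ k, n = 4 * k + 3 := ⟨n / 4, by omega⟩
    have := (mod_four_three k).1
    omega

/-- **`1 + 2 y² = 3 ^ n` with `n` odd only for `n = 1`, `n = 5`.** -/
theorem one_add_two_sq {n y : ℕ} (hn : n % 2 = 1) (h : 1 + 2 * y ^ 2 = 3 ^ n) : n = 1 ∨ n = 5 := by
  apply A_eq hn
  have h1 := (sol n 1 y (by rw [one_pow]; exact_mod_cast h) (by norm_num)).1
  rcases h1 with h1 | h1
  · left; exact h1.symm
  · right; linarith

end Cfsg.Agent.H436.TwoAdic
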