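import Cfsg.Agent.H436.Ppd
import Cfsg.Agent.H436.TwoAdic

/-!
# `L₂(q)` with four prime divisors: a prime divides the order exactly once (helper436)
-/

set_option autoImplicit false

namespace Cfsg.Agent.H436

open Cfsg.Agent.Lib.Zsigmondy Cfsg.Agent.Classification.ThreePrimes

/-- some prime divides `c` exactly once -/
def HasSimplePrime (c : ℕ) : Prop := ∃ p : ℕ, p.Prime ∧ p ∣ c ∧ ¬ p ^ 2 ∣ c

theorem HasSimplePrime.mk' {c p M : ℕ} (hp : p.Prime) (hc : c = p * M) (hM : ¬ p ∣ M) : HasSimplePrime c := by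
  refine ⟨p, hp, ⟨M, hc⟩, fun h => hM ?_⟩
  rw [hc, sq] at h
  exact Nat.dvd_of_mul_dvd_mul_left hp.pos h

/-- `r ^ k + 1 = 2 ^ f`, `f ≥ 2`, `r` prime: `k = 1` -/
theorem pow_add_one_eq {r k f : ℕ} (hr : r.Prime) (hf : 2 ≤ f) (h : r ^ k + 1 = 2 ^ f) : k = 1 := by
  have h4 : 4 ≤ 2 ^ f := by
    calc 4 = 2 ^ 2 := by norm_num
      _ ≤ 2 ^ f := Nat.pow_le_pow_right (by norm_num) hf
  have hk0 : k ≠ 0 := by rintro rfl; rw [pow_zero] at h; omega
  by_contra hk
  have he : 2 ∣ 2 ^ f := dvd_pow_self 2 (by omega)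
  have hr2 : r ≠ 2 := by
    rintro rfl
    have : 2 ∣ 2 ^ k := dvd_pow_self 2 hk0
    omega
  obtain ⟨s, hs⟩ := exists_prim (q := r) (e := 2 * k) hr.two_le (by omega) (by omega)
  have h1 : s ∣ 2 ^ f := by
    rw [← h]
    exact hs.dvd_add dvd_rfl (fun hd => by have := Nat.le_of_dvd (by omega) hd; omega)
  have h2 := (Nat.prime_dvd_prime_iff_eq hs.prime Nat.prime_two).1 (hs.prime.dvd_of_dvd_pow h1)
  have := hs.odd (by omega)
  omega

/-- `2 ^ f + 1 = r ^ k`, `r` prime: `k = 1` or `f = 3` -/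
theorem two_pow_add_one_eq {r k f : ℕ} (hr : r.Prime) (hf : 1 ≤ f) (h : 2 ^ f + 1 = r ^ k) : k = 1 ∨ f = 3 := by
  have h2 : 2 ≤ 2 ^ f := by
    calc 2 = 2 ^ 1 := by norm_num
      _ ≤ 2 ^ f := Nat.pow_le_pow_right (by norm_num) hf
  have he : 2 ∣ 2 ^ f := dvd_pow_self 2 (by omega)
  have hk0 : k ≠ 0 := by rintro rfl; rw [pow_zero] at h; omega
  have hr2 : r ≠ 2 := by
    rintro rfl
    have : 2 ∣ 2 ^ k := dvd_pow_self 2 hk0
    omega
  have hodd := hr.eq_two_or_odd.resolve_left hr2
  by_contra hcon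
  push Not at hcon
  obtain ⟨hk1, hf3⟩ := hcon
  rcases Nat.lt_or_ge k 3 with hk | hk
  · obtain rfl : k = 2 := by omega
    -- `(r - 1) (r + 1) = 2 ^ f`
    have h3 : (r + 1) * (r - 1) = 2 ^ f := by
      have := Nat.sq_sub_sq r 1
      rw [one_pow] at this
      rw [← this]
      omega
    obtain ⟨i, -, hi⟩ := (Nat.dvd_prime_pow Nat.prime_two).1 (Dvd.intro_left _ h3)
    obtain ⟨j, -, hj⟩ := (Nat.dvd_prime_pow Nat.prime_two).1 (Dvd.intro _ h3)
    have hr3 := hr.two_le
    have hij : 2 ^ j = 2 ^ i + 2 := by omega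
    have hi1 : i = 1 := by
      rcases Nat.lt_or_ge i 2 with hi' | hi'
      · interval_cases i
        · omega
        · rfl
      · exfalso
        have h4 : 4 ∣ 2 ^ i := by
          have := pow_dvd_pow 2 hi'
          simpa using this
        have h5 : j < 2 ∨ 4 ∣ 2 ^ j := by
          rcases Nat.lt_or_ge j 2 with hj' | hj'
          · exact Or.inl hj'
          · right
            have := pow_dvd_pow 2 hj'
            simpa using this
        have h6 : 0 < 2 ^ i := by positivity
        rcases h5 with h5 | h5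
        · interval_cases j <;> omega
        · omega
    rw [hi1] at hi
    have hr' : r = 3 := by omega
    subst hr'
    have : 2 ^ f = 2 ^ 3 := by rw [← h3]; norm_num
    exact hf3 (Nat.pow_right_injective le_rfl this)
  · obtain ⟨s, hs⟩ := exists_prim (q := r) (e := k) hr.two_le hk (by omega)
    have h1 : s ∣ 2 ^ f := by
      have h3 : r ^ k - 1 = 2 ^ f := by omega
      rw [← h3]
      exact hs.dvd dvd_rfl
    have h2 := (Nat.prime_dvd_prime_iff_eq hs.prime Nat.prime_two).1 (hs.prime.dvd_of_dvd_pow h1)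
    have := hs.odd (by omega)
    omega

theorem card_mul {a b : ℕ} (h : a.Coprime b) : (a * b).primeFactors.card = a.primeFactors.card + b.primeFactors.card := by
  rw [h.primeFactors_mul, Finset.card_union_of_disjoint h.disjoint_primeFactors]

theorem one_le_card {a : ℕ} (h : 2 ≤ a) : 1 ≤ a.primeFactors.card := by
  rw [Nat.one_le_iff_ne_zero, Ne, Finset.card_eq_zero, Nat.primeFactors_eq_empty]
  omega

theorem card_prime_pow {p f : ℕ} (hp : p.Prime) (hf : 1 ≤ f) : (p ^ f).primeFactors.card = 1 := by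
  rw [Nat.primeFactors_prime_pow (by omega) hp, Finset.card_singleton]

theorem exists_eq_pow {a : ℕ} (h : a.primeFactors.card = 1) : ∃ p k, p.Prime ∧ 1 ≤ k ∧ a = p ^ k := by
  rw [← isPrimePow_iff_card_primeFactors_eq_one, isPrimePow_nat_iff] at h
  obtain ⟨p, k, hp, hk, rfl⟩ := h
  exact ⟨p, k, hp, hk, rfl⟩

theorem prime_of_even_pow {p k a : ℕ} (hp : p.Prime) (h : a = p ^ k) (ha : 2 ∣ a) : p = 2 := by
  rw [h] at ha
  exact ((Nat.prime_dvd_prime_iff_eq Nat.prime_two hp).1 (Nat.prime_two.dvd_of_dvd_pow ha)).symm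

theorem coprime_succ (x : ℕ) : x.Coprime (x + 1) := by
  rw [Nat.coprime_self_add_right]
  exact Nat.coprime_one_right _

/-- `q` even -/
theorem simple_even {f c : ℕ} (hf : 2 ≤ f) (hc : c = 2 ^ f * ((2 ^ f) ^ 2 - 1)) (h4 : c.primeFactors.card = 4) :
    HasSimplePrime c := by
  have hq : 4 ≤ 2 ^ f := by
    calc 4 = 2 ^ 2 := by norm_num
      _ ≤ 2 ^ f := Nat.pow_le_pow_right (by norm_num) hf
  have he : 2 ∣ 2 ^ f := dvd_pow_self 2 (by omega)
  obtain ⟨m, hm⟩ : ∃ m, 2 ^ f = m + 1 := ⟨2 ^ f - 1, by omega⟩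
  have h1 : (2 ^ f) ^ 2 - 1 = m * (m + 2) := by
    rw [hm]
    have : (m + 1) ^ 2 = m * (m + 2) + 1 := by ring
    omega
  rw [h1] at hc
  have hc1 : m.Coprime (m + 2) := by
    rw [Nat.coprime_self_add_right]
    exact Nat.coprime_two_right.2 (Nat.odd_iff.2 (by omega))
  have hc2 : (2 ^ f).Coprime (m * (m + 2)) := by
    apply Nat.Coprime.pow_left
    rw [Nat.coprime_two_left]
    exact (Nat.odd_iff.2 (by omega)).mul (Nat.odd_iff.2 (by omega))
  rw [hc, card_mul hc2, card_prime_pow Nat.prime_two (by omega), card_mul hc1] at h4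
  have ha := one_le_card (a := m) (by omega)
  have hb := one_le_card (a := m + 2) (by omega)
  have h5 : m.primeFactors.card = 1 ∨ (m + 2).primeFactors.card = 1 := by omega
  rcases h5 with h5 | h5
  · obtain ⟨r, k, hr, hk, hrk⟩ := exists_eq_pow h5
    have hk1 := pow_add_one_eq hr hf (by rw [← hrk, hm])
    rw [hk1, pow_one] at hrk
    subst hrk
    refine HasSimplePrime.mk' hr (M := 2 ^ f * (m + 2)) (by rw [hc]; ring) ?_
    intro hd
    rcases hr.dvd_mul.1 hd with h6 | h6
    · have := (Nat.prime_dvd_prime_iff_eq hr Nat.prime_two).1 (hr.dvd_of_dvd_pow h6)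
      omega
    · exact hr.ne_one (Nat.eq_one_of_dvd_coprimes hc1 dvd_rfl h6)
  · obtain ⟨r, k, hr, hk, hrk⟩ := exists_eq_pow h5
    rcases two_pow_add_one_eq hr (by omega) (f := f) (k := k) (by rw [← hrk, hm]) with hk1 | hk1
    · rw [hk1, pow_one] at hrk
      subst hrk
      refine HasSimplePrime.mk' hr (M := 2 ^ f * m) (by rw [hc]; ring) ?_
      intro hd
      rcases hr.dvd_mul.1 hd with h6 | h6
      · have := (Nat.prime_dvd_prime_iff_eq hr Nat.prime_two).1 (hr.dvd_of_dvd_pow h6)
        omega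
      · exact hr.ne_one (Nat.eq_one_of_dvd_coprimes hc1 h6 dvd_rfl)
    · subst hk1
      obtain rfl : m = 7 := by omega
      exact ⟨7, by norm_num, by rw [hc]; norm_num, by rw [hc]; norm_num⟩

/-- primes `r` different from `2`, dividing `a` where `c = 2 a b` -/
theorem simple_of_odd_prime {c q a b r : ℕ} (hr : r.Prime) (h2 : r ≠ 2) (hc : c = 2 * q * a * b)
    (hqa : q.Coprime a) (hab : a.Coprime b) {M : ℕ} (ha : a = r * M) (hM : ¬ r ∣ M) : HasSimplePrime c := by
  have hra : r ∣ a := ⟨M, ha⟩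
  refine HasSimplePrime.mk' hr (M := 2 * q * M * b) (by rw [hc, ha]; ring) ?_
  intro hd
  rcases hr.dvd_mul.1 hd with h1 | h1
  · rcases hr.dvd_mul.1 h1 with h3 | h3
    · rcases hr.dvd_mul.1 h3 with h4 | h4
      · exact h2 ((Nat.prime_dvd_prime_iff_eq hr Nat.prime_two).1 h4)
      · exact hr.ne_one (Nat.eq_one_of_dvd_coprimes hqa h4 hra)
    · exact hM h3
  · exact hr.ne_one (Nat.eq_one_of_dvd_coprimes hab hra h1)

/-- a primitive prime dividing `2 s ^ j` is `s` -/
theorem Prim.eq_of_dvd {q e r s j : ℕ} (h : Prim q e r) (he : 2 ≤ e) (hs : s.Prime) (hd : r ∣ 2 * s ^ j) : r = s := by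
  rcases h.prime.dvd_mul.1 hd with h1 | h1
  · exfalso
    have := (Nat.prime_dvd_prime_iff_eq h.prime Nat.prime_two).1 h1
    have := h.odd he
    omega
  · exact (Nat.prime_dvd_prime_iff_eq h.prime hs).1 (h.prime.dvd_of_dvd_pow h1)

/-- a divisor `> 2` of `2 s ^ j` is divisible by `s` -/
theorem dvd_of_dvd_two_mul {s j a : ℕ} (hs : s.Prime) (ha : 2 < a) (h : a ∣ 2 * s ^ j) : s ∣ a := by
  by_contra hn
  have h1 : a.Coprime (s ^ j) := (Nat.Coprime.pow_left j ((Nat.Prime.coprime_iff_not_dvd hs).2 hn)).symm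
  have := Nat.le_of_dvd (by norm_num) (h1.dvd_of_dvd_mul_right h)
  omega

/-- case `p ^ f + 1 = 2 s ^ j` -/
theorem case_add {p f s j x c : ℕ} (hp : p.Prime) (hp2 : p ≠ 2) (hf : 2 ≤ f) (hs : s.Prime)
    (hx : p ^ f = 2 * x + 1) (hxe : 2 ∣ x) (hw : x + 1 = s ^ j) (hcard : x.primeFactors.card ≤ 2)
    (hc : c = 2 * p ^ f * x * (x + 1)) : HasSimplePrime c := by
  have hodd : Odd p := hp.odd_of_ne_two hp2
  have hp3 : 3 ≤ p := by have := hp.two_le; omega
  have h2s : p ^ f + 1 = 2 * s ^ j := by omega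
  have hx0 : x ≠ 0 := by
    rintro rfl
    have h9 : 3 ^ 2 ≤ p ^ f := (Nat.pow_le_pow_left hp3 2).trans (Nat.pow_le_pow_right (by omega) hf)
    omega
  -- the order of `p` modulo `s` is `2 f`
  have hord : Prim p (2 * f) s := by
    obtain ⟨t, ht⟩ := exists_prim (q := p) (e := 2 * f) (by omega) (by omega) (by omega)
    have h1 : t ∣ 2 * s ^ j := by
      rw [← h2s]
      exact ht.dvd_add dvd_rfl (fun hd => by have := Nat.le_of_dvd (by omega) hd; omega)
    rw [← ht.eq_of_dvd (by omega) hs h1]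
    exact ht
  -- `f` is a power of `2`
  obtain ⟨k, m, hm, hfm⟩ := Nat.exists_eq_two_pow_mul_odd (show f ≠ 0 by omega)
  have hm1 : m = 1 := by
    by_contra hne
    have hm3 : 3 ≤ m := by
      obtain ⟨l, rfl⟩ := hm
      omega
    have h1 : p ^ 2 ^ k + 1 ∣ 2 * s ^ j := by
      rw [← h2s, hfm, pow_mul]
      have := hm.nat_add_dvd_pow_add_pow (p ^ 2 ^ k) 1
      rwa [one_pow] at this
    have h3 : 2 < p ^ 2 ^ k + 1 := by
      have : p ^ 1 ≤ p ^ 2 ^ k := Nat.pow_le_pow_right (by omega) Nat.one_le_two_pow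
      rw [pow_one] at this
      omega
    have h4 := dvd_of_dvd_two_mul hs h3 h1
    have h5 : ¬ (2 * f ∣ 2 * 2 ^ k) := by
      intro hd
      have h6 := Nat.le_of_dvd (by positivity) hd
      have h7 : 0 < 2 ^ k := by positivity
      rw [hfm] at h6
      nlinarith
    exact hord.not_dvd_add h5 h4
  rw [hm1, mul_one] at hfm
  have hk1 : 1 ≤ k := by
    rcases Nat.eq_zero_or_pos k with h | h
    · rw [h, pow_zero] at hfm; omega
    · exact h
  -- primitive primes of exponents dividing `f` divide `x`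
  have hdiv : ∀ {e r : ℕ}, Prim p e r → 2 ≤ e → e ∣ f → r ∣ x := by
    intro e r hr he hef
    have h1 : r ∣ 2 * x := by
      have : p ^ f - 1 = 2 * x := by omega
      rw [← this]
      exact hr.dvd hef
    rcases hr.prime.dvd_mul.1 h1 with h3 | h3
    · have := (Nat.prime_dvd_prime_iff_eq hr.prime Nat.prime_two).1 h3
      have := hr.odd he
      omega
    · exact h3
  have three : ∀ a b : ℕ, a.Prime → b.Prime → a ≠ 2 → b ≠ 2 → a ≠ b → a ∣ x → b ∣ x → False := by
    intro a b ha hb ha2 hb2 hab hax hbx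
    have h : ({2, a, b} : Finset ℕ) ⊆ x.primeFactors := by
      intro y hy
      simp only [Finset.mem_insert, Finset.mem_singleton] at hy
      rw [Nat.mem_primeFactors]
      rcases hy with rfl | rfl | rfl
      · exact ⟨Nat.prime_two, hxe, hx0⟩
      · exact ⟨ha, hax, hx0⟩
      · exact ⟨hb, hbx, hx0⟩
    have h1 := Finset.card_le_card h
    rw [Finset.card_insert_of_notMem (by simp [ha2.symm, hb2.symm]), Finset.card_pair hab] at h1
    omega
  have hne2 : ∀ {e r : ℕ}, Prim p e r → 2 ≤ e → r ≠ 2 := by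
    rintro e r hr he rfl
    have := hr.odd he
    omega
  rcases Nat.lt_or_ge k 2 with hk2 | hk2
  · -- `f = 2`
    obtain rfl : k = 1 := by omega
    rw [pow_one] at hfm
    subst hfm
    obtain ⟨y, rfl⟩ := hodd
    have hxy : x = 2 * (y * (y + 1)) := by
      have : (2 * y + 1) ^ 2 = 2 * (2 * (y * (y + 1))) + 1 := by ring
      omega
    have hpx : ((2 * y + 1) ^ 2).Coprime x := by
      apply Nat.Coprime.pow_left
      rw [hxy]
      refine Nat.Coprime.mul_right ?_ (Nat.Coprime.mul_right ?_ ?_)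
      · exact Nat.coprime_two_right.2 ⟨y, rfl⟩
      · rw [show 2 * y + 1 = 1 + y * 2 by ring]
        exact (Nat.coprime_add_mul_left_left _ _ _).2 (Nat.coprime_one_left _)
      · have h1 : (2 * y + 1) = y + (y + 1) := by ring
        rw [h1]
        exact Nat.coprime_add_self_left.2 (coprime_succ y)
    have hxx := coprime_succ x
    rcases Nat.lt_or_ge y 2 with hy | hy
    · have hy1 : y = 1 := by
        interval_cases y
        · omega
        · rfl
      subst hy1
      have h4 : x = 4 := by omega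
      subst h4
      exact ⟨5, by norm_num, by rw [hc]; norm_num, by rw [hc]; norm_num⟩
    -- `π(x) = π(y) ∪ π(y + 1)`
    have h5 : (y * (y + 1)).primeFactors ⊆ x.primeFactors :=
      Nat.primeFactors_mono (by rw [hxy]; exact Dvd.intro_left _ rfl) hx0
    have h6 := Finset.card_le_card h5
    rw [card_mul (coprime_succ y)] at h6
    have ha := one_le_card (a := y) hy
    have hb := one_le_card (a := y + 1) (by omega)
    obtain ⟨a, i, hap, hi, hya⟩ := exists_eq_pow (a := y) (by omega)
    obtain ⟨b, l, hbp, hl, hyb⟩ := exists_eq_pow (a := y + 1) (by omega)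
    rcases Nat.even_or_odd' y with ⟨z, hz | hz⟩
    · -- `y` even
      have ha2 := prime_of_even_pow hap hya (by rw [hz]; exact Dvd.intro _ rfl)
      subst ha2
      have hb2 : b ≠ 2 := by
        rintro rfl
        have : 2 ∣ y + 1 := by rw [hyb]; exact dvd_pow_self 2 (by omega)
        omega
      rcases two_pow_add_one_eq hbp hi (by rw [← hya]; exact hyb) with hl1 | hi3
      · rw [hl1, pow_one] at hyb
        refine simple_of_odd_prime hbp hb2 hc hpx hxx (M := 2 * y) (by rw [hxy, hyb]; ring) ?_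
        intro hd
        rcases hbp.dvd_mul.1 hd with h7 | h7
        · exact hb2 ((Nat.prime_dvd_prime_iff_eq hbp Nat.prime_two).1 h7)
        · exact hbp.ne_one (Nat.eq_one_of_dvd_coprimes (coprime_succ y) h7 (by rw [hyb]))
      · rw [hi3] at hya
        norm_num at hya
        subst hya
        have h4 : x = 144 := by omega
        subst h4
        exact ⟨5, by norm_num, by rw [hc]; norm_num, by rw [hc]; norm_num⟩
    · have hb2 := prime_of_even_pow hbp hyb (by rw [hz]; exact ⟨z + 1, by ring⟩)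
      subst hb2
      have ha2 : a ≠ 2 := by
        rintro rfl
        have : 2 ∣ y := by rw [hya]; exact dvd_pow_self 2 (by omega)
        omega
      have hl2 : 2 ≤ l := by
        rcases Nat.lt_or_ge l 2 with h7 | h7
        · interval_cases l
          omega
        · exact h7
      have hi1 := pow_add_one_eq hap hl2 (by rw [← hya]; exact hyb)
      rw [hi1, pow_one] at hya
      refine simple_of_odd_prime hap ha2 hc hpx hxx (M := 2 * (y + 1)) (by rw [hxy, ← hya]; ring) ?_
      intro hd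
      rcases hap.dvd_mul.1 hd with h7 | h7
      · exact ha2 ((Nat.prime_dvd_prime_iff_eq hap Nat.prime_two).1 h7)
      · exact hap.ne_one (Nat.eq_one_of_dvd_coprimes (coprime_succ y) (by rw [hya]) h7)
  · -- `4 ∣ f`
    have h4f : 4 ∣ f := by
      rw [hfm]
      have := pow_dvd_pow 2 hk2
      simpa using this
    obtain ⟨r, hr⟩ := exists_prim (q := p) (e := 4) (by omega) (by norm_num) (by omega)
    have hrx := hdiv hr (by norm_num) h4f
    rcases Nat.lt_or_ge k 3 with hk3 | hk3
    · obtain rfl : k = 2 := by omega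
      have hf4 : f = 4 := by rw [hfm]; norm_num
      by_cases hp3' : p = 3
      · rw [hp3', hf4] at hx hc
        have hx40 : x = 40 := by omega
        rw [hx40] at hc
        exact ⟨41, by norm_num, by rw [hc]; norm_num, by rw [hc]; norm_num⟩
      · exfalso
        have h3 : 3 ∣ p ^ 2 - 1 := (Nat.prime_three.dvd_mul.1 (three_dvd_mq (q := p))).resolve_left
            (fun h6 => hp3' ((Nat.prime_dvd_prime_iff_eq Nat.prime_three hp).1 h6).symm)
        have h3x : 3 ∣ x := by
          have h5 : p ^ 2 - 1 ∣ p ^ f - 1 := by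
            rw [hf4, show p ^ 4 = (p ^ 2) ^ 2 by ring]
            have := Nat.sub_dvd_pow_sub_pow (p ^ 2) 1 2
            rwa [one_pow] at this
          have h7 : 3 ∣ 2 * x := by
            have : p ^ f - 1 = 2 * x := by omega
            rw [← this]
            exact h3.trans h5
          exact (Nat.prime_three.dvd_mul.1 h7).resolve_left (by norm_num)
        refine three 3 r Nat.prime_three hr.prime (by norm_num) (hne2 hr (by norm_num)) ?_ h3x hrx
        rintro rfl
        have := (hr.dvd_iff 2).1 h3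
        norm_num at this
    · exfalso
      have h8f : 8 ∣ f := by
        rw [hfm]
        have := pow_dvd_pow 2 hk3
        simpa using this
      obtain ⟨t, ht⟩ := exists_prim (q := p) (e := 8) (by omega) (by norm_num) (by omega)
      have htx := hdiv ht (by norm_num) h8f
      refine three r t hr.prime ht.prime (hne2 hr (by norm_num)) (hne2 ht (by norm_num)) ?_ hrx htx
      rintro rfl
      have := hr.unique ht
      omega

/-- case `p ^ f - 1 = 2 s ^ j` -/
theorem case_sub {p f s j x c : ℕ} (hp : p.Prime) (hp2 : p ≠ 2) (hf : 2 ≤ f) (hs : s.Prime) (hj : 1 ≤ j)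
    (hx : p ^ f = 2 * x + 1) (hw : x = s ^ j) (hodd' : x % 2 = 1) (hcard : (x + 1).primeFactors.card ≤ 2)
    (hc : c = 2 * p ^ f * x * (x + 1)) : HasSimplePrime c := by
  have hodd : Odd p := hp.odd_of_ne_two hp2
  have hp3 : 3 ≤ p := by have := hp.two_le; omega
  have hxx := coprime_succ x
  have hpx1 : (p ^ f).Coprime (x + 1) := by
    rw [hx, show 2 * x + 1 = x + (x + 1) by ring]
    exact Nat.coprime_add_self_left.2 hxx
  have hpx : (p ^ f).Coprime x := by
    rw [hx, show 2 * x + 1 = 1 + x * 2 by ring]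
    exact (Nat.coprime_add_mul_left_left _ _ _).2 (Nat.coprime_one_left _)
  -- `f` is odd
  have hfo : f % 2 = 1 := by
    by_contra h
    obtain ⟨g, rfl⟩ : ∃ g, f = 2 * g := ⟨f / 2, by omega⟩
    have h1 : (p ^ g) % 2 = 1 := Nat.odd_iff.1 hodd.pow
    obtain ⟨k, hk⟩ : ∃ k, p ^ g = 2 * k + 1 := ⟨p ^ g / 2, by omega⟩
    have h3 : p ^ (2 * g) = 2 * (2 * (k * (k + 1))) + 1 := by
      rw [mul_comm, pow_mul, hk]; ring
    omega
  have h2s : p ^ f - 1 = 2 * s ^ j := by omega
  have hord : Prim p f s := by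
    obtain ⟨t, ht⟩ := exists_prim (q := p) (e := f) (by omega) (by omega) (by omega)
    have h1 : t ∣ 2 * s ^ j := by
      rw [← h2s]
      exact ht.dvd dvd_rfl
    rw [← ht.eq_of_dvd (by omega) hs h1]
    exact ht
  -- `p = 3`
  have hp3' : p = 3 := by
    by_contra hne
    have h1 : p - 1 ∣ 2 * s ^ j := by
      rw [← h2s]
      have := Nat.sub_dvd_pow_sub_pow p 1 f
      rwa [one_pow] at this
    have h3 := dvd_of_dvd_two_mul hs (by omega) h1
    have h4 := (hord.dvd_iff 1).1 (by rwa [pow_one])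
    have := Nat.le_of_dvd one_pos h4
    omega
  subst hp3'
  -- `x + 1 = 2 z`, `z` odd
  have hmod : 3 ^ f % 8 = 3 := by
    obtain ⟨g, rfl⟩ : ∃ g, f = 2 * g + 1 := ⟨f / 2, by omega⟩
    rw [pow_succ, pow_mul, Nat.mul_mod, Nat.pow_mod]
    norm_num
  have h27 : 27 ≤ 3 ^ f := by
    calc 27 = 3 ^ 3 := by norm_num
      _ ≤ 3 ^ f := Nat.pow_le_pow_right (by norm_num) (by omega)
  obtain ⟨z, hz⟩ : ∃ z, x + 1 = 2 * z := ⟨(x + 1) / 2, by omega⟩
  have hzo : z % 2 = 1 := by omega
  have hz7 : 2 ≤ z := by omega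
  have hcop : Nat.Coprime 2 z := Nat.coprime_two_left.2 (Nat.odd_iff.2 hzo)
  rw [hz, card_mul hcop, Nat.Prime.primeFactors Nat.prime_two, Finset.card_singleton] at hcard
  have h1z := one_le_card hz7
  obtain ⟨r, b, hr, hb, hzb⟩ := exists_eq_pow (a := z) (by omega)
  have hr2 : r ≠ 2 := by
    rintro rfl
    have : 2 ∣ z := by rw [hzb]; exact dvd_pow_self 2 (by omega)
    omega
  by_cases hb1 : b = 1
  · rw [hb1, pow_one] at hzb
    have hc' : c = 2 * 3 ^ f * (x + 1) * x := by rw [hc]; ring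
    refine simple_of_odd_prime hr hr2 hc' hpx1 hxx.symm (M := 2) (by rw [hz, hzb]; ring) ?_
    intro hd
    exact hr2 ((Nat.prime_dvd_prime_iff_eq hr Nat.prime_two).1 hd)
  by_cases hj1 : j = 1
  · rw [hj1, pow_one] at hw
    have hs2 : s ≠ 2 := by
      rintro rfl
      omega
    refine simple_of_odd_prime hs hs2 hc hpx hxx (M := 1) (by rw [hw, mul_one]) hs.not_dvd_one
  exfalso
  have heq : s ^ j + 1 = 2 * r ^ b := by rw [← hw, hz, hzb]
  rcases Nat.even_or_odd' j with ⟨i, hi | hi⟩
  · have h1 : 1 + 2 * (s ^ i) ^ 2 = 3 ^ f := by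
      rw [← pow_mul, mul_comm i 2, ← hi, ← hw]
      omega
    rcases TwoAdic.one_add_two_sq hfo h1 with h5 | h5
    · omega
    · rw [h5] at hx
      have hx' : x = 121 := by omega
      have hz' : z = 61 := by omega
      rw [hz'] at hzb
      have h61 : Nat.Prime 61 := by norm_num
      rw [hzb] at h61
      exact (Nat.Prime.not_prime_pow (by omega)) h61
  · have h1 : s + 1 ∣ 2 * r ^ b := by
      rw [← heq]
      have := (show Odd j from ⟨i, hi⟩).nat_add_dvd_pow_add_pow s 1
      rwa [one_pow] at this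
    have hs3 : s ≠ 2 := by
      rintro rfl
      have : 2 ∣ x := by rw [hw]; exact dvd_pow_self 2 (by omega)
      omega
    have h3 := dvd_of_dvd_two_mul hr (by have := hs.two_le; omega) h1
    obtain ⟨t, ht⟩ := exists_prim (q := s) (e := 2 * j) hs.two_le (by omega) (by omega)
    have h4 : t ∣ 2 * r ^ b := by
      rw [← heq]
      exact ht.dvd_add dvd_rfl (fun hd => by have := Nat.le_of_dvd (by omega) hd; omega)
    have h5 := ht.eq_of_dvd (by omega) hr h4
    subst h5
    refine ht.not_dvd_add (m := 1) ?_ (by rwa [pow_one])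
    intro hd
    have := Nat.le_of_dvd (by norm_num) hd
    omega

/-- **`L₂(q)` with four prime divisors: a prime divides the order exactly once.** -/
theorem simple_odd {p f c : ℕ} (hp : p.Prime) (hp2 : p ≠ 2) (hf : 1 ≤ f) (h5 : 5 ≤ p ^ f)
    (hc : 2 * c = p ^ f * ((p ^ f) ^ 2 - 1)) (h4 : c.primeFactors.card = 4) : HasSimplePrime c := by
  have hodd : Odd (p ^ f) := (hp.odd_of_ne_two hp2).pow
  obtain ⟨x, hx⟩ := hodd
  have hc' : c = 2 * p ^ f * x * (x + 1) := by
    have h1 : (p ^ f) ^ 2 - 1 = 4 * (x * (x + 1)) := by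
      rw [hx]
      have : (2 * x + 1) ^ 2 = 4 * (x * (x + 1)) + 1 := by ring
      omega
    rw [h1] at hc
    apply Nat.eq_of_mul_eq_mul_left (show 0 < 2 by norm_num)
    rw [hc]
    ring
  have hxx := coprime_succ x
  have hpx1 : (p ^ f).Coprime (x + 1) := by
    rw [hx, show 2 * x + 1 = x + (x + 1) by ring]
    exact Nat.coprime_add_self_left.2 hxx
  have hpx : (p ^ f).Coprime x := by
    rw [hx, show 2 * x + 1 = 1 + x * 2 by ring]
    exact (Nat.coprime_add_mul_left_left _ _ _).2 (Nat.coprime_one_left _)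
  rcases Nat.lt_or_ge 1 f with hf1 | hf1
  · -- `f ≥ 2`
    have hcard : c.primeFactors.card = 1 + (x.primeFactors.card + (x + 1).primeFactors.card) := by
      have h1 : c.primeFactors = (p ^ f * (x * (x + 1))).primeFactors := by
        have h0 : p ^ f * (x * (x + 1)) ≠ 0 :=
          Nat.mul_ne_zero (by omega) (Nat.mul_ne_zero (by omega) (by omega))
        have h3 : 2 ∣ p ^ f * (x * (x + 1)) := (Nat.even_mul_succ_self x).two_dvd.mul_left _
        rw [hc', show 2 * p ^ f * x * (x + 1) = 2 * (p ^ f * (x * (x + 1))) by ring,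
          Nat.primeFactors_mul (by norm_num) h0, Nat.Prime.primeFactors Nat.prime_two, Finset.union_eq_right]
        intro y hy
        rw [Finset.mem_singleton] at hy
        subst hy
        exact Nat.mem_primeFactors.2 ⟨Nat.prime_two, h3, h0⟩
      rw [h1, card_mul (hpx.mul_right hpx1), card_prime_pow hp hf, card_mul hxx]
    have ha := one_le_card (a := x) (by omega)
    have hb := one_le_card (a := x + 1) (by omega)
    rcases Nat.mod_two_eq_zero_or_one x with hxe | hxo
    · -- `x` even, `w = x + 1`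
      by_cases hw : (x + 1).primeFactors.card = 1
      · obtain ⟨s, j, hs, hj, hsj⟩ := exists_eq_pow hw
        exact case_add hp hp2 hf1 hs hx (Nat.dvd_of_mod_eq_zero hxe) hsj (by omega) hc'
      · exfalso
        obtain ⟨s, k, hs, hk, hsk⟩ := exists_eq_pow (a := x) (by omega)
        have hs2 := prime_of_even_pow hs hsk (Nat.dvd_of_mod_eq_zero hxe)
        subst hs2
        have h6 : 2 ^ (k + 1) + 1 = p ^ f := by rw [hx, hsk]; ring
        rcases two_pow_add_one_eq hp (by omega) h6 with h7 | h7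
        · omega
        · obtain rfl : k = 2 := by omega
          have h8 : x = 4 := by rw [hsk]; norm_num
          subst h8
          apply hw
          exact (Nat.Prime.primeFactors Nat.prime_five) ▸ Finset.card_singleton 5
    · by_cases hw : x.primeFactors.card = 1
      · obtain ⟨s, j, hs, hj, hsj⟩ := exists_eq_pow hw
        exact case_sub hp hp2 hf1 hs hj hx hsj hxo (by omega) hc'
      · exfalso
        obtain ⟨s, k, hs, hk, hsk⟩ := exists_eq_pow (a := x + 1) (by omega)
        have hs2 := prime_of_even_pow hs hsk (by omega)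
        subst hs2
        have h6 : p ^ f + 1 = 2 ^ (k + 1) := by rw [hx, pow_succ, ← hsk]; ring
        have := pow_add_one_eq hp (by omega) h6
        omega
  · obtain rfl : f = 1 := by omega
    rw [pow_one] at *
    refine HasSimplePrime.mk' hp (M := 2 * x * (x + 1)) (by rw [hc']; ring) ?_
    intro hd
    rcases hp.dvd_mul.1 hd with h1 | h1
    · rcases hp.dvd_mul.1 h1 with h3 | h3
      · exact hp2 ((Nat.prime_dvd_prime_iff_eq hp Nat.prime_two).1 h3)
      · exact hp.ne_one (Nat.eq_one_of_dvd_coprimes hpx dvd_rfl h3)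
    · exact hp.ne_one (Nat.eq_one_of_dvd_coprimes hpx1 dvd_rfl h1)

end Cfsg.Agent.H436
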