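import Mathlib
import Cfsg.Agent.H384.TwoTrans

/-!
# 2-transitive groups with non-abelian socle: numbers (helper436, HUB H1, part P9)

For `A : AS G Ω T`:

* `prim`, `trans_T`, `index_stab` : `G` is primitive, `T` is transitive, `|T : T_a| = |Ω|`;
* `card_dvd_aut` : `|G|` divides `|MulAut T|`;
* `sub_one_dvd` : `|Ω| - 1` divides `D |T_a|` if `|MulAut T| = D |T|`;
* `index_eq_of_ti` : if `T_a` normalises a Sylow `p`-subgroup `P` of `T`, `p` divides `|T_a|` and different
  Sylow `p`-subgroups of `T` intersect trivially, then `|Ω| = |T : N_T(P)|`;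
* `exists_data` : the summary for a group `T₀` isomorphic to `T`.
-/

set_option autoImplicit false

namespace Cfsg.Agent.H436.TT

open MulAction Cfsg.Agent.H384.TwoTrans

universe u v

variable {G : Type u} {Ω : Type v} [Group G] [MulAction G Ω] {T : Subgroup G}

theorem nontrivial_omega (A : AS G Ω T) : Nontrivial Ω := by
  by_contra h
  have hs : Subsingleton Ω := not_nontrivial_iff_subsingleton.1 h
  have h1 : ∀ g : G, g = 1 := by
    intro g
    exact A.faithful.eq_of_smul_eq_smul (fun a => Subsingleton.elim _ _)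
  have := A.simple.toNontrivial
  obtain ⟨x, y, hxy⟩ := exists_pair_ne ↥T
  exact hxy (Subtype.ext ((h1 x.1).trans (h1 y.1).symm))

theorem prim (A : AS G Ω T) : IsPreprimitive G Ω := isPreprimitive_of_is_two_pretransitive A.two

theorem trans_T (A : AS G Ω T) : IsPretransitive ↥T Ω := by
  have := prim A
  have := A.normal
  apply IsQuasiPreprimitive.isPretransitive_of_normal (G := G)
  intro h
  have h1 : ∀ t ∈ T, t = 1 := by
    intro t ht
    refine A.faithful.eq_of_smul_eq_smul (fun a => ?_)
    have ha : a ∈ fixedPoints ↥T Ω := by rw [h]; trivial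
    rw [one_smul]
    exact ha ⟨t, ht⟩
  have := A.simple.toNontrivial
  obtain ⟨x, y, hxy⟩ := exists_pair_ne ↥T
  exact hxy (Subtype.ext ((h1 x.1 x.2).trans (h1 y.1 y.2).symm))

theorem index_stab (A : AS G Ω T) (a : Ω) : (stabilizer ↥T a).index = Nat.card Ω := by
  have := trans_T A
  exact index_stabilizer_of_transitive _ a

theorem one_lt_card (A : AS G Ω T) : 1 < Nat.card Ω := by
  have := nontrivial_omega A
  have := A.finΩ
  exact Finite.one_lt_card

/-- the order of `G` divides the order of the automorphism group of `T` -/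
theorem card_dvd_aut (A : AS G Ω T) : Nat.card G ∣ Nat.card (MulAut ↥T) := by
  have := A.normal
  apply Subgroup.card_dvd_of_injective (MulAut.conjNormal : G →* MulAut ↥T)
  rw [← MonoidHom.ker_eq_bot_iff]
  rw [eq_bot_iff]
  intro g hg
  rw [MonoidHom.mem_ker] at hg
  rw [← A.cent, Subgroup.mem_centralizer_iff]
  intro t ht
  have h1 := congrArg (fun β => ((β ⟨t, ht⟩ : ↥T) : G)) hg
  simp only [MulAut.conjNormal_apply, MulAut.one_apply] at h1
  rw [mul_inv_eq_iff_eq_mul] at h1
  exact h1.symm

theorem mul_dvd_card (A : AS G Ω T) : Nat.card Ω * (Nat.card Ω - 1) ∣ Nat.card G := by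
  have := A.finΩ
  have := nontrivial_omega A
  obtain ⟨a, b, hab⟩ := exists_pair_ne Ω
  have h1 := A.two.index_of_fixingSubgroup_mul (s := {a, b}) (Set.ncard_pair hab)
  have h2 : (Nat.card Ω).factorial = Nat.card Ω * (Nat.card Ω - 1) * (Nat.card Ω - 2).factorial := by
    have h3 := one_lt_card A
    obtain ⟨m, hm⟩ := Nat.exists_eq_add_of_lt h3
    rw [hm]
    have h4 : 1 + m + 1 - 1 = m + 1 := by omega
    have h5 : 1 + m + 1 - 2 = m := by omega
    have h6 : 1 + m + 1 = m + 1 + 1 := by omega
    rw [h4, h5, h6, Nat.factorial_succ, Nat.factorial_succ]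
    ring
  rw [h2] at h1
  have h3 := Nat.eq_of_mul_eq_mul_right (Nat.factorial_pos _) h1
  rw [← h3]
  exact Subgroup.index_dvd_card _

theorem sub_one_dvd (A : AS G Ω T) {D : ℕ} (hD : Nat.card (MulAut ↥T) = D * Nat.card ↥T) (a : Ω) :
    Nat.card Ω - 1 ∣ D * Nat.card (stabilizer ↥T a) := by
  have h1 := (mul_dvd_card A).trans (card_dvd_aut A)
  rw [hD, ← Subgroup.index_mul_card (stabilizer ↥T a), index_stab A a] at h1
  have h2 : Nat.card Ω * (Nat.card Ω - 1) ∣ Nat.card Ω * (D * Nat.card (stabilizer ↥T a)) := by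
    refine h1.trans (dvd_of_eq ?_)
    ring
  have h3 := one_lt_card A
  exact Nat.dvd_of_mul_dvd_mul_left (by omega) h2

theorem mem_of_pow_eq_one {X : Type*} [Group X] [Finite X] {p : ℕ} [Fact p.Prime] (Q : Sylow p X) {x : X}
    (hx : orderOf x = p) (hn : x ∈ Subgroup.normalizer ((Q : Subgroup X) : Set X)) : x ∈ (Q : Subgroup X) := by
  have h1 : IsPGroup p (Subgroup.zpowers x) := by
    apply IsPGroup.of_card (n := 1)
    rw [Nat.card_zpowers, hx, pow_one]
  have h2 := h1.inf_normalizer_sylow Q
  have h3 : x ∈ Subgroup.zpowers x ⊓ Subgroup.normalizer ((Q : Subgroup X) : Set X) :=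
    ⟨Subgroup.mem_zpowers x, hn⟩
  exact (h2.le h3).2

/-- If the point stabiliser of `T` normalises a Sylow `p`-subgroup of `T` and has order divisible by `p`, and
different Sylow `p`-subgroups of `T` intersect trivially, then it is the whole normaliser. -/
theorem index_eq_of_ti (A : AS G Ω T) (a : Ω) {p : ℕ} [Fact p.Prime]
    (hTI : ∀ (P Q : Sylow p ↥T) (x : ↥T), x ≠ 1 → x ∈ (P : Subgroup ↥T) → x ∈ (Q : Subgroup ↥T) → P = Q)
    (P : Sylow p ↥T) (hP : stabilizer ↥T a ≤ Subgroup.normalizer ((P : Subgroup ↥T) : Set ↥T))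
    (hp : p ∣ Nat.card (stabilizer ↥T a)) :
    Nat.card Ω = (Subgroup.normalizer ((P : Subgroup ↥T) : Set ↥T)).index := by
  have := A.finG
  have := A.finΩ
  have := nontrivial_omega A
  have := A.normal
  have hprim := prim A
  obtain ⟨x, hx⟩ := exists_prime_orderOf_dvd_card' p hp
  obtain ⟨x, hxH⟩ := x
  rw [Subgroup.orderOf_mk] at hx
  have hx1 : x ≠ 1 := by
    rintro rfl
    rw [orderOf_one] at hx
    exact (Fact.out : p.Prime).one_lt.ne hx
  have hxP : x ∈ (P : Subgroup ↥T) := mem_of_pow_eq_one P hx (hP hxH)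
  -- the image of `P` in `G`
  set P' : Subgroup G := (P : Subgroup ↥T).map T.subtype with hP'
  have hfix : ∀ g ∈ stabilizer G a,
      (P : Subgroup ↥T).map ((MulAut.conjNormal g : MulAut ↥T) : ↥T ≃* ↥T).toMonoidHom = P := by
    intro g hg
    set α : ↥T ≃* ↥T := (MulAut.conjNormal g : MulAut ↥T) with hα
    have hsurj : Function.Surjective α.toMonoidHom := α.surjective
    have h1 : x ∈ Subgroup.normalizer (((P : Subgroup ↥T).map α.toMonoidHom : Subgroup ↥T) : Set ↥T) := by
      rw [← Subgroup.map_equiv_normalizer_eq]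
      refine ⟨α.symm x, hP ?_, ?_⟩
      · rw [mem_stabilizer_iff]
        have h2 : ((α.symm x : ↥T) : G) = g⁻¹ * (x : G) * g := by
          rw [hα]
          exact MulAut.conjNormal_symm_apply g x
        have h3 : (x : G) • a = a := hxH
        have h4 : g • a = a := hg
        have h5 : g⁻¹ • a = a := by rw [inv_smul_eq_iff]; exact h4.symm
        change ((α.symm x : ↥T) : G) • a = a
        rw [h2, mul_smul, mul_smul, h4, h3, h5]
      · exact α.apply_symm_apply x
    have h2 := mem_of_pow_eq_one (P.mapSurjective hsurj) hx h1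
    have h3 := hTI P (P.mapSurjective hsurj) x hx1 hxP h2
    exact (congrArg (fun Q : Sylow p ↥T => (Q : Subgroup ↥T)) h3).symm
  have hle : stabilizer G a ≤ Subgroup.normalizer (P' : Set G) := by
    intro g hg
    rw [Subgroup.mem_normalizer_iff_map_conj_eq]
    have h1 := hfix g hg
    rw [hP', Subgroup.map_map]
    conv_rhs => rw [← h1, Subgroup.map_map]
    congr 1
  have hco := IsPreprimitive.isCoatom_stabilizer_of_isPreprimitive (G := G) a
  have htop : Subgroup.normalizer (P' : Set G) ≠ ⊤ := by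
    intro htop
    have hn : P'.Normal := Subgroup.normalizer_eq_top_iff.1 htop
    have hn2 : (P : Subgroup ↥T).Normal := by
      refine ⟨fun y hy t => ?_⟩
      have h1 : (y : G) ∈ P' := ⟨y, hy, rfl⟩
      obtain ⟨z, hz, hz2⟩ := hn.conj_mem _ h1 (t : G)
      have h3 : z = t * y * t⁻¹ := Subtype.ext hz2
      rwa [← h3]
    have := A.simple
    rcases hn2.eq_bot_or_eq_top with h | h
    · rw [h] at hxP
      exact hx1 (Subgroup.mem_bot.1 hxP)
    · -- `T` is a `p`-group
      have h1 : IsPGroup p ↥T := by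
        have h2 := P.2
        rw [show P.toSubgroup = ⊤ from h] at h2
        exact h2.of_equiv Subgroup.topEquiv
      have h2 : Nontrivial (Subgroup.center ↥T) := h1.center_nontrivial
      have h3 : (Subgroup.center ↥T).Normal := inferInstance
      rcases h3.eq_bot_or_eq_top with h | h
      · rw [h] at h2
        exact (not_nontrivial _ h2)
      · apply A.nonab
        refine ⟨⟨fun s t => ?_⟩⟩
        have : t ∈ Subgroup.center ↥T := by rw [h]; trivial
        exact Subgroup.mem_center_iff.1 this s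
  have heq : Subgroup.normalizer (P' : Set G) = stabilizer G a := by
    rcases hco.le_iff.1 hle with h | h
    · exact absurd h htop
    · exact h
  have h1 : stabilizer ↥T a = Subgroup.normalizer ((P : Subgroup ↥T) : Set ↥T) := by
    refine le_antisymm hP ?_
    intro t ht
    rw [mem_stabilizer_iff]
    have h2 : (t : G) ∈ Subgroup.normalizer (P' : Set G) := by
      rw [Subgroup.mem_normalizer_iff_map_conj_eq] at ht ⊢
      rw [hP', Subgroup.map_map]
      conv_rhs => rw [← ht, Subgroup.map_map]
      congr 1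
    rw [heq] at h2
    exact h2
  rw [← h1, index_stab A a]

/-- The same for a group isomorphic to `T`. -/
theorem index_eq_of_ti' (A : AS G Ω T) {T₀ : Type*} [Group T₀] (e : ↥T ≃* T₀) (a : Ω) {p : ℕ} [Fact p.Prime]
    (hTI : ∀ (P Q : Sylow p T₀) (x : T₀), x ≠ 1 → x ∈ (P : Subgroup T₀) → x ∈ (Q : Subgroup T₀) → P = Q)
    (P : Sylow p T₀) (hP : (stabilizer ↥T a).map e.toMonoidHom ≤ Subgroup.normalizer ((P : Subgroup T₀) : Set T₀))
    (hp : p ∣ Nat.card (stabilizer ↥T a)) :
    Nat.card Ω = (Subgroup.normalizer ((P : Subgroup T₀) : Set T₀)).index := by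
  have := A.finG
  have : Finite T₀ := Finite.of_equiv _ e.toEquiv
  have hs : Function.Surjective e.symm.toMonoidHom := e.symm.surjective
  have hs' : Function.Surjective e.toMonoidHom := e.surjective
  have hmm : ∀ R : Subgroup T₀, (R.map e.symm.toMonoidHom).map e.toMonoidHom = R := by
    intro R
    rw [Subgroup.map_map]
    convert Subgroup.map_id R
    ext x
    exact e.apply_symm_apply x
  have hmm' : ∀ R : Subgroup ↥T, (R.map e.toMonoidHom).map e.symm.toMonoidHom = R := by
    intro R
    rw [Subgroup.map_map]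
    convert Subgroup.map_id R
    ext x
    exact congrArg Subtype.val (e.symm_apply_apply x)
  have h1 := index_eq_of_ti A a (p := p) ?_ (P.mapSurjective hs) ?_ hp
  · rw [h1]
    have h2 : Subgroup.normalizer (((P.mapSurjective hs : Sylow p ↥T) : Subgroup ↥T) : Set ↥T) =
        (Subgroup.normalizer ((P : Subgroup T₀) : Set T₀)).map e.symm.toMonoidHom := by
      rw [Subgroup.map_equiv_normalizer_eq]
      rfl
    rw [h2]
    exact Subgroup.index_map_of_bijective e.symm.bijective _
  · intro P1 P2 x hx h1 h2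
    have h3 := hTI (P1.mapSurjective hs') (P2.mapSurjective hs') (e x) (by simpa using hx) ⟨x, h1, rfl⟩ ⟨x, h2, rfl⟩
    apply Sylow.ext
    have h4 := congrArg (fun R : Sylow p T₀ => (R : Subgroup T₀).map e.symm.toMonoidHom) h3
    simp only [Sylow.coe_mapSurjective] at h4
    rwa [hmm', hmm'] at h4
  · have h2 := Subgroup.map_mono (f := e.symm.toMonoidHom) hP
    rw [hmm', Subgroup.map_equiv_normalizer_eq] at h2
    exact h2

/-- the automorphism groups of isomorphic groups have the same order -/
theorem card_mulAut_congr {X Y : Type*} [Group X] [Group Y] (e : X ≃* Y) :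
    Nat.card (MulAut X) = Nat.card (MulAut Y) := Nat.card_congr (MulAut.congr e).toEquiv

/-- A Sylow `p`-subgroup of a subgroup of `N(P)` is normal, `P` a Sylow `p`-subgroup. -/
theorem sylow_normal_of_le {X : Type*} [Group X] [Finite X] {p : ℕ} [Fact p.Prime] (P : Sylow p X) {K : Subgroup X}
    (hK : K ≤ Subgroup.normalizer ((P : Subgroup X) : Set X)) (Q : Sylow p ↥K) : (Q : Subgroup ↥K).Normal := by
  have h1 : (Q : Subgroup ↥K) ≤ (P : Subgroup X).subgroupOf K := by
    have h2 : IsPGroup p ((Q : Subgroup ↥K).map K.subtype) := Q.2.map _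
    have h3 := h2.inf_normalizer_sylow P
    intro x hx
    rw [Subgroup.mem_subgroupOf]
    have h4 : (x : X) ∈ (Q : Subgroup ↥K).map K.subtype ⊓ Subgroup.normalizer ((P : Subgroup X) : Set X) :=
      ⟨⟨x, hx, rfl⟩, hK x.2⟩
    exact (h3.le h4).2
  have h2 : IsPGroup p ((P : Subgroup X).subgroupOf K) := P.2.comap_subtype
  have h3 := Q.3 h2 h1
  rw [show Q.toSubgroup = _ from h3.symm]
  exact Subgroup.normal_subgroupOf_of_le_normalizer hK

end Cfsg.Agent.H436.TT
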