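import Cfsg.Agent.H436.Names
import Cfsg.Agent.H436.Ppd

/-!
# Known simple groups whose order has at most four prime divisors (helper436)

`k_four` : a name `g` in range with the order `c` having at most four prime divisors is `psl 2 q`, `sz q` or is in
the explicit finite list `KFL`.
-/

set_option autoImplicit false

namespace Cfsg.Agent.H436

open Cfsg Cfsg.Agent.OrdDiv

/-! ### lower bounds for the number of prime divisors of explicit numbers -/

/-- small primes -/
def smallPrimes : List ℕ := [2, 3, 5, 7, 11, 13, 17, 19, 23, 29, 31, 37, 41, 43, 61, 73, 307]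

theorem smallPrimes_prime : ∀ p ∈ smallPrimes, p.Prime := by
  intro p hp
  simp only [smallPrimes, List.mem_cons, List.not_mem_nil, or_false] at hp
  rcases hp with rfl | rfl | rfl | rfl | rfl | rfl | rfl | rfl | rfl | rfl | rfl | rfl | rfl | rfl | rfl | rfl |
    rfl <;> norm_num

theorem smallPrimes_nodup : smallPrimes.Nodup := by decide

/-- number of small primes dividing `n` -/
def np (n : ℕ) : ℕ := (smallPrimes.filter fun p => n % p == 0).length

theorem np_le {n : ℕ} (hn : n ≠ 0) : np n ≤ n.primeFactors.card := by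
  unfold np
  rw [← List.toFinset_card_of_nodup (smallPrimes_nodup.filter _)]
  apply Finset.card_le_card
  intro x hx
  rw [List.mem_toFinset, List.mem_filter] at hx
  exact Nat.mem_primeFactors.2 ⟨smallPrimes_prime x hx.1, Nat.dvd_of_mod_eq_zero (by simpa using hx.2), hn⟩

theorem np_le_of_dvd {m n : ℕ} (hn : n ≠ 0) (h : m ∣ n) : np m ≤ n.primeFactors.card := by
  have hm : m ≠ 0 := by rintro rfl; exact hn (Nat.zero_dvd.1 h)
  exact (np_le hm).trans (Finset.card_le_card (Nat.primeFactors_mono h hn))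

/-! ### divisibility of the order -/

variable {q c g N : ℕ}

theorem mq_dvd {P X B : ℕ} (h : g * c = P * X) (hg : 0 < g) (hP : q ∣ P) (hX : (q ^ 2 - 1) * B ∣ X) (hB : g ∣ B) :
    q * (q ^ 2 - 1) ∣ c := by
  obtain ⟨k, rfl⟩ := hP
  obtain ⟨R, rfl⟩ := hX
  obtain ⟨b, rfl⟩ := hB
  refine ⟨k * b * R, ?_⟩
  apply Nat.eq_of_mul_eq_mul_left hg
  rw [h]
  ring

theorem prod_dvd_list (f : ℕ → ℕ) {n : ℕ} (s : Finset ℕ) (hs : ∀ i ∈ s, i < n) :
    ∏ i ∈ s, f i ∣ ((List.range n).map f).prod := by
  rw [prod_list]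
  exact Finset.prod_dvd_prod_of_subset _ _ _ fun i hi => Finset.mem_range.2 (hs i hi)

theorem dvd_list (f : ℕ → ℕ) {n i : ℕ} (hi : i < n) : f i ∣ ((List.range n).map f).prod := by
  have := prod_dvd_list f (n := n) {i} (by simpa using hi)
  simpa using this

theorem two_dvd_list (f : ℕ → ℕ) {n i j : ℕ} (hi : i < n) (hj : j < n) (hij : i ≠ j) :
    f i * f j ∣ ((List.range n).map f).prod := by
  have := prod_dvd_list f (n := n) {i, j} (by intro x hx; simp only [Finset.mem_insert, Finset.mem_singleton] at hx; omega)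
  rwa [Finset.prod_pair hij] at this

theorem three_dvd_list (f : ℕ → ℕ) {n i j k : ℕ} (hi : i < n) (hj : j < n) (hk : k < n) (hij : i ≠ j) (hik : i ≠ k)
    (hjk : j ≠ k) : f i * (f j * f k) ∣ ((List.range n).map f).prod := by
  have := prod_dvd_list f (n := n) {i, j, k}
    (by intro x hx; simp only [Finset.mem_insert, Finset.mem_singleton] at hx; omega)
  rwa [Finset.prod_insert (by simp [hij, hik]), Finset.prod_pair hjk] at this

theorem sub_dvd_pow_sub (q n : ℕ) : q - 1 ∣ q ^ n - 1 := by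
  have := Nat.sub_dvd_pow_sub_pow q 1 n
  rwa [one_pow] at this

theorem add_dvd_pow_add {n : ℕ} (q : ℕ) (hn : Odd n) : q + 1 ∣ q ^ n + 1 := by
  have := hn.nat_add_dvd_pow_add_pow q 1
  rwa [one_pow] at this

theorem pow_sub_pow {n i j : ℕ} (q : ℕ) (h : n = i + j) : q ^ n - q ^ i = q ^ i * (q ^ j - 1) := by
  rw [h, pow_add, Nat.mul_sub, mul_one]

theorem sq_sub (q : ℕ) : q ^ 2 - 1 = (q + 1) * (q - 1) := by
  have := Nat.sq_sub_sq q 1
  rw [one_pow] at this
  exact this

theorem Prim.dvd_of_eq {e r d n : ℕ} (h : Prim q e r) (he : d * c = n) (hn : r ∣ n) (hd : ¬ r ∣ d) : r ∣ c := by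
  rw [← he] at hn
  exact (h.prime.dvd_mul.1 hn).resolve_left hd

theorem Prim.not_dvd_gcd_sub {e r k : ℕ} (h : Prim q e r) (he : 3 ≤ e) : ¬ r ∣ Nat.gcd k (q - 1) := by
  intro hd
  have h1 : r ∣ q ^ 1 - 1 := by rw [pow_one]; exact hd.trans (Nat.gcd_dvd_right _ _)
  have := Nat.le_of_dvd one_pos ((h.dvd_iff 1).1 h1)
  omega

theorem Prim.not_dvd_qsub {e r : ℕ} (h : Prim q e r) (he : 3 ≤ e) : ¬ r ∣ q - 1 := by
  intro hd
  have h1 : r ∣ q ^ 1 - 1 := by rwa [pow_one]
  have := Nat.le_of_dvd one_pos ((h.dvd_iff 1).1 h1)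
  omega

theorem Prim.not_dvd_qadd {e r : ℕ} (h : Prim q e r) (he : 3 ≤ e) : ¬ r ∣ q + 1 := by
  intro hd
  refine h.not_dvd_add (m := 1) ?_ (by rwa [pow_one])
  intro h1
  have := Nat.le_of_dvd (by norm_num) h1
  omega

theorem Prim.not_dvd_gcd_add {e r k : ℕ} (h : Prim q e r) (he : 3 ≤ e) : ¬ r ∣ Nat.gcd k (q + 1) :=
  fun hd => h.not_dvd_qadd he (hd.trans (Nat.gcd_dvd_right _ _))

theorem Prim.not_dvd_two {e r : ℕ} (h : Prim q e r) (he : 3 ≤ e) : ¬ r ∣ 2 := by
  intro hd
  have := (Nat.prime_dvd_prime_iff_eq h.prime Nat.prime_two).1 hd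
  have := h.odd (by omega)
  omega

theorem Prim.not_dvd_gcd_four {e r k : ℕ} (h : Prim q e r) (he : 3 ≤ e) : ¬ r ∣ Nat.gcd 4 k := by
  intro hd
  have h1 : r ∣ 2 ^ 2 := hd.trans (Nat.gcd_dvd_left _ _)
  exact h.not_dvd_two he (h.prime.dvd_of_dvd_pow h1)

/-! ### the families: `q (q² - 1)` divides the order, primitive primes divide the order -/

theorem psl_prim {n e r : ℕ} (hen : e ≤ n) (he : 3 ≤ e) (h : den (.psl n q) * c = num (.psl n q))
    (hr : Prim q e r) : r ∣ c := by
  refine hr.dvd_of_eq h ?_ ?_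
  · change r ∣ glN n q
    have h1 := dvd_list (fun i => q ^ n - q ^ i) (n := n) (i := n - e) (by omega)
    refine Dvd.dvd.trans ?_ h1
    rw [pow_sub_pow q (show n = (n - e) + e by omega)]
    exact (hr.dvd dvd_rfl).mul_left _
  · change ¬ r ∣ Nat.gcd n (q - 1) * (q - 1)
    intro hd
    rcases hr.prime.dvd_mul.1 hd with h1 | h1
    · exact hr.not_dvd_gcd_sub he h1
    · exact hr.not_dvd_qsub he h1

theorem psl_mq {n : ℕ} (hn : 3 ≤ n) (hq : 2 ≤ q) (h : den (.psl n q) * c = num (.psl n q)) :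
    q * (q ^ 2 - 1) ∣ c := by
  have h1 : Nat.gcd n (q - 1) * (q - 1) * c = glN n q := h
  obtain ⟨R, hR⟩ := three_dvd_list (fun i => q ^ n - q ^ i) (n := n) (i := n - 1) (j := n - 2) (k := n - 3)
    (by omega) (by omega) (by omega) (by omega) (by omega) (by omega)
  have h2 : glN n q = (q ^ n - q ^ (n - 1)) * ((q ^ n - q ^ (n - 2)) * (q ^ n - q ^ (n - 3))) * R := hR
  rw [pow_sub_pow q (show n = (n - 1) + 1 by omega), pow_sub_pow q (show n = (n - 2) + 2 by omega),
    pow_sub_pow q (show n = (n - 3) + 3 by omega), pow_one] at h2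
  rw [h2] at h1
  have h3 : Nat.gcd n (q - 1) * c = q ^ (n - 1) * ((q ^ 2 - 1) * (q ^ 3 - 1) * (q ^ (n - 2) * q ^ (n - 3) * R)) := by
    apply Nat.eq_of_mul_eq_mul_left (show 0 < q - 1 by omega)
    calc (q - 1) * (Nat.gcd n (q - 1) * c) = Nat.gcd n (q - 1) * (q - 1) * c := by ring
      _ = _ := h1
      _ = _ := by ring
  exact mq_dvd h3 (Nat.gcd_pos_of_pos_left _ (by omega)) (dvd_pow_self q (by omega)) (Dvd.intro _ rfl)
    ((Nat.gcd_dvd_right _ _).trans (sub_dvd_pow_sub q 3))

theorem prB_dvd {m i : ℕ} (hi : i < m) : q ^ (2 * (i + 1)) - 1 ∣ prB q m :=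
  dvd_list (fun i => q ^ (2 * (i + 1)) - 1) hi

theorem prB_two {m : ℕ} (hm : 2 ≤ m) : (q ^ 2 - 1) * (q ^ 4 - 1) ∣ prB q m :=
  two_dvd_list (fun i => q ^ (2 * (i + 1)) - 1) (i := 0) (j := 1) (by omega) (by omega) (by omega)

theorem Prim.dvd_prB {m e r : ℕ} (h : Prim q e r) (k : ℕ) (hk : 1 ≤ k) (hkm : k ≤ m) (he : e ∣ 2 * k) :
    r ∣ prB q m := by
  have := prB_dvd (q := q) (m := m) (i := k - 1) (by omega)
  rw [Nat.sub_add_cancel hk] at this
  exact (h.dvd he).trans this

theorem psp_prim {m e r : ℕ} (k : ℕ) (hk : 1 ≤ k) (hkm : k ≤ m) (hek : e ∣ 2 * k) (he : 3 ≤ e)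
    (h : den (.psp m q) * c = num (.psp m q)) (hr : Prim q e r) : r ∣ c := by
  refine hr.dvd_of_eq h ?_ (hr.not_dvd_gcd_sub he)
  change r ∣ q ^ (m ^ 2) * prB q m
  exact (hr.dvd_prB k hk hkm hek).mul_left _

theorem psp_mq {m : ℕ} (hm : 2 ≤ m) (h : den (.psp m q) * c = num (.psp m q)) :
    q * (q ^ 2 - 1) ∣ c := by
  have h1 : Nat.gcd 2 (q - 1) * c = q ^ (m ^ 2) * prB q m := h
  exact mq_dvd h1 (Nat.gcd_pos_of_pos_left _ (by norm_num)) (dvd_pow_self q (by positivity)) (prB_two hm)
    ((Nat.gcd_dvd_right _ _).trans (sub_dvd_pow_sub q 4))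

theorem oodd_prim {m e r : ℕ} (k : ℕ) (hk : 1 ≤ k) (hkm : k ≤ m) (hek : e ∣ 2 * k) (he : 3 ≤ e)
    (h : den (.oodd m q) * c = num (.oodd m q)) (hr : Prim q e r) : r ∣ c := by
  refine hr.dvd_of_eq h ?_ (hr.not_dvd_two he)
  change r ∣ q ^ (m ^ 2) * prB q m
  exact (hr.dvd_prB k hk hkm hek).mul_left _

theorem oodd_mq {m : ℕ} (hm : 2 ≤ m) (hq : Odd q) (h : den (.oodd m q) * c = num (.oodd m q)) :
    q * (q ^ 2 - 1) ∣ c := by
  have h1 : 2 * c = q ^ (m ^ 2) * prB q m := h
  refine mq_dvd h1 (by norm_num) (dvd_pow_self q (by positivity)) (prB_two hm) ?_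
  exact (even_iff_two_dvd.1 (Nat.Odd.sub_odd hq odd_one)).trans (sub_dvd_pow_sub q 4)

theorem oplus_prim {m e r : ℕ} (k : ℕ) (hk : 1 ≤ k) (hkm : k ≤ m - 1) (hek : e ∣ 2 * k) (he : 3 ≤ e)
    (h : den (.oplus m q) * c = num (.oplus m q)) (hr : Prim q e r) : r ∣ c := by
  refine hr.dvd_of_eq h ?_ (hr.not_dvd_gcd_four he)
  change r ∣ q ^ (m * (m - 1)) * ((q ^ m - 1) * prB q (m - 1))
  exact ((hr.dvd_prB k hk hkm hek).mul_left _).mul_left _

theorem oplus_mq {m : ℕ} (hm : 4 ≤ m) (h : den (.oplus m q) * c = num (.oplus m q)) :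
    q * (q ^ 2 - 1) ∣ c := by
  have h1 : Nat.gcd 4 (q ^ m - 1) * c = q ^ (m * (m - 1)) * ((q ^ m - 1) * prB q (m - 1)) := h
  refine mq_dvd h1 (Nat.gcd_pos_of_pos_left _ (by norm_num))
    (dvd_pow_self q (Nat.mul_ne_zero (by omega) (by omega))) ?_ (Nat.gcd_dvd_right _ _)
  rw [mul_comm]
  exact Nat.mul_dvd_mul_left _ ((Dvd.intro _ rfl).trans (prB_two (q := q) (m := m - 1) (by omega)))

theorem ominus_prim {m e r : ℕ} (k : ℕ) (hk : 1 ≤ k) (hkm : k ≤ m - 1) (hek : e ∣ 2 * k) (he : 3 ≤ e)
    (h : den (.ominus m q) * c = num (.ominus m q)) (hr : Prim q e r) : r ∣ c := by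
  refine hr.dvd_of_eq h ?_ (hr.not_dvd_gcd_four he)
  change r ∣ q ^ (m * (m - 1)) * ((q ^ m + 1) * prB q (m - 1))
  exact ((hr.dvd_prB k hk hkm hek).mul_left _).mul_left _

theorem ominus_prim' {m r : ℕ} (hm : 4 ≤ m)
    (h : den (.ominus m q) * c = num (.ominus m q)) (hr : Prim q (2 * m) r) : r ∣ c := by
  refine hr.dvd_of_eq h ?_ (hr.not_dvd_gcd_four (by omega))
  change r ∣ q ^ (m * (m - 1)) * ((q ^ m + 1) * prB q (m - 1))
  refine ((hr.dvd_add dvd_rfl ?_).mul_right _).mul_left _
  intro hd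
  have := Nat.le_of_dvd (by omega) hd
  omega

theorem ominus_mq {m : ℕ} (hm : 4 ≤ m) (h : den (.ominus m q) * c = num (.ominus m q)) :
    q * (q ^ 2 - 1) ∣ c := by
  have h1 : Nat.gcd 4 (q ^ m + 1) * c = q ^ (m * (m - 1)) * ((q ^ m + 1) * prB q (m - 1)) := h
  refine mq_dvd h1 (Nat.gcd_pos_of_pos_left _ (by norm_num))
    (dvd_pow_self q (Nat.mul_ne_zero (by omega) (by omega))) ?_ (Nat.gcd_dvd_right _ _)
  rw [mul_comm]
  exact Nat.mul_dvd_mul_left _ ((Dvd.intro _ rfl).trans (prB_two (q := q) (m := m - 1) (by omega)))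

/-- the factors of the unitary order -/
def fU (q i : ℕ) : ℕ := if Nat.beq (i % 2) 0 then q ^ (i + 1) + 1 else q ^ (i + 1) - 1

theorem psu_prim_aux {n e r i : ℕ} (hi : i < n) (he : 3 ≤ e) (h : den (.psu n q) * c = num (.psu n q))
    (hr : Prim q e r) (hri : r ∣ fU q i) : r ∣ c := by
  refine hr.dvd_of_eq h ?_ ?_
  · change r ∣ q ^ (n * (n - 1) / 2) * prU q n
    exact (hri.trans (dvd_list (fU q) hi)).mul_left _
  · change ¬ r ∣ Nat.gcd n (q + 1) * (q + 1)
    intro hd
    rcases hr.prime.dvd_mul.1 hd with h1 | h1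
    · exact hr.not_dvd_gcd_add he h1
    · exact hr.not_dvd_qadd he h1

theorem psu_mq {n : ℕ} (hn : 3 ≤ n) (h : den (.psu n q) * c = num (.psu n q)) :
    q * (q ^ 2 - 1) ∣ c := by
  have h1 : Nat.gcd n (q + 1) * (q + 1) * c = q ^ (n * (n - 1) / 2) * prU q n := h
  obtain ⟨R, hR⟩ := three_dvd_list (fU q) (n := n) (i := 0) (j := 1) (k := 2)
    (by omega) (by omega) (by omega) (by omega) (by omega) (by omega)
  have h2 : prU q n = (q ^ 1 + 1) * ((q ^ 2 - 1) * (q ^ 3 + 1)) * R := hR
  rw [h2, pow_one] at h1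
  have h3 : Nat.gcd n (q + 1) * c = q ^ (n * (n - 1) / 2) * ((q ^ 2 - 1) * (q ^ 3 + 1) * R) := by
    apply Nat.eq_of_mul_eq_mul_left (show 0 < q + 1 by omega)
    calc (q + 1) * (Nat.gcd n (q + 1) * c) = Nat.gcd n (q + 1) * (q + 1) * c := by ring
      _ = _ := h1
      _ = _ := by ring
  have h4 : n * (n - 1) / 2 ≠ 0 := by
    have : 2 ≤ n * (n - 1) := by nlinarith [show 2 ≤ n - 1 by omega]
    omega
  exact mq_dvd h3 (Nat.gcd_pos_of_pos_left _ (by omega)) (dvd_pow_self q h4) (Dvd.intro _ rfl)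
    ((Nat.gcd_dvd_right _ _).trans (add_dvd_pow_add q (by decide)))

/-! ### the list -/

/-- superset of the known simple groups with at most four prime divisors, different from `L₂(q)`, `Sz(q)` -/
def KFL : List Grp :=
  [.alt 5, .alt 6, .alt 7, .alt 8, .alt 9, .alt 10,
    .psl 3 2, .psl 3 3, .psl 3 4, .psl 3 5, .psl 3 7, .psl 3 8, .psl 3 9, .psl 3 17, .psl 4 2, .psl 4 3,
    .psp 2 3, .psp 2 4, .psp 2 5, .psp 2 7, .psp 2 8, .psp 2 9, .psp 2 17, .psp 3 2,
    .psu 3 3, .psu 3 4, .psu 3 5, .psu 3 7, .psu 3 8, .psu 3 9, .psu 3 17, .psu 4 2, .psu 4 3, .psu 5 2,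
    .oplus 4 2, .g2 3, .td4 2, .tits, .m11, .m12, .j2]

theorem three_le_card {q : ℕ} (hq : IsPrimePow q) (h4 : 4 ≤ q) : 3 ≤ (q * (q ^ 2 - 1)).primeFactors.card := by
  by_contra hlt
  push Not at hlt
  have h := lTwo_three hq (by omega)
  have key : ∀ n, 4 ≤ n → 3 ≤ np (n * (n ^ 2 - 1)) → 3 ≤ (n * (n ^ 2 - 1)).primeFactors.card := fun n hn h1 =>
    h1.trans (np_le (mq_ne_zero (by omega)))
  rcases h with rfl | rfl | rfl | rfl | rfl | rfl | rfl | rfl
  · omega
  · omega
  · exact absurd (key 4 (by norm_num) (by decide)) (by omega)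
  · exact absurd (key 5 (by norm_num) (by decide)) (by omega)
  · exact absurd (key 7 (by norm_num) (by decide)) (by omega)
  · exact absurd (key 8 (by norm_num) (by decide)) (by omega)
  · exact absurd (key 9 (by norm_num) (by decide)) (by omega)
  · exact absurd (key 17 (by norm_num) (by decide)) (by omega)

theorem eq_of_card_two {q : ℕ} (hq : IsPrimePow q) (h : (q * (q ^ 2 - 1)).primeFactors.card ≤ 2) : q = 2 ∨ q = 3 := by
  have h2 := hq.two_le
  by_contra hne
  have := three_le_card hq (by omega)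
  omega

theorem spor_five : ∀ x ∈ spor, x.1 ∈ KFL ∨ 5 ≤ np x.2 := by decide

/-- the families -/
theorem fam_le {q c : ℕ} (hq : 2 ≤ q) (hc : c ≠ 0) (h1 : q * (q ^ 2 - 1) ∣ c) (h4 : c.primeFactors.card ≤ 4)
    (E : Finset ℕ) (hE : ∀ e ∈ E, 3 ≤ e ∧ ¬ (q = 2 ∧ e = 6)) (hd : ∀ e ∈ E, ∀ r, Prim q e r → r ∣ c) :
    (q * (q ^ 2 - 1)).primeFactors.card + E.card ≤ 4 :=
  (card_add_le hq hc h1 E hE hd).trans h4

theorem psl_four {n q c : ℕ} (hg : Cond (.psl n q)) (he : den (.psl n q) * c = num (.psl n q)) (hc : c ≠ 0)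
    (h4 : c.primeFactors.card ≤ 4) : n = 2 ∨ Grp.psl n q ∈ KFL := by
  obtain ⟨hn, -, hq⟩ := hg
  have hq2 := hq.two_le
  rcases Nat.lt_or_ge n 3 with h3 | h3
  · exact Or.inl (by omega)
  right
  have hm := psl_mq h3 hq2 he
  have key := fam_le hq2 hc hm h4
  have h2 := two_le_card hq2
  rcases Nat.lt_or_ge n 5 with h5 | h5
  · rcases Nat.lt_or_ge n 4 with h6 | h6
    · obtain rfl : n = 3 := by omega
      have := key {3} (by simp) (by simp only [Finset.mem_singleton, forall_eq]
                                    exact fun r hr => psl_prim le_rfl le_rfl he hr)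
      rw [Finset.card_singleton] at this
      rcases lTwo_three hq (by omega) with rfl | rfl | rfl | rfl | rfl | rfl | rfl | rfl <;> decide
    · obtain rfl : n = 4 := by omega
      have := key {3, 4} (by simp) (by
        simp only [Finset.mem_insert, Finset.mem_singleton, forall_eq_or_imp, forall_eq]
        exact ⟨fun r hr => psl_prim (by norm_num) (by norm_num) he hr,
          fun r hr => psl_prim (by norm_num) (by norm_num) he hr⟩)
      rw [Finset.card_pair (by norm_num)] at this
      rcases eq_of_card_two hq (by omega) with rfl | rfl <;> decide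
  · exfalso
    have := key {3, 4, 5} (by simp) (by
        simp only [Finset.mem_insert, Finset.mem_singleton, forall_eq_or_imp, forall_eq]
        exact ⟨fun r hr => psl_prim (by omega) (by norm_num) he hr,
          fun r hr => psl_prim (by omega) (by norm_num) he hr,
          fun r hr => psl_prim (by omega) (by norm_num) he hr⟩)
    rw [show ({3, 4, 5} : Finset ℕ).card = 3 by decide] at this
    omega

theorem psp_four {n q c : ℕ} (hg : Cond (.psp n q)) (he : den (.psp n q) * c = num (.psp n q)) (hc : c ≠ 0)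
    (h4 : c.primeFactors.card ≤ 4) : Grp.psp n q ∈ KFL := by
  obtain ⟨hn, hn2, hq⟩ := hg
  have hq2 := hq.two_le
  have hm := psp_mq hn he
  have key := fam_le hq2 hc hm h4
  have h2 := two_le_card hq2
  rcases Nat.lt_or_ge n 4 with h5 | h5
  · rcases Nat.lt_or_ge n 3 with h6 | h6
    · obtain rfl : n = 2 := by omega
      have := key {4} (by simp) (by
        simp only [Finset.mem_singleton, forall_eq]
        exact fun r hr => psp_prim 2 (by norm_num) (by norm_num) (by norm_num) (by norm_num) he hr)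
      rw [Finset.card_singleton] at this
      have h3 := hn2 rfl
      rcases lTwo_three hq (by omega) with rfl | rfl | rfl | rfl | rfl | rfl | rfl | rfl
      · omega
      all_goals decide
    · obtain rfl : n = 3 := by omega
      by_cases hq' : q = 2
      · subst hq'; decide
      exfalso
      have := key {3, 4, 6} (by simp [hq']) (by
        simp only [Finset.mem_insert, Finset.mem_singleton, forall_eq_or_imp, forall_eq]
        exact ⟨fun r hr => psp_prim 3 (by norm_num) (by norm_num) (by norm_num) (by norm_num) he hr,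
          fun r hr => psp_prim 2 (by norm_num) (by norm_num) (by norm_num) (by norm_num) he hr,
          fun r hr => psp_prim 3 (by norm_num) (by norm_num) (by norm_num) (by norm_num) he hr⟩)
      rw [show ({3, 4, 6} : Finset ℕ).card = 3 by decide] at this
      omega
  · exfalso
    have := key {3, 4, 8} (by simp) (by
        simp only [Finset.mem_insert, Finset.mem_singleton, forall_eq_or_imp, forall_eq]
        exact ⟨fun r hr => psp_prim 3 (by norm_num) (by omega) (by norm_num) (by norm_num) he hr,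
          fun r hr => psp_prim 2 (by norm_num) (by omega) (by norm_num) (by norm_num) he hr,
          fun r hr => psp_prim 4 (by norm_num) (by omega) (by norm_num) (by norm_num) he hr⟩)
    rw [show ({3, 4, 8} : Finset ℕ).card = 3 by decide] at this
    omega

theorem oodd_four {n q c : ℕ} (hg : Cond (.oodd n q)) (he : den (.oodd n q) * c = num (.oodd n q)) (hc : c ≠ 0)
    (h4 : c.primeFactors.card ≤ 4) : False := by
  obtain ⟨hn, ho, hq⟩ := hg
  have hq2 := hq.two_le
  have hq' : q ≠ 2 := by rintro rfl; exact absurd ho (by decide)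
  have hm := oodd_mq (by omega) ho he
  have key := fam_le hq2 hc hm h4
  have h2 := two_le_card hq2
  have := key {3, 4, 6} (by simp [hq']) (by
    simp only [Finset.mem_insert, Finset.mem_singleton, forall_eq_or_imp, forall_eq]
    exact ⟨fun r hr => oodd_prim 3 (by norm_num) (by omega) (by norm_num) (by norm_num) he hr,
      fun r hr => oodd_prim 2 (by norm_num) (by omega) (by norm_num) (by norm_num) he hr,
      fun r hr => oodd_prim 3 (by norm_num) (by omega) (by norm_num) (by norm_num) he hr⟩)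
  rw [show ({3, 4, 6} : Finset ℕ).card = 3 by decide] at this
  omega

theorem oplus_four {n q c : ℕ} (hg : Cond (.oplus n q)) (he : den (.oplus n q) * c = num (.oplus n q)) (hc : c ≠ 0)
    (h4 : c.primeFactors.card ≤ 4) : Grp.oplus n q ∈ KFL := by
  obtain ⟨hn, hq⟩ := hg
  have hq2 := hq.two_le
  have hm := oplus_mq hn he
  have key := fam_le hq2 hc hm h4
  have h2 := two_le_card hq2
  by_cases hq' : q = 2
  · subst hq'
    rcases Nat.lt_or_ge n 5 with h5 | h5
    · obtain rfl : n = 4 := by omega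
      decide
    · exfalso
      have := key {3, 4, 8} (by simp) (by
        simp only [Finset.mem_insert, Finset.mem_singleton, forall_eq_or_imp, forall_eq]
        exact ⟨fun r hr => oplus_prim 3 (by norm_num) (by omega) (by norm_num) (by norm_num) he hr,
          fun r hr => oplus_prim 2 (by norm_num) (by omega) (by norm_num) (by norm_num) he hr,
          fun r hr => oplus_prim 4 (by norm_num) (by omega) (by norm_num) (by norm_num) he hr⟩)
      rw [show ({3, 4, 8} : Finset ℕ).card = 3 by decide] at this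
      omega
  · exfalso
    have := key {3, 4, 6} (by simp [hq']) (by
      simp only [Finset.mem_insert, Finset.mem_singleton, forall_eq_or_imp, forall_eq]
      exact ⟨fun r hr => oplus_prim 3 (by norm_num) (by omega) (by norm_num) (by norm_num) he hr,
        fun r hr => oplus_prim 2 (by norm_num) (by omega) (by norm_num) (by norm_num) he hr,
        fun r hr => oplus_prim 3 (by norm_num) (by omega) (by norm_num) (by norm_num) he hr⟩)
    rw [show ({3, 4, 6} : Finset ℕ).card = 3 by decide] at this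
    omega

theorem ominus_four {n q c : ℕ} (hg : Cond (.ominus n q)) (he : den (.ominus n q) * c = num (.ominus n q))
    (hc : c ≠ 0) (h4 : c.primeFactors.card ≤ 4) : False := by
  obtain ⟨hn, hq⟩ := hg
  have hq2 := hq.two_le
  have hm := ominus_mq hn he
  have key := fam_le hq2 hc hm h4
  have h2 := two_le_card hq2
  have := key {3, 4, 2 * n} (by simp; omega) (by
    simp only [Finset.mem_insert, Finset.mem_singleton, forall_eq_or_imp, forall_eq]
    exact ⟨fun r hr => ominus_prim 3 (by norm_num) (by omega) (by norm_num) (by norm_num) he hr,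
      fun r hr => ominus_prim 2 (by norm_num) (by omega) (by norm_num) (by norm_num) he hr,
      fun r hr => ominus_prim' hn he hr⟩)
  rw [Finset.card_insert_of_notMem (by simp; omega), Finset.card_pair (by omega)] at this
  omega

theorem fU_three : fU q 2 = q ^ 3 + 1 := rfl
theorem fU_four : fU q 3 = q ^ 4 - 1 := rfl
theorem fU_five : fU q 4 = q ^ 5 + 1 := rfl
theorem fU_six : fU q 5 = q ^ 6 - 1 := rfl

theorem psu_four {n q c : ℕ} (hg : Cond (.psu n q)) (he : den (.psu n q) * c = num (.psu n q)) (hc : c ≠ 0)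
    (h4 : c.primeFactors.card ≤ 4) : Grp.psu n q ∈ KFL := by
  obtain ⟨hn, hn2, hq⟩ := hg
  have hq2 := hq.two_le
  have hm := psu_mq hn he
  have key := fam_le hq2 hc hm h4
  have h2 := two_le_card hq2
  have p6 : ∀ r, Prim q 6 r → r ∣ c := fun r hr => psu_prim_aux (i := 2) (by omega) (by norm_num) he hr
    (by rw [fU_three]; exact hr.dvd_add (by norm_num) (by norm_num))
  have p4 : 4 ≤ n → ∀ r, Prim q 4 r → r ∣ c := fun h r hr => psu_prim_aux (i := 3) (by omega) (by norm_num) he hr
    (by rw [fU_four]; exact hr.dvd dvd_rfl)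
  have p10 : 5 ≤ n → ∀ r, Prim q 10 r → r ∣ c := fun h r hr => psu_prim_aux (i := 4) (by omega) (by norm_num) he hr
    (by rw [fU_five]; exact hr.dvd_add (by norm_num) (by norm_num))
  have p3 : 6 ≤ n → ∀ r, Prim q 3 r → r ∣ c := fun h r hr => psu_prim_aux (i := 5) (by omega) (by norm_num) he hr
    (by rw [fU_six]; exact hr.dvd (by norm_num))
  rcases Nat.lt_or_ge n 6 with h6 | h6
  · by_cases hq' : q = 2
    · subst hq'
      interval_cases n
      · omega
      · decide
      · decide
    · rcases Nat.lt_or_ge n 5 with h5 | h5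
      · rcases Nat.lt_or_ge n 4 with h7 | h7
        · obtain rfl : n = 3 := by omega
          have := key {6} (by simp [hq']) (by simpa using p6)
          rw [Finset.card_singleton] at this
          rcases lTwo_three hq (by omega) with rfl | rfl | rfl | rfl | rfl | rfl | rfl | rfl
          · omega
          all_goals decide
        · obtain rfl : n = 4 := by omega
          have := key {4, 6} (by simp [hq']) (by
            simp only [Finset.mem_insert, Finset.mem_singleton, forall_eq_or_imp, forall_eq]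
            exact ⟨p4 le_rfl, p6⟩)
          rw [Finset.card_pair (by norm_num)] at this
          rcases eq_of_card_two hq (by omega) with rfl | rfl <;> decide
      · exfalso
        have := key {4, 6, 10} (by simp [hq']) (by
          simp only [Finset.mem_insert, Finset.mem_singleton, forall_eq_or_imp, forall_eq]
          exact ⟨p4 (by omega), p6, p10 h5⟩)
        rw [show ({4, 6, 10} : Finset ℕ).card = 3 by decide] at this
        omega
  · exfalso
    have := key {3, 4, 10} (by simp) (by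
      simp only [Finset.mem_insert, Finset.mem_singleton, forall_eq_or_imp, forall_eq]
      exact ⟨p3 h6, p4 (by omega), p10 (by omega)⟩)
    rw [show ({3, 4, 10} : Finset ℕ).card = 3 by decide] at this
    omega

end Cfsg.Agent.H436
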