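import Cfsg.Agent.H436.CompOne
import Cfsg.Agent.Walter.Types
import Cfsg.Agent.StdU3.EndLie
import Cfsg.Agent.SolvableStructure.HallConverse

/-!
# Simple groups with at most one composite element order (helper436)

`main` : the theorem from the classification of the simple `CIT` groups (S0348), of the simple groups of order prime
to `3`, and of the simple groups with abelian Sylow 2-subgroups.
-/

set_option autoImplicit false

namespace Cfsg.Agent.H436.CompOne

open Cfsg Cfsg.Agent.Walter.Types Cfsg.Agent.OrdDiv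

variable {G : Type*} [Group G]

theorem exists_double {t x : G} {r : ℕ} (ht : orderOf t = 2) (hx : orderOf x = r) (hr : r.Prime) (h2 : r ≠ 2)
    (hc : t * x = x * t) : ∃ y : G, orderOf y = 2 * r := by
  refine ⟨t * x, ?_⟩
  rw [Commute.orderOf_mul_eq_mul_orderOf_of_coprime (h := hc), ht, hx]
  rw [ht, hx]
  exact (Nat.coprime_primes Nat.prime_two hr).2 (Ne.symm h2)

/-- the centralisers of the involutions are 2-groups -/
theorem cit [Finite G] (h : AtMost G) (h4 : ∃ x : G, orderOf x = 4) (t : G) (ht : orderOf t = 2) :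
    IsPGroup 2 (Subgroup.centralizer ({t} : Set G)) := by
  have : Fact (Nat.Prime 2) := ⟨Nat.prime_two⟩
  refine IsPGroup.of_card (n := (Nat.card (Subgroup.centralizer ({t} : Set G))).primeFactorsList.length)
    (Nat.eq_prime_pow_of_unique_prime_dvd Nat.card_pos.ne' ?_)
  intro r hr hd
  by_contra h2
  have : Fact r.Prime := ⟨hr⟩
  obtain ⟨x, hx⟩ := exists_prime_orderOf_dvd_card' r hd
  have hxc : t * (x : G) = x * t := (Subgroup.mem_centralizer_singleton_iff.1 x.2).symm
  obtain ⟨y, hy⟩ := exists_double ht (by rw [Subgroup.orderOf_coe, hx]) hr h2 hxc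
  have hr2 := hr.two_le
  have := h.eq h4 ⟨y, hy⟩ (by norm_num) (by omega) (by norm_num) (Nat.not_prime_mul (by norm_num) hr.ne_one)
  omega

/-- without elements of order `4` the Sylow 2-subgroups are abelian -/
theorem sylow_comm [Finite G] (h4 : ¬ ∃ x : G, orderOf x = 4) (S : Sylow 2 G) :
    ∀ a ∈ (S : Subgroup G), ∀ b ∈ (S : Subgroup G), a * b = b * a := by
  have key : ∀ a ∈ (S : Subgroup G), a * a = 1 := by
    intro a ha
    obtain ⟨k, hk⟩ := S.isPGroup' ⟨a, ha⟩
    have hk' : a ^ 2 ^ k = 1 := congrArg Subtype.val hk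
    have hd : orderOf a ∣ 2 ^ k := orderOf_dvd_of_pow_eq_one hk'
    obtain ⟨j, -, hj⟩ := (Nat.dvd_prime_pow Nat.prime_two).1 hd
    rw [← pow_two, ← orderOf_dvd_iff_pow_eq_one, hj]
    by_contra hcon
    have hj2 : 2 ≤ j := by
      by_contra hlt
      apply hcon
      exact (pow_dvd_pow 2 (show j ≤ 1 by omega)).trans (by norm_num)
    exact h4 (exists_of_dvd ⟨a, hj⟩ (by positivity) (pow_dvd_pow 2 hj2 : 2 ^ 2 ∣ 2 ^ j))
  intro a ha b hb
  have h1 := key _ (mul_mem ha hb)
  have h2 := key a ha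
  have h3 := key b hb
  calc a * b = (a * b) * ((a * b) * (a * b)) * ((b * b) * (a * a)) := by rw [h1, h2, h3]; group
    _ = (a * b) * (a * b) * (a * b) * b * b * a * a := by group
    _ = b * a := by
      rw [h1, one_mul]
      have : a * b * b * b * a * a = a * b * (b * b) * (a * a) := by group
      rw [this, h3, h2, mul_one, mul_one]
      have h5 : a⁻¹ = a := inv_eq_of_mul_eq_one_right h2
      have h6 : b⁻¹ = b := inv_eq_of_mul_eq_one_right h3
      have h7 : (a * b)⁻¹ = a * b := inv_eq_of_mul_eq_one_right h1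
      rw [mul_inv_rev, h5, h6] at h7
      exact h7.symm

/-- at most two prime divisors -/
theorem three_le [Finite G] [IsSimpleGroup G] (hna : ¬ IsMulCommutative G) :
    3 ≤ (Nat.card G).primeFactors.card := by
  by_contra hlt
  have hsol := SolvableStructure.HallConverse.isSolvable_of_no_three_primes (G := G) (by omega)
  exact hna ⟨⟨IsSimpleGroup.comm_iff_isSolvable.2 hsol⟩⟩

/-- the prime divisors of the order of `L₂(q)` -/
theorem card_factors (F : Type) [Field F] [Fintype F] :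
    (Nat.card (Matrix.ProjectiveSpecialLinearGroup (Fin 2) F)).primeFactors =
      (Fintype.card F * (Fintype.card F ^ 2 - 1)).primeFactors :=
  psl_two_factors (Fintype.one_lt_card) (psl_eq (n := 2) le_rfl)

theorem four_le [Finite G] [IsSimpleGroup G] (hna : ¬ IsMulCommutative G) {F : Type} [Field F] [Fintype F]
    (e : G ≃* Matrix.ProjectiveSpecialLinearGroup (Fin 2) F) : 4 ≤ Fintype.card F := by
  by_contra hlt
  have h3 := three_le hna
  rw [Nat.card_congr e.toEquiv, card_factors] at h3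
  have h1 : 1 < Fintype.card F := Fintype.one_lt_card
  have h2 : Fintype.card F = 2 ∨ Fintype.card F = 3 := by omega
  rcases h2 with h2 | h2
  · rw [h2] at h3
    have : (2 * (2 ^ 2 - 1)).primeFactors ⊆ {2, 3} := by
      intro p hp
      have h5 := Nat.dvd_of_mem_primeFactors hp
      have h6 := Nat.prime_of_mem_primeFactors hp
      have h7 : p ∣ 2 * 3 := h5
      rcases h6.dvd_mul.1 h7 with h8 | h8
      · simp [(Nat.prime_dvd_prime_iff_eq h6 Nat.prime_two).1 h8]
      · simp [(Nat.prime_dvd_prime_iff_eq h6 Nat.prime_three).1 h8]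
    have := (Finset.card_le_card this).trans Finset.card_le_two
    omega
  · rw [h2] at h3
    have : (3 * (3 ^ 2 - 1)).primeFactors ⊆ {2, 3} := by
      intro p hp
      have h5 := Nat.dvd_of_mem_primeFactors hp
      have h6 := Nat.prime_of_mem_primeFactors hp
      have h7 : p ∣ 2 ^ 3 * 3 := h5
      rcases h6.dvd_mul.1 h7 with h8 | h8
      · simp [(Nat.prime_dvd_prime_iff_eq h6 Nat.prime_two).1 (h6.dvd_of_dvd_pow h8)]
      · simp [(Nat.prime_dvd_prime_iff_eq h6 Nat.prime_three).1 h8]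
    have := (Finset.card_le_card this).trans Finset.card_le_two
    omega

theorem jr [Finite G] (h : AtMost G) (hJ : IsJR G) : False := by
  obtain ⟨⟨S, hS, -⟩, F, _, _, -, h5, hC⟩ := hJ
  have : Fact (Nat.Prime 2) := ⟨Nat.prime_two⟩
  have h2 : 2 ∣ Nat.card G := (show 2 ∣ Nat.card (S : Subgroup G) by rw [hS]; norm_num).trans (Subgroup.card_subgroup_dvd_card _)
  obtain ⟨t, ht⟩ := exists_prime_orderOf_dvd_card' 2 h2
  obtain ⟨e⟩ := hC t ht
  have h3 := three_le_card (Fintype.isPrimePow_card_of_field (α := F)) (by omega)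
  rw [← card_factors F] at h3
  set L := Matrix.ProjectiveSpecialLinearGroup (Fin 2) F
  have h4 : 1 < ((Nat.card L).primeFactors.erase 2).card := by
    have := Finset.pred_card_le_card_erase (a := 2) (s := (Nat.card L).primeFactors)
    omega
  obtain ⟨r, hr, s, hs, hrs⟩ := Finset.one_lt_card.1 h4
  have key : ∀ r ∈ (Nat.card L).primeFactors.erase 2, (∃ x : G, orderOf x = 2 * r) ∧ r.Prime := by
    intro r hr
    have hr2 := Finset.ne_of_mem_erase hr
    have hr' := Finset.mem_of_mem_erase hr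
    have hrp := Nat.prime_of_mem_primeFactors hr'
    refine ⟨?_, hrp⟩
    have : Fact r.Prime := ⟨hrp⟩
    obtain ⟨x, hx⟩ := exists_prime_orderOf_dvd_card' (G := L) r (Nat.dvd_of_mem_primeFactors hr')
    refine ⟨(e.symm (Multiplicative.ofAdd 1, x) : Subgroup.centralizer ({t} : Set G)), ?_⟩
    rw [Subgroup.orderOf_coe, MulEquiv.orderOf_eq, Prod.orderOf_mk, hx, orderOf_ofAdd_eq_addOrderOf,
      ZMod.addOrderOf_one]
    exact (Nat.coprime_primes Nat.prime_two hrp).2 (Ne.symm hr2) |>.lcm_eq_mul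
  have h6 := h.eq (key r hr).1 (key s hs).1 (by have := (key r hr).2.two_le; omega) (by have := (key s hs).2.two_le; omega)
    (Nat.not_prime_mul (by norm_num) (key r hr).2.ne_one) (Nat.not_prime_mul (by norm_num) (key s hs).2.ne_one)
  omega

/-- **The theorem from its inputs.** -/
theorem main [Finite G] [IsSimpleGroup G] (h : AtMost G) (hna : ¬ IsMulCommutative G)
    (h348 : (∀ t : G, orderOf t = 2 → IsPGroup 2 (Subgroup.centralizer ({t} : Set G))) →
      (∃ (F : Type) (_ : Field F) (_ : Fintype F),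
          (Fintype.card F = 9 ∨ (∃ n : ℕ, Fintype.card F = 2 ^ n) ∨
            ((Fintype.card F).Prime ∧ ∃ k : ℕ, Fintype.card F = 2 ^ k + 1 ∨ Fintype.card F + 1 = 2 ^ k)) ∧
          Nonempty (G ≃* Matrix.ProjectiveSpecialLinearGroup (Fin 2) F)) ∨
      (∃ (F : Type) (_ : Field F) (_ : Fintype F), Fintype.card F = 4 ∧
          Nonempty (G ≃* Matrix.ProjectiveSpecialLinearGroup (Fin 3) F)) ∨ Cfsg.IsSuzuki G)
    (hthree : ¬ 3 ∣ Nat.card G → Cfsg.Lie.IsoSuzuki G)
    (hwalter : ∀ S : Sylow 2 G, (∀ a ∈ (S : Subgroup G), ∀ b ∈ (S : Subgroup G), a * b = b * a) → WType G) :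
    (∃ (F : Type) (_ : Field F) (_ : Fintype F), (Fintype.card F = 5 ∨ Fintype.card F = 7 ∨ Fintype.card F = 8 ∨ Fintype.card F = 9 ∨
        Fintype.card F = 11 ∨ Fintype.card F = 13 ∨ Fintype.card F = 16) ∧ Nonempty (G ≃* Matrix.ProjectiveSpecialLinearGroup (Fin 2) F)) ∨
    (∃ (F : Type) (_ : Field F) (_ : Fintype F), Fintype.card F = 4 ∧ Nonempty (G ≃* Matrix.ProjectiveSpecialLinearGroup (Fin 3) F)) ∨
    (∃ (F : Type) (_ : Field F) (_ : Fintype F), Fintype.card F = 8 ∧ Nonempty (G ≃* ↥(Cfsg.Lie.Sz F 4))) ∨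
    (∃ (F : Type) (_ : Field F) (_ : Fintype F), ∃ n r s : ℕ, r.Prime ∧ s.Prime ∧ 3 ^ n - 1 = 2 * r ∧ 3 ^ n + 1 = 4 * s ∧
        Fintype.card F = 3 ^ n ∧ Nonempty (G ≃* Matrix.ProjectiveSpecialLinearGroup (Fin 2) F)) ∨
    (∃ (F : Type) (_ : Field F) (_ : Fintype F), ∃ n r : ℕ, (2 ^ n - 1).Prime ∧ r.Prime ∧ 2 ^ n + 1 = 3 * r ∧
        Fintype.card F = 2 ^ n ∧ Nonempty (G ≃* Matrix.ProjectiveSpecialLinearGroup (Fin 2) F)) := by
  by_cases h4 : ∃ x : G, orderOf x = 4
  · rcases h348 (cit h h4) with ⟨F, _, _, -, ⟨e⟩⟩ | h1 | h1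
    · exact (psl (four_le hna e) h e).imp_right fun h1 => Or.inr (Or.inr h1)
    · exact Or.inr (Or.inl h1)
    · obtain ⟨F, _, _, m, hm, hF, ⟨e⟩⟩ := hthree (StdU3.EndLie.not_three_dvd_suzuki h1)
      have h1 := suzuki hm hF h h4 e
      subst h1
      exact Or.inr (Or.inr (Or.inl ⟨F, _, _, hF, ⟨e⟩⟩))
  · obtain ⟨S⟩ : Nonempty (Sylow 2 G) := inferInstance
    rcases hwalter S (sylow_comm h4 S) with ⟨F, _, _, -, -, -, ⟨e⟩⟩ | ⟨F, _, _, -, -, ⟨e⟩⟩ | h1
    · exact (psl (four_le hna e) h e).imp_right fun h1 => Or.inr (Or.inr h1)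
    · exact (psl (four_le hna e) h e).imp_right fun h1 => Or.inr (Or.inr h1)
    · exact (jr h h1).elim

end Cfsg.Agent.H436.CompOne
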