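import Cfsg.Agent.H436.PslTwo
import Cfsg.Agent.H436.KFourNum

/-!
# Simple groups with four prime divisors: a prime divides the order exactly once (helper436)
-/

set_option autoImplicit false
open Cfsg

namespace Cfsg.Agent.H436.Core3721

open Cfsg.Agent.H436 Cfsg.Agent.OrdDiv

/-- a small prime divides `n` exactly once -/
def sp (n : ℕ) : Bool := smallPrimes.any fun p => n % p == 0 && n % p ^ 2 != 0

theorem sp_spec {n : ℕ} (h : sp n = true) : ∃ p : ℕ, p.Prime ∧ p ∣ n ∧ ¬ p ^ 2 ∣ n := by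
  unfold sp at h
  rw [List.any_eq_true] at h
  obtain ⟨p, hp, h1⟩ := h
  rw [Bool.and_eq_true] at h1
  refine ⟨p, smallPrimes_prime p hp, Nat.dvd_of_mod_eq_zero (by simpa using h1.1), fun h2 => ?_⟩
  rw [Nat.mod_eq_zero_of_dvd h2] at h1
  exact absurd h1.2 (by decide)

theorem filter_eq : (KFL.filter fun g => !(sp (ordN g))) = [.psp 2 7] := by decide

/-- Suzuki groups with four prime divisors -/
theorem suzuki {m c : ℕ} (hm : 1 ≤ m)
    (hc : c = (2 ^ (2 * m + 1)) ^ 2 * ((2 ^ (2 * m + 1) - 1) * ((2 ^ (2 * m + 1)) ^ 2 + 1)))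
    (h4 : c.primeFactors.card = 4) : ∃ p : ℕ, p.Prime ∧ p ∣ c ∧ ¬ p ^ 2 ∣ c := by
  set q := 2 ^ (2 * m + 1) with hq
  set t := 2 ^ (m + 1) with ht
  have htt : t * t = 2 * q := by
    rw [ht, hq, ← pow_add, ← pow_succ']
    congr 1
    omega
  have ht4 : 4 ≤ t := by
    calc 4 = 2 ^ 2 := by norm_num
      _ ≤ 2 ^ (m + 1) := Nat.pow_le_pow_right (by norm_num) (by omega)
  have hq2 : 2 * t ≤ q := by nlinarith
  have hqe : q % 2 = 0 := by rw [hq, pow_succ]; omega
  have hte : t % 2 = 0 := by rw [ht, pow_succ]; omega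
  obtain ⟨A, hA⟩ : ∃ A, A + t = q + 1 := ⟨q + 1 - t, by omega⟩
  have hAB : A * (q + t + 1) = q ^ 2 + 1 := by
    have h1 : (A : ℤ) = q + 1 - t := by omega
    have h2 : (t : ℤ) * t = 2 * q := by exact_mod_cast htt
    have h3 : (A : ℤ) * (q + t + 1) = q ^ 2 + 1 := by
      rw [h1]; linear_combination -h2
    exact_mod_cast h3
  -- `A` and `A + 2 t` are coprime
  have hcAB : A.Coprime (q + t + 1) := by
    rw [show q + t + 1 = A + 2 * t by omega, Nat.coprime_self_add_right, show 2 * t = 2 ^ (m + 2) by rw [ht]; ring]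
    exact Nat.Coprime.pow_right _ (Nat.coprime_two_right.2 (Nat.odd_iff.2 (by omega)))
  obtain ⟨k, hk⟩ : ∃ k, q = k + 1 := ⟨q - 1, by omega⟩
  have hcq : k.Coprime (q ^ 2 + 1) := by
    have h1 : q ^ 2 + 1 = k * (k + 2) + 2 := by rw [hk]; ring
    rw [h1, Nat.coprime_mul_left_add_right]
    exact Nat.coprime_two_right.2 (Nat.odd_iff.2 (by omega))
  have hcodd : (q ^ 2).Coprime (k * (q ^ 2 + 1)) := by
    rw [hq, ← pow_mul]
    apply Nat.Coprime.pow_left
    rw [Nat.coprime_two_left, pow_mul, ← hq]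
    refine (Nat.odd_iff.2 (by omega)).mul (Even.add_one ?_)
    exact (Nat.even_iff.2 hqe).pow_of_ne_zero two_ne_zero
  have hk' : q - 1 = k := by omega
  rw [hk'] at hc
  have h5 : (q ^ 2).primeFactors.card = 1 := by
    rw [hq, ← pow_mul]
    exact card_prime_pow Nat.prime_two (by omega)
  rw [hc, card_mul hcodd, h5, card_mul hcq, ← hAB, card_mul hcAB] at h4
  have ha := one_le_card (a := A) (by omega)
  have hb := one_le_card (a := q + t + 1) (by omega)
  have hd := one_le_card (a := k) (by omega)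
  obtain ⟨r, j, hr, hj, hrj⟩ := exists_eq_pow (a := k) (by omega)
  have hj1 := pow_add_one_eq hr (f := 2 * m + 1) (by omega) (by rw [← hrj, ← hq, hk])
  rw [hj1, pow_one] at hrj
  refine HasSimplePrime.mk' hr (M := q ^ 2 * (q ^ 2 + 1)) (by rw [hc, ← hrj]; ring) ?_
  intro hd
  rcases hr.dvd_mul.1 hd with h6 | h6
  · have h7 : r ∣ k * (q ^ 2 + 1) := by rw [← hrj]; exact Dvd.intro _ rfl
    exact hr.ne_one (Nat.eq_one_of_dvd_coprimes hcodd h6 h7)
  · exact hr.ne_one (Nat.eq_one_of_dvd_coprimes hcq (by rw [hrj]) h6)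

/-- Let G be a finite non-abelian simple group whose order has exactly four distinct prime divisors. Then some prime divides the order of G exactly to the first power, unless G is isomorphic to PSp₄(7) (whose order is 2⁸·3²·5²·7⁴). -/
theorem core {G : Type*} [Group G] [Finite G] {g : Grp} (hg : IsNamed g G)
    (h4 : (Nat.card G).primeFactors.card = 4) :
    (∃ p : ℕ, p.Prime ∧ p ∣ Nat.card G ∧ ¬ p ^ 2 ∣ Nat.card G) ∨
    (∃ (F : Type) (_ : Field F) (_ : Fintype F), Fintype.card F = 7 ∧ Nonempty (G ≃* Cfsg.PSp 2 F)) := by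
  rcases k_four hg h4.le with ⟨q, rfl⟩ | ⟨q, rfl⟩ | h
  · -- `L₂(q)`
    left
    obtain ⟨-, h5, hq⟩ := hg.cond
    have h5' := h5 rfl
    obtain ⟨p, f, hp, hf, rfl⟩ := (isPrimePow_nat_iff q).1 hq
    by_cases hp2 : p = 2
    · subst hp2
      have hf2 : 2 ≤ f := by
        rcases Nat.lt_or_ge f 2 with h6 | h6
        · obtain rfl : f = 1 := by omega
          omega
        · exact h6
      have he := psl_two_even hq.two_le
        (Nat.mod_eq_zero_of_dvd (dvd_pow_self 2 (by omega))) hg.eq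
      exact simple_even hf2 he h4
    · have hodd : p ^ f % 2 = 1 := Nat.odd_iff.1 (hp.odd_of_ne_two hp2).pow
      have he := psl_two_odd hq.two_le hodd hg.eq
      exact simple_odd hp hp2 hf (by omega) he h4
  · -- Suzuki groups
    left
    obtain ⟨m, hm, rfl⟩ := hg.cond
    have h1 : 1 * Nat.card G = (2 ^ (2 * m + 1)) ^ 2 * ((2 ^ (2 * m + 1) - 1) * ((2 ^ (2 * m + 1)) ^ 2 + 1)) := hg.eq
    rw [one_mul] at h1
    exact suzuki hm h1 h4
  · by_cases hs : sp (ordN g) = true
    · left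
      rw [hg.ord]
      exact sp_spec hs
    · right
      have h1 : g ∈ KFL.filter fun g => !(sp (ordN g)) := by
        rw [List.mem_filter]
        exact ⟨h, by simpa using hs⟩
      rw [filter_eq, List.mem_singleton] at h1
      subst h1
      exact hg.real

end Cfsg.Agent.H436.Core3721
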