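import Cfsg.Agent.BpSpor.HeThree

/-!
# `He`: `|C(t) ∩ C(x)|` divides 56 for an involution `t` and an element `x` of order 7 (helper436)
-/

set_option autoImplicit false

namespace Cfsg.Agent.H436.HeSeven

open Subgroup Cfsg Cfsg.Agent.KFacts.TwoSix.SheetDef Cfsg.Agent.BpSpor

/-- a perfect group of order 168: centralizers of elements of order 7 -/
theorem card_cent_168 {Y : Type*} [Group Y] [Finite Y] (hperf : commutator Y = ⊤) (hY : Nat.card Y = 168) {w : Y}
    (hw : orderOf w = 7) : Nat.card ↥(centralizer ({w} : Set Y)) = 7 := by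
  have h7 : Fact (Nat.Prime 7) := ⟨by norm_num⟩
  obtain ⟨c', r', s', hc', hm', hr1', hr', hs1', hs'⟩ := SylowData.data hperf (by rw [hY]; norm_num) hw
  rw [hY] at hm'
  have h5 : c' * r' * s' = 24 := by
    have h6 : 7 * (c' * r' * s') = 7 * 24 := by
      calc 7 * (c' * r' * s') = 7 * c' * r' * s' := by ring
        _ = 7 * 24 := by rw [hm']
    exact Nat.eq_of_mul_eq_mul_left (by norm_num) h6
  have h6 : s' ∣ 24 := Dvd.intro_left _ h5
  have h7' : s' ≤ 24 := Nat.le_of_dvd (by norm_num) h6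
  have h8 : s' = 8 := by
    interval_cases s' <;> first | rfl | (exfalso; omega)
  subst h8
  have h9 : c' * r' = 3 := by omega
  have h10 : c' ∣ 3 := Dvd.intro _ h9
  have h11 : c' = 1 := by
    rcases (Nat.dvd_prime Nat.prime_three).1 h10 with h | h
    · exact h
    · exfalso
      rw [h] at h9
      exact hr1' (by omega)
  rw [hc', h11]

section Sheet

variable {G : Type*} [Group G] [Finite G] {z : G} {P R E E' : Subgroup G}

theorem order_mk {Y : Type*} [Group Y] [Finite Y] (N : Subgroup Y) [N.Normal] {n : ℕ} (hN : Nat.card N = 2 ^ n) {x : Y}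
    (hx : orderOf x = 7) : orderOf (QuotientGroup.mk' N x) = 7 := by
  have h3 : Fact (Nat.Prime 7) := ⟨by norm_num⟩
  refine orderOf_eq_prime ?_ ?_
  · rw [← map_pow, ← hx, pow_orderOf_eq_one, map_one]
  · intro h
    rw [← MonoidHom.mem_ker, QuotientGroup.ker_mk'] at h
    exact Cen.not_mem_of_card (by norm_num) (by norm_num) hN hx h

/-- `C(z) ∩ C(x)` for `x` of order 7 in `C(z) = 2^{1+6}:L3(2)` -/
theorem card_sheet_seven (S : Sheet z P R E E') (hP : P = centralizer ({z} : Set G)) {x : G} (hx : orderOf x = 7)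
    (hxz : x * z = z * x) : Nat.card ↥(centralizer ({z} : Set G) ⊓ centralizer ({x} : Set G)) ∣ 56 := by
  have h3 : Fact (Nat.Prime 7) := ⟨by norm_num⟩
  have hp7 : Nat.Prime 7 := by norm_num
  have hxP : x ∈ P := by rw [hP]; exact mem_centralizer_singleton_iff.2 hxz
  rw [← hP]
  have hEP : E ≤ P := S.h1.ER.trans S.RP
  set E1 : Subgroup ↥P := E.subgroupOf P with hE1
  set R1 : Subgroup ↥P := R.subgroupOf P with hR1
  have hE1n : E1.Normal := ⟨fun e he p => mem_subgroupOf.2 (S.h1.norE p p.2 e he)⟩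
  have hR1n : R1.Normal := ⟨fun e he p => mem_subgroupOf.2 (S.norR p p.2 e he)⟩
  have cE1 : Nat.card E1 = 16 := by
    rw [Nat.card_congr (subgroupOfEquivOfLe hEP).toEquiv, S.h1.cardE]
  have cR1 : Nat.card R1 = 128 := by
    rw [Nat.card_congr (subgroupOfEquivOfLe S.RP).toEquiv, S.cardR]
  -- `E`
  have k1 : Nat.card ↥(E ⊓ centralizer ({x} : Set G)) ∣ 2 := by
    obtain ⟨i, hi, hie, hm⟩ := Cen.exists_fix (N := E) (n := 4) (by rw [S.h1.cardE]; norm_num) hx
      (fun y hy => S.h1.norE x hxP y hy) (fun h => by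
        have h1 := S.h1.cE x hxP h
        exact Cen.not_mem_of_card hp7 (by norm_num) (n := 4) (by rw [S.h1.cardE]; norm_num) hx h1)
    rw [hie]
    interval_cases i
    · norm_num
    · norm_num
    · exact absurd hm (by decide)
    · exact absurd hm (by decide)
  let q1 : ↥P →* ↥P ⧸ E1 := QuotientGroup.mk' E1
  let x1 : ↥P := ⟨x, hxP⟩
  have hx1 : orderOf x1 = 7 := by rw [← Subgroup.orderOf_coe]; exact hx
  have k2 := Cen.card_inf_dvd (C := P) (N := E) q1 (fun c hc => by
    have h1 : c ∈ q1.ker := hc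
    rw [QuotientGroup.ker_mk'] at h1
    exact mem_subgroupOf.1 h1) x1
  -- `R / E`
  set R2 : Subgroup (↥P ⧸ E1) := R1.map q1 with hR2
  have hR2n : R2.Normal := hR1n.map q1 (QuotientGroup.mk'_surjective _)
  have hER1 : E1 ≤ R1 := fun e he => mem_subgroupOf.2 (S.h1.ER (mem_subgroupOf.1 he))
  have cR2 : Nat.card R2 = 8 := by
    have h1 : Nat.card E1 * Nat.card R2 = Nat.card R1 := by
      have h4 : Nat.card R2 = E1.relIndex R1 := by
        have h5 := Subgroup.relIndex_ker (f := q1) (K := R1)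
        rw [QuotientGroup.ker_mk'] at h5
        exact h5.symm
      rw [h4]
      have h5 := (E1.subgroupOf R1).card_mul_index
      rwa [Nat.card_congr (subgroupOfEquivOfLe hER1).toEquiv] at h5
    rw [cE1, cR1] at h1
    omega
  have hx2 : orderOf (q1 x1) = 7 := order_mk E1 (n := 4) (by rw [cE1]; norm_num) hx1
  have k3 : Nat.card ↥(R2 ⊓ centralizer ({q1 x1} : Set (↥P ⧸ E1))) ∣ 1 := by
    obtain ⟨i, hi, hie, hm⟩ := Cen.exists_fix (N := R2) (n := 3) (by rw [cR2]; norm_num) hx2
      (fun y hy => hR2n.conj_mem y hy _) (fun h => by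
        have h1 : x ∈ R := by
          refine S.h1.tR x hxP fun r hr => ?_
          have h4 : q1 (x1 * ⟨r, S.RP hr⟩ * x1⁻¹ * (⟨r, S.RP hr⟩ : ↥P)⁻¹) = 1 := by
            have h5 := h (q1 ⟨r, S.RP hr⟩) ⟨_, hr, rfl⟩
            rw [map_mul, map_mul, map_mul, map_inv, map_inv, h5]
            group
          have h5 : x1 * ⟨r, S.RP hr⟩ * x1⁻¹ * (⟨r, S.RP hr⟩ : ↥P)⁻¹ ∈ q1.ker := h4
          rw [QuotientGroup.ker_mk'] at h5
          exact mem_subgroupOf.1 h5
        exact Cen.not_mem_of_card hp7 (by norm_num) (n := 7) (by rw [S.cardR]; norm_num) hx h1)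
    rw [hie]
    interval_cases i
    · norm_num
    · exact absurd hm (by decide)
    · exact absurd hm (by decide)
  -- `P / R`
  let q2 : (↥P ⧸ E1) →* (↥P ⧸ E1) ⧸ R2 := QuotientGroup.mk' R2
  have cY : Nat.card ((↥P ⧸ E1) ⧸ R2) = 168 := by
    have h1 : Nat.card (↥P ⧸ E1) * Nat.card E1 = Nat.card ↥P := (Subgroup.card_eq_card_quotient_mul_card_subgroup E1).symm
    have h4 : Nat.card ((↥P ⧸ E1) ⧸ R2) * Nat.card R2 = Nat.card (↥P ⧸ E1) :=
      (Subgroup.card_eq_card_quotient_mul_card_subgroup R2).symm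
    rw [S.cardP, cE1] at h1
    rw [cR2] at h4
    omega
  have hperf : commutator ((↥P ⧸ E1) ⧸ R2) = ⊤ := by
    have h1 : commutator ↥P = ⊤ := by
      have h4 : (commutator ↥P).map P.subtype = ⁅P, P⁆ := by
        rw [commutator_def, Subgroup.map_commutator]
        rw [← MonoidHom.range_eq_map, Subgroup.range_subtype]
      rw [S.perf] at h4
      have h5 : (commutator ↥P).map P.subtype = (⊤ : Subgroup ↥P).map P.subtype := by
        rw [h4, ← MonoidHom.range_eq_map, Subgroup.range_subtype]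
      exact Subgroup.map_injective P.subtype_injective h5
    have hs : Function.Surjective (q2.comp q1) :=
      (QuotientGroup.mk'_surjective _).comp (QuotientGroup.mk'_surjective _)
    have h4 : (commutator ↥P).map (q2.comp q1) = commutator ((↥P ⧸ E1) ⧸ R2) := by
      rw [commutator_def, Subgroup.map_commutator, commutator_def, ← MonoidHom.range_eq_map,
        MonoidHom.range_eq_top.2 hs]
    rw [← h4, h1, ← MonoidHom.range_eq_map, MonoidHom.range_eq_top.2 hs]
  have hx3 : orderOf (q2 (q1 x1)) = 7 := order_mk R2 (n := 3) (by rw [cR2]; norm_num) hx2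
  have k4 := card_cent_168 hperf cY hx3
  have k5 := Cen.card_inf_dvd (C := (⊤ : Subgroup (↥P ⧸ E1))) (N := R2) (q2.comp (⊤ : Subgroup (↥P ⧸ E1)).subtype)
    (fun c hc => by
      have h1 : (c : ↥P ⧸ E1) ∈ q2.ker := hc
      rwa [QuotientGroup.ker_mk'] at h1) ⟨q1 x1, mem_top _⟩
  rw [top_inf_eq] at k5
  have k6 : Nat.card ↥(centralizer ({q1 x1} : Set (↥P ⧸ E1))) ∣ 1 * 7 := k5.trans (Nat.mul_dvd_mul k3 (dvd_of_eq k4))
  exact k2.trans ((Nat.mul_dvd_mul k1 k6).trans (by norm_num))

end Sheet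

section TwoA

open Cfsg.Spor.He Cfsg.Agent.SporadicB.HePerm Cfsg.Agent.FixBN.HeStab
open Cfsg.Agent.KFacts.He.Lv Cfsg.Agent.KFacts.He.TwoACent Cfsg.Agent.KFacts.He.TwoAPlane
open Cfsg.Agent.ONType.Psl (PSL3)

theorem mem_L {x : Spor.He} (hx : orderOf x = 7) (hxa : x * gn .a = gn .a * x) : x ∈ L := by
  have h1 : x * x ∈ L := by
    rcases two hxa hxa with h | h | h
    · exact L.mul_mem h h
    · exact L.mul_mem h h
    · exact h
  have h2 : x = (x * x) ^ 4 := by
    have h3 : x ^ 7 = 1 := by rw [← hx, pow_orderOf_eq_one]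
    calc x = x ^ 7 * x := by rw [h3, one_mul]
      _ = (x * x) ^ 4 := by rw [← pow_succ, ← pow_two, ← pow_mul]
  rw [h2]
  exact L.pow_mem h1 _

theorem card_a_seven {x : Spor.He} (hx : orderOf x = 7) (hxa : x * gn .a = gn .a * x) :
    Nat.card ↥(centralizer ({gn .a} : Set Spor.He) ⊓ centralizer ({x} : Set Spor.He)) ∣ 56 := by
  have := HeThree.finite_he
  have hfin : Finite PSL3 := Cfsg.Agent.CpAut.SmallP.PslFour.finite_PSL3
  have hp7 : Nat.Prime 7 := by norm_num
  have hxL := mem_L hx hxa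
  set D := centralizer ({gn .a} : Set Spor.He) ⊓ centralizer ({x} : Set Spor.He) with hD
  have h1 := Cen.card_of_two D L fun c hc d hd =>
    two (mem_centralizer_singleton_iff.1 hc.1) (mem_centralizer_singleton_iff.1 hd.1)
  have h2 : Nat.card ↥(D ⊓ L) ∣ Nat.card ↥(L ⊓ centralizer ({x} : Set Spor.He)) :=
    card_dvd_of_le fun c hc => ⟨hc.2, hc.1.2⟩
  have ho : orderOf (Th ⟨x, hxL⟩) = 7 := by
    have h3 : Fact (Nat.Prime 7) := ⟨hp7⟩
    refine orderOf_eq_prime ?_ ?_
    · rw [← map_pow]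
      have h4 : (⟨x, hxL⟩ : ↥L) ^ 7 = 1 := Subtype.ext (by rw [Subgroup.coe_pow, ← hx]; exact pow_orderOf_eq_one x)
      rw [h4, map_one]
    · intro h
      have h4 : (⟨x, hxL⟩ : ↥L) ∈ Th.ker := h
      rw [ker_Th] at h4
      exact Cen.not_mem_of_card hp7 (by norm_num) (N := V) (n := 2) (by rw [card_V]; norm_num) hx
        (mem_subgroupOf.1 h4)
  have h3 := Cen.card_inf_dvd (C := L) (N := V) Th (fun c hc => by
    have h4 : c ∈ Th.ker := hc
    rw [ker_Th] at h4
    exact mem_subgroupOf.1 h4) ⟨x, hxL⟩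
  have h4 := LFour.card_seven ho
  have h5 : Nat.card ↥(V ⊓ centralizer ({x} : Set Spor.He)) ∣ 4 := by
    rw [← card_V]
    exact card_dvd_of_le inf_le_left
  exact h1.trans ((Nat.mul_dvd_mul_left 2 (h2.trans (h3.trans (Nat.mul_dvd_mul h5 (dvd_of_eq h4))))).trans
    (by norm_num))

end TwoA

/-- the property is invariant under conjugation -/
theorem card_conj {K : Type*} [Group K] {t x : K} (g : K) :
    Nat.card ↥(centralizer ({g * t * g⁻¹} : Set K) ⊓ centralizer ({g * x * g⁻¹} : Set K)) =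
      Nat.card ↥(centralizer ({t} : Set K) ⊓ centralizer ({x} : Set K)) := by
  have h1 : ∀ y : K, centralizer ({g * y * g⁻¹} : Set K) = (centralizer ({y} : Set K)).map (MulAut.conj g).toMonoidHom := by
    intro y
    ext c
    rw [Subgroup.mem_map_equiv, mem_centralizer_singleton_iff, mem_centralizer_singleton_iff,
      MulAut.conj_symm_apply]
    constructor
    · intro h
      calc g⁻¹ * c * g * y = g⁻¹ * (c * (g * y * g⁻¹)) * g := by group
        _ = g⁻¹ * (g * y * g⁻¹ * c) * g := by rw [h]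
        _ = y * (g⁻¹ * c * g) := by group
    · intro h
      calc c * (g * y * g⁻¹) = g * (g⁻¹ * c * g * y) * g⁻¹ := by group
        _ = g * (y * (g⁻¹ * c * g)) * g⁻¹ := by rw [h]
        _ = g * y * g⁻¹ * c := by group
  rw [h1, h1, ← Subgroup.map_inf _ _ _ (MulAut.conj g).injective]
  exact (Nat.card_congr ((_ : Subgroup K).equivMapOfInjective _ (MulAut.conj g).injective).toEquiv).symm

/-- **all involutions of `He`** -/
theorem card_dvd {F : Type*} [Group F] (h : Spor.IsoHe F) {t x : F} (ht : orderOf t = 2) (hx : orderOf x = 7)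
    (hxt : x * t = t * x) : Nat.card ↥(centralizer ({t} : Set F) ⊓ centralizer ({x} : Set F)) ∣ 56 := by
  obtain ⟨e⟩ := h
  have := HeThree.finite_he
  -- transport
  have key : ∀ {t x : Spor.He}, orderOf t = 2 → orderOf x = 7 → x * t = t * x →
      Nat.card ↥(centralizer ({t} : Set Spor.He) ⊓ centralizer ({x} : Set Spor.He)) ∣ 56 := by
    intro t x ht hx hxt
    have htt : t * t = 1 := by rw [← pow_two, ← ht, pow_orderOf_eq_one]
    have ht1 : t ≠ 1 := by
      rintro rfl
      rw [orderOf_one] at ht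
      omega
    have hconj : ∀ g : Spor.He, (g * x * g⁻¹) * (g * t * g⁻¹) = (g * t * g⁻¹) * (g * x * g⁻¹) := by
      intro g
      calc (g * x * g⁻¹) * (g * t * g⁻¹) = g * (x * t) * g⁻¹ := by group
        _ = g * (t * x) * g⁻¹ := by rw [hxt]
        _ = _ := by group
    have ho : ∀ g : Spor.He, orderOf (g * x * g⁻¹) = 7 := by
      intro g
      rw [← hx]
      exact MulEquiv.orderOf_eq (MulAut.conj g) x
    rcases HeThree.classes htt ht1 with h | h
    · obtain ⟨g, hg⟩ := isConj_iff.1 h.symm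
      rw [← card_conj g, hg]
      have S := KFacts.TwoSix.Sheet.sheet_of KFacts.He.Hyp.hyp.inj
      rw [KFacts.He.Hyp.hyp.map_zz] at S
      refine card_sheet_seven S ?_ (ho g) (by rw [← hg]; exact hconj g)
      rw [KFacts.He.Hyp.hyp.range]
    · obtain ⟨g, hg⟩ := isConj_iff.1 h.symm
      rw [← card_conj g, hg]
      exact card_a_seven (ho g) (by rw [← hg]; exact hconj g)
  have h1 := key (t := e t) (x := e x) (by rw [MulEquiv.orderOf_eq, ht]) (by rw [MulEquiv.orderOf_eq, hx])
    (by rw [← map_mul, hxt, map_mul])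
  have h2 : (centralizer ({t} : Set F) ⊓ centralizer ({x} : Set F)).map e.toMonoidHom =
      centralizer ({e t} : Set Spor.He) ⊓ centralizer ({e x} : Set Spor.He) := by
    ext c
    obtain ⟨c, rfl⟩ := e.surjective c
    constructor
    · rintro ⟨d, hd, hdc⟩
      have h3 : d = c := e.injective hdc
      subst h3
      refine ⟨mem_centralizer_singleton_iff.2 ?_, mem_centralizer_singleton_iff.2 ?_⟩
      · rw [← map_mul, mem_centralizer_singleton_iff.1 hd.1, map_mul]
      · rw [← map_mul, mem_centralizer_singleton_iff.1 hd.2, map_mul]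
    · rintro ⟨h3, h4⟩
      refine ⟨c, ⟨mem_centralizer_singleton_iff.2 ?_, mem_centralizer_singleton_iff.2 ?_⟩, rfl⟩
      · apply e.injective
        rw [map_mul, map_mul]
        exact mem_centralizer_singleton_iff.1 h3
      · apply e.injective
        rw [map_mul, map_mul]
        exact mem_centralizer_singleton_iff.1 h4
  rw [← h2] at h1
  rwa [← Nat.card_congr ((centralizer ({t} : Set F) ⊓ centralizer ({x} : Set F)).equivMapOfInjective _
    e.injective).toEquiv] at h1

end Cfsg.Agent.H436.HeSeven
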