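import Cfsg.Agent.H740.K4.Scheme

/-!
# Krein parameters and the symmetric square (helper436)

`G` acts on `X` with the colouring `c` (rank `|ι|` scheme), `ω₁`, `ω` spherical functions of the irreducible
constituents `χ₁`, `χ` of the permutation character.  If `∑ u, k u * ω₁ u ^ 2 * ω u ≠ 0` then `χ` is a constituent of
the symmetric square of `χ₁`.

Proof: `∑ y, (v y ⊗ v y) ⊗ w y` is a nonzero invariant vector.
-/

set_option autoImplicit false

namespace Cfsg.Agent.H436.Krein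

open Cfsg Cfsg.Agent.Characters.Core Module Cfsg.Agent.PermChar.SymAlt Cfsg.Agent.PermChar.TensorSquare
open scoped BigOperators TensorProduct

universe u v

section Sq

variable {G : Type u} [Group G] {V : Type*} [AddCommGroup V] [Module ℂ V]

/-- the symmetric tensors -/
noncomputable abbrev SymT (V : Type*) [AddCommGroup V] [Module ℂ V] : Submodule ℂ (V ⊗[ℂ] V) :=
  LinearMap.range (proj V 0)

theorem proj_symT {x : V ⊗[ℂ] V} (hx : x ∈ SymT V) : proj V 0 x = x := by
  obtain ⟨y, rfl⟩ := hx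
  rw [← Module.End.mul_apply, proj_mul_proj]

theorem map_symT (ρ : Representation ℂ G V) (g : G) {w : V ⊗[ℂ] V} (hw : w ∈ SymT V) :
    TensorProduct.map (ρ g) (ρ g) w ∈ SymT V := by
  obtain ⟨x, rfl⟩ := hw
  refine ⟨TensorProduct.map (ρ g) (ρ g) x, ?_⟩
  rw [← Module.End.mul_apply, proj_comm, Module.End.mul_apply]

/-- the symmetric square of a representation -/
noncomputable def sqRep (ρ : Representation ℂ G V) : Representation ℂ G (SymT V) where
  toFun g := (TensorProduct.map (ρ g) (ρ g)).restrict fun _ hw => map_symT ρ g hw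
  map_one' := by
    apply LinearMap.ext
    intro w
    apply Subtype.ext
    show TensorProduct.map (ρ 1) (ρ 1) (w : V ⊗[ℂ] V) = w
    rw [map_one]
    exact LinearMap.congr_fun TensorProduct.map_one _
  map_mul' g h := by
    apply LinearMap.ext
    intro w
    apply Subtype.ext
    show TensorProduct.map (ρ (g * h)) (ρ (g * h)) (w : V ⊗[ℂ] V) =
      TensorProduct.map (ρ g) (ρ g) (TensorProduct.map (ρ h) (ρ h) (w : V ⊗[ℂ] V))
    rw [map_mul, TensorProduct.map_mul]
    rfl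

theorem sqRep_val (ρ : Representation ℂ G V) (g : G) (w : SymT V) :
    ((sqRep ρ g w : SymT V) : V ⊗[ℂ] V) = TensorProduct.map (ρ g) (ρ g) (w : V ⊗[ℂ] V) := rfl

theorem char_sqRep [FiniteDimensional ℂ V] (ρ : Representation ℂ G V) (g : G) :
    (sqRep ρ).character g = (ρ.character g ^ 2 + ρ.character (g * g)) / 2 := by
  have hmem : ∀ x, (TensorProduct.map (ρ g) (ρ g) * proj V 0) x ∈ SymT V := by
    intro x
    rw [Module.End.mul_apply]
    exact map_symT ρ g ⟨x, rfl⟩
  have h1 : sqRep ρ g = (TensorProduct.map (ρ g) (ρ g) * proj V 0).restrict (fun v _ => hmem v) := by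
    apply LinearMap.ext
    intro w
    apply Subtype.ext
    show TensorProduct.map (ρ g) (ρ g) (w : V ⊗[ℂ] V) =
      TensorProduct.map (ρ g) (ρ g) (proj V 0 (w : V ⊗[ℂ] V))
    rw [proj_symT w.2]
  show LinearMap.trace ℂ (SymT V) (sqRep ρ g) = _
  rw [h1, trace_restrict, proj, mul_smul_comm, mul_add, mul_one, mul_smul_comm, map_smul, map_add, map_smul,
    trace_map_swap, LinearMap.trace_tensorProduct', ← map_mul ρ]
  show (2 : ℂ)⁻¹ • (ρ.character g * ρ.character g + (-1 : ℂ) ^ 0 • ρ.character (g * g)) = _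
  rw [smul_eq_mul, pow_zero, one_smul]
  ring

/-- the symmetric tensor `v ⊗ v` -/
noncomputable def dbl (v : V) : SymT V := ⟨v ⊗ₜ[ℂ] v, v ⊗ₜ[ℂ] v, by
  rw [proj, LinearMap.smul_apply, LinearMap.add_apply, Module.End.one_apply, pow_zero, one_smul]
  show (2 : ℂ)⁻¹ • (v ⊗ₜ[ℂ] v + v ⊗ₜ[ℂ] v) = v ⊗ₜ[ℂ] v
  rw [← two_smul ℂ, smul_smul, inv_mul_cancel₀ two_ne_zero, one_smul]⟩

theorem sqRep_dbl (ρ : Representation ℂ G V) (g : G) (v : V) : sqRep ρ g (dbl v) = dbl (ρ g v) := by
  apply Subtype.ext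
  rw [sqRep_val]
  exact TensorProduct.map_tmul _ _ _ _

end Sq

/-- a nonzero invariant vector -/
theorem sum_char_ne_zero {G : Type u} [Group G] [Fintype G] {U : Type*} [AddCommGroup U] [Module ℂ U]
    [FiniteDimensional ℂ U] (τ : Representation ℂ G U) {t : U} (ht : ∀ g : G, τ g t = t) (h0 : t ≠ 0) :
    ∑ g : G, τ.character g ≠ 0 := by
  have hcard : (Nat.card G : ℂ) ≠ 0 := by exact_mod_cast (Nat.card_pos (α := G)).ne'
  let _ : Invertible (Nat.card G : ℂ) := invertibleOfNonzero hcard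
  have h1 := Representation.card_inv_mul_sum_char_eq_finrank τ
  intro h2
  rw [h2, mul_zero] at h1
  have h3 : finrank ℂ τ.invariants = 0 := by exact_mod_cast h1.symm
  rw [Submodule.finrank_eq_zero] at h3
  have h4 : t ∈ τ.invariants := (Representation.mem_invariants _ _).2 ht
  rw [h3, Submodule.mem_bot] at h4
  exact h0 h4

/-- **An invariant vector.** -/
theorem sum_ne_zero {G : Type u} [Group G] [Fintype G] {V W : Type*} [AddCommGroup V] [Module ℂ V]
    [FiniteDimensional ℂ V] [AddCommGroup W] [Module ℂ W] [FiniteDimensional ℂ W] (ρ : Representation ℂ G V)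
    (σ : Representation ℂ G W) {X : Type v} [Fintype X] [MulAction G X] (a : X → V)
    (ha : ∀ (g : G) (y : X), ρ g (a y) = a (g • y)) (b : X → W) (hb : ∀ (g : G) (y : X), σ g (b y) = b (g • y))
    (φ : V →ₗ[ℂ] ℂ) (ψ : W →ₗ[ℂ] ℂ) (hne : ∑ y : X, φ (a y) ^ 2 * ψ (b y) ≠ 0) :
    ∑ g : G, (ρ.character g ^ 2 + ρ.character (g * g)) / 2 * σ.character g ≠ 0 := by
  let τ : Representation ℂ G (SymT V ⊗[ℂ] W) := Representation.tprod (sqRep ρ) σ
  have h3 : Representation.character (V := SymT V ⊗[ℂ] W) τ = (sqRep ρ).character * σ.character :=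
    Representation.char_tensor (sqRep ρ) σ
  let t : SymT V ⊗[ℂ] W := ∑ y : X, dbl (a y) ⊗ₜ[ℂ] b y
  have ht : ∀ g : G, τ g t = t := by
    intro g
    rw [map_sum]
    refine Fintype.sum_equiv (MulAction.toPerm g) _ _ fun y => ?_
    show Representation.tprod (sqRep ρ) σ g (dbl (a y) ⊗ₜ[ℂ] b y) = _
    rw [Representation.tprod_apply, TensorProduct.map_tmul, sqRep_dbl, ha, hb]
    rfl
  let μ : SymT V ⊗[ℂ] W →ₗ[ℂ] ℂ := TensorProduct.lift
    (((LinearMap.mul ℂ ℂ).compl₂ ψ).comp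
      ((TensorProduct.lift ((LinearMap.mul ℂ ℂ).compl₁₂ φ φ)).comp (SymT V).subtype))
  have h4 : μ t = ∑ y : X, φ (a y) ^ 2 * ψ (b y) := by
    rw [map_sum]
    refine Finset.sum_congr rfl fun y _ => ?_
    show φ (a y) * φ (a y) * ψ (b y) = _
    ring
  have h5 : t ≠ 0 := by
    intro h0
    apply hne
    rw [← h4, h0, map_zero]
  have h6 := sum_char_ne_zero (U := SymT V ⊗[ℂ] W) τ ht h5
  rw [h3] at h6
  simpa only [Pi.mul_apply, char_sqRep] using h6

variable {G : Type u} [Group G] {X : Type v} [MulAction G X] {ι : Type} [Fintype ι] [DecidableEq ι]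
variable {c : X → X → ι} {o : ι}

open Cfsg.Agent.H816.IMEig Cfsg.Agent.H816.IMEig.Col

/-- **The Krein parameter.** -/
theorem sum_ne_zero_of_krein [Fintype G] [Fintype X] [DecidableEq X] (h : Col G X ι c o) {x₀ z₀ : X}
    {t : ι → ι → ℕ} (ht : ∀ u w, tt c x₀ z₀ u w = t u w) {ω₁ ω : ι → ℂ}
    (hK : ∑ u, ((∑ w, t u w : ℕ) : ℂ) * (ω₁ u ^ 2 * ω u) ≠ 0) :
    ∑ g : G, ((h.sub ω₁).toRepresentation.character g ^ 2 + (h.sub ω₁).toRepresentation.character (g * g)) / 2 *
      (h.sub ω).toRepresentation.character g ≠ 0 := by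
  classical
  refine sum_ne_zero (h.sub ω₁).toRepresentation (h.sub ω).toRepresentation
    (fun y => (⟨ee c ω₁ y, Submodule.subset_span ⟨y, rfl⟩⟩ : (h.sub ω₁).toSubmodule)) ?_
    (fun y => (⟨ee c ω y, Submodule.subset_span ⟨y, rfl⟩⟩ : (h.sub ω).toSubmodule)) ?_
    ((LinearMap.proj x₀).comp (h.sub ω₁).toSubmodule.subtype)
    ((LinearMap.proj x₀).comp (h.sub ω).toSubmodule.subtype) ?_
  · intro g y
    exact Subtype.ext (h.prep_ee ω₁ g y)
  · intro g y
    exact Subtype.ext (h.prep_ee ω g y)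
  · have e : ∑ y : X, ω₁ (c x₀ y) ^ 2 * ω (c x₀ y) = ∑ u, ((∑ w, t u w : ℕ) : ℂ) * (ω₁ u ^ 2 * ω u) := by
      have hk : ∀ u, ∑ w, t u w = kk c x₀ u := fun u => by
        rw [kk_eq_sum x₀ z₀ u]
        exact Finset.sum_congr rfl fun w _ => (ht u w).symm
      simp only [hk]
      have h5 : ∀ u, (kk c x₀ u : ℂ) * (ω₁ u ^ 2 * ω u) = ∑ z, if c x₀ z = u then ω₁ u ^ 2 * ω u else 0 := by
        intro u
        rw [← Finset.sum_filter, Finset.sum_const, nsmul_eq_mul]
        congr 1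
        unfold kk
        rw [Nat.card_eq_fintype_card, Fintype.card_subtype]
      simp only [h5]
      rw [Finset.sum_comm]
      refine Finset.sum_congr rfl fun z _ => ?_
      rw [Finset.sum_ite_eq]
      simp
    intro h0
    exact hK (e ▸ h0)

end Cfsg.Agent.H436.Krein
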